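import Mathlib
import Cfsg.Agent.Blocks.HomocyclicFourier
import Cfsg.Agent.Blocks.LocalRing
import Cfsg.Agent.Blocks.Roots
import Cfsg.Agent.Chars.Galois
import Cfsg.Agent.Chars.Values
import Cfsg.Agent.OddChar.Coherence

/-!
# Signs of virtual characters of abelian `p`-groups

The values of a virtual character of an abelian `p`-group that agree with natural numbers prime to
`p` up to algebraic integers of modulus one agree with them up to a linear character, once the
signs are normalised by a congruence. Also the inclusion-exclusion over the subgroup lattice.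
-/

set_option autoImplicit false
set_option linter.unusedSectionVars false
set_option linter.style.haveILetI false

namespace Cfsg.Lib.Blocks.Frobenius

open Cfsg.Lib.Chars Cfsg.Lib.Blocks Cfsg.Lib.Blocks.Homocyclic
open scoped ComplexConjugate Classical

universe u

/-! ### Inclusion and exclusion -/

section Moebius

variable {L : Type*} [Lattice L] [OrderBot L] [Fintype L]

theorem exists_moebius : ∃ μ : L → ℤ, ∀ W : L,
    ∑ U ∈ Finset.univ.filter (· ≤ W), μ U = if W = ⊥ then 1 else 0 := by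
  let μ : L → ℤ := (Finite.to_wellFoundedLT (α := L)).wf.fix fun W rec =>
    (if W = ⊥ then 1 else 0) - ∑ U : {U // U < W}, rec U U.2
  refine ⟨μ, fun W => ?_⟩
  have h : μ W = (if W = ⊥ then 1 else 0) - ∑ U : {U // U < W}, μ U := WellFounded.fix_eq _ _ _
  have h2 : Finset.univ.filter (· ≤ W) = insert W (Finset.univ.filter (· < W)) := by
    ext U
    simp [le_iff_lt_or_eq, or_comm]
  rw [h2, Finset.sum_insert (by simp), Finset.sum_subtype (p := (· < W))
    (Finset.univ.filter (· < W)) (fun U => by simp) μ, h]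
  ring

/-- Weisner's identity. -/
theorem weisner (μ : L → ℤ)
    (hμ : ∀ W : L, ∑ U ∈ Finset.univ.filter (· ≤ W), μ U = if W = ⊥ then 1 else 0)
    {a : L} (ha : a ≠ ⊥) (W : L) : ∑ U ∈ Finset.univ.filter (fun U => U ⊔ a = W), μ U = 0 := by
  induction W using (Finite.to_wellFoundedLT (α := L)).wf.induction with
  | h W ih =>
  have h1 : ∑ V ∈ Finset.univ.filter (· ≤ W), ∑ U ∈ Finset.univ.filter (fun U => U ⊔ a = V), μ U =
      ∑ U ∈ Finset.univ.filter (fun U => U ⊔ a ≤ W), μ U := by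
    rw [← Finset.sum_fiberwise_of_maps_to (s := Finset.univ.filter (fun U => U ⊔ a ≤ W))
      (t := Finset.univ.filter (· ≤ W)) (g := fun U => U ⊔ a) (fun U hU => by simpa using hU) μ]
    refine Finset.sum_congr rfl fun V hV => Finset.sum_congr ?_ fun _ _ => rfl
    ext U
    simp only [Finset.mem_filter, Finset.mem_univ, true_and] at hV ⊢
    exact ⟨fun h => ⟨h.le.trans hV, h⟩, fun h => h.2⟩
  have h2 : ∑ U ∈ Finset.univ.filter (fun U => U ⊔ a ≤ W), μ U = 0 := by
    by_cases haW : a ≤ W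
    · rw [show Finset.univ.filter (fun U => U ⊔ a ≤ W) = Finset.univ.filter (· ≤ W) by
        ext U; simp [haW], hμ, if_neg]
      exact fun h => ha (le_bot_iff.1 (h ▸ haW))
    · rw [Finset.filter_eq_empty_iff.2 fun U _ h => haW ((le_sup_right).trans h), Finset.sum_empty]
  rw [h2, show Finset.univ.filter (· ≤ W) = insert W (Finset.univ.filter (· < W)) by
    ext U; simp [le_iff_lt_or_eq, or_comm], Finset.sum_insert (by simp),
    Finset.sum_eq_zero (s := Finset.univ.filter (· < W)) fun V hV => ih V (Finset.mem_filter.1 hV).2,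
    add_zero] at h1
  exact h1

end Moebius

/-- Inclusion and exclusion over the subgroups. -/
theorem exists_generalized_of_sup {R : Type u} [Group R] [Finite R] (Φ : Subgroup R → ℂ)
    (h : ∀ U : Subgroup R, U ≠ ⊥ →
      IsGeneralizedCharacter R fun v => Φ (U ⊔ Subgroup.zpowers v)) :
    ∃ F : R → ℂ, IsGeneralizedCharacter R F ∧ ∀ v, v ≠ 1 → F v = Φ (Subgroup.zpowers v) := by
  letI := Fintype.ofFinite (Subgroup R)
  obtain ⟨μ, hμ⟩ := exists_moebius (L := Subgroup R)
  refine ⟨∑ U ∈ (Finset.univ : Finset (Subgroup R)).erase ⊥,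
    fun v => ((-μ U : ℤ) : ℂ) * Φ (U ⊔ Subgroup.zpowers v), ?_, fun v hv => ?_⟩
  · refine IsGeneralizedCharacter.sum _ _ fun U hU => ?_
    have := IsGeneralizedCharacter.zsmul (h U (Finset.ne_of_mem_erase hU)) (-μ U)
    convert! this using 1
    funext v
    simp [zsmul_eq_mul]
  · have ha : Subgroup.zpowers v ≠ ⊥ := fun e => hv (Subgroup.zpowers_eq_bot.1 e)
    have hbot : μ ⊥ = 1 := by
      have := hμ ⊥
      rwa [if_pos rfl, show Finset.univ.filter (· ≤ (⊥ : Subgroup R)) = {⊥} by ext U; simp,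
        Finset.sum_singleton] at this
    have htot : ∑ U : Subgroup R, (μ U : ℂ) * Φ (U ⊔ Subgroup.zpowers v) = 0 := by
      rw [← Finset.sum_fiberwise Finset.univ (fun U => U ⊔ Subgroup.zpowers v)]
      refine Finset.sum_eq_zero fun W _ => ?_
      rw [Finset.sum_congr rfl (g := fun U => (μ U : ℂ) * Φ W) fun U hU => by
        rw [(Finset.mem_filter.1 hU).2], ← Finset.sum_mul, ← Int.cast_sum, weisner μ hμ ha W,
        Int.cast_zero, zero_mul]
    rw [← Finset.add_sum_erase _ _ (Finset.mem_univ ⊥), hbot, Int.cast_one, one_mul, bot_sup_eq]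
      at htot
    rw [Finset.sum_apply]
    simp only [Int.cast_neg, neg_mul, Finset.sum_neg_distrib]
    linear_combination -htot

/-! ### Values of virtual characters -/

section Values

variable {A : Type u} [Group A] [Finite A] {f : A → ℂ}

theorem gen_conj_inv (hf : IsGeneralizedCharacter A f) (v : A) : conj (f v) = f v⁻¹ := by
  obtain ⟨a, b, ha, hb, rfl⟩ := hf
  simp only [Pi.sub_apply, map_sub, IsCharacter.conj_inv ha, IsCharacter.conj_inv hb]

theorem gen_mem_cycField (hf : IsGeneralizedCharacter A f) {m : ℕ} [NeZero m] {v : A}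
    (hv : orderOf v ∣ m) : f v ∈ cycField m := by
  obtain ⟨a, b, ha, hb, rfl⟩ := hf
  exact sub_mem (IsCharacter.mem_cycField ha hv) (IsCharacter.mem_cycField hb hv)

theorem gen_galois (hf : IsGeneralizedCharacter A f) {m j : ℕ} {σ : ℂ ≃+* ℂ}
    (hσ : IsGalConj σ m j) {v : A} (hv : orderOf v ∣ m) : σ (f v) = f (v ^ j) := by
  obtain ⟨a, b, ha, hb, rfl⟩ := hf
  simp only [Pi.sub_apply, map_sub, hσ.apply_character ha hv, hσ.apply_character hb hv]

end Values

variable {p : ℕ} [Fact p.Prime] {M : Ideal AlgInt}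

/-- Roots of unity of `p`-power order have residue one. -/
lemma res_root_p (hM : IsPModular p M) {z : ℂ} {k : ℕ} (hz : z ^ p ^ k = 1) :
    z ∈ place M ∧ res M z = 1 := by
  haveI := charP_res hM
  have hp : 0 < p ^ k := pow_pos (Fact.out : p.Prime).pos k
  have hz' : z ∈ place M :=
    isIntegral_mem_place hM (IsIntegral.of_pow hp (hz ▸ isIntegral_one))
  refine ⟨hz', sub_eq_zero.1 ?_⟩
  have h1 : res M z ^ p ^ k = 1 := by
    have key : ∀ n : ℕ, z ^ n ∈ place M ∧ res M (z ^ n) = res M z ^ n := fun n => by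
      induction n with
      | zero => exact ⟨by rw [pow_zero]; exact one_mem _, by rw [pow_zero, pow_zero, res_one]⟩
      | succ n ih => exact ⟨pow_mem hz' _, by rw [pow_succ, pow_succ, res_mul ih.1 hz', ih.2]⟩
    rw [← (key (p ^ k)).2, hz, res_one]
  have h2 : (res M z - 1) ^ p ^ k = 0 := by rw [sub_pow_char_pow, h1, one_pow, sub_self]
  exact (pow_eq_zero_iff hp.ne').1 h2

variable {A : Type u} [CommGroup A] [Fintype A]

attribute [local instance high] MonoidHom.instCommGroup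

/-- A virtual character of an abelian group is a combination of linear characters. -/
theorem exists_linear_comb {f : A → ℂ} (hf : IsGeneralizedCharacter A f) :
    ∃ (c : IrrCharacter A → ℤ) (l : IrrCharacter A → A →* ℂˣ),
      ∀ v, f v = ∑ χ, (c χ : ℂ) * ((l χ v : ℂˣ) : ℂ) := by
  obtain ⟨c, rfl⟩ := exists_int_decomp hf
  choose l hl using fun χ : IrrCharacter A =>
    exists_hom_of_deg_one (isCharacter_of_irr χ.2) (irr_deg_one_of_comm mul_comm χ.2)
  refine ⟨c, l, fun v => ?_⟩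
  simp only [Finset.sum_apply, Pi.smul_apply, smul_eq_mul]
  exact Finset.sum_congr rfl fun χ _ => by rw [hl χ]

/-- Integral values of a virtual character of a `p`-group are congruent to the value at one. -/
theorem dvd_sub_apply_one (hM : IsPModular p M) (hA : IsPGroup p A) {f : A → ℂ}
    (hf : IsGeneralizedCharacter A f) {z : A → ℤ} (hz : ∀ v, f v = z v) (v : A) :
    (p : ℤ) ∣ z v - z 1 := by
  haveI := charP_res hM
  obtain ⟨c, l, h⟩ := exists_linear_comb hf
  have key : ∀ w : A, (z w : Res M) = ∑ χ, (c χ : Res M) := by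
    intro w
    obtain ⟨k, hk⟩ := hA w
    have hr : ∀ χ : IrrCharacter A, ((l χ w : ℂˣ) : ℂ) ∈ place M ∧ res M ((l χ w : ℂˣ) : ℂ) = 1 :=
      fun χ => res_root_p hM (k := k) (by
        rw [← Units.val_pow_eq_pow_val, ← map_pow, hk, map_one, Units.val_one])
    rw [← res_intCast, ← hz, h, res_sum _ _ fun χ _ => mul_mem (intCast_mem _ _) (hr χ).1]
    exact Finset.sum_congr rfl fun χ _ => by
      rw [res_mul (intCast_mem _ _) (hr χ).1, (hr χ).2, res_intCast, mul_one]
  rw [← CharP.intCast_eq_zero_iff (Res M) p, Int.cast_sub, key, key, sub_self]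

/-- The squares of the moduli are congruent to the one at the identity. -/
theorem sq_congr (hM : IsPModular p M) (hA : IsPGroup p A) {H : A → ℂ}
    (hH : IsGeneralizedCharacter A H) {n : A → ℕ}
    (hHH : ∀ v, H v * conj (H v) = (n v : ℂ) * (n v : ℂ)) (v : A) :
    (p : ℤ) ∣ (n v : ℤ) * n v - (n 1 : ℤ) * n 1 := by
  obtain ⟨a, b, ha, hb, hab⟩ := hH
  have hHc : IsGeneralizedCharacter A fun w => conj (H w) :=
    ⟨fun w => conj (a w), fun w => conj (b w), IsCharacter.conjugate ha, IsCharacter.conjugate hb,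
      funext fun w => by simp [hab]⟩
  refine dvd_sub_apply_one hM hA
    (IsGeneralizedCharacter.mul (⟨a, b, ha, hb, hab⟩ : IsGeneralizedCharacter A H) hHc)
    (z := fun w => (n w : ℤ) * n w) (fun w => ?_) v
  show H w * conj (H w) = _
  rw [hHH]; push_cast; rfl

/-! ### The congruence modulo four -/

lemma pow_app (l : A →* ℂˣ) (j : ℕ) (v : A) : (l ^ j) v = l v ^ j :=
  MonoidHom.pow_apply l j v

lemma geom_ind {a : ℂ} {o : ℕ} (ha : a ^ o = 1) :
    ∑ j ∈ Finset.range o, a ^ j = if a = 1 then (o : ℂ) else 0 := by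
  split_ifs with h
  · simp [h]
  · have := mul_geom_sum a o
    rw [ha, sub_self] at this
    exact (mul_eq_zero.1 this).resolve_left (sub_ne_zero.2 h)

/-- The indicator expression of two roots. -/
noncomputable def ind (a b : ℂ) : ℤ :=
  (if a * b = 1 then 1 else 0) - (if a = 1 then 1 else 0) - (if b = 1 then 1 else 0) + 1

lemma geom_pair {a b : ℂ} {o : ℕ} (ha : a ^ o = 1) (hb : b ^ o = 1) :
    ∑ j ∈ Finset.range o, (a ^ j - 1) * (b ^ j - 1) = ((o * ind a b : ℤ) : ℂ) := by
  have h : ∀ j : ℕ, (a ^ j - 1) * (b ^ j - 1) = (a * b) ^ j - a ^ j - b ^ j + 1 := fun j => by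
    rw [mul_pow]; ring
  simp only [h, Finset.sum_add_distrib, Finset.sum_sub_distrib]
  rw [geom_ind (by rw [mul_pow, ha, hb, one_mul]), geom_ind ha, geom_ind hb, Finset.sum_const,
    Finset.card_range, nsmul_one, ind]
  push_cast
  split_ifs <;> ring

/-- The sum over the generators of a cyclic two-group. -/
lemma four_dvd_odd_pair {a b : ℂ} {k : ℕ} (ha : a ^ 2 ^ k = 1) (hb : b ^ 2 ^ k = 1) :
    ∃ z : ℤ, ∑ j ∈ (Finset.range (2 ^ k)).filter Odd, (a ^ j - 1) * (b ^ j - 1) =
      ((4 * z : ℤ) : ℂ) := by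
  rcases k with _ | k
  · refine ⟨0, ?_⟩
    rw [pow_zero, Finset.range_one, Finset.filter_singleton, if_neg (by simp)]
    simp
  have heven : ∑ j ∈ (Finset.range (2 ^ (k + 1))).filter (fun j => ¬ Odd j),
      (a ^ j - 1) * (b ^ j - 1) =
        ∑ i ∈ Finset.range (2 ^ k), ((a * a) ^ i - 1) * ((b * b) ^ i - 1) := by
    refine Finset.sum_nbij' (fun j => j / 2) (fun i => 2 * i) ?_ ?_ ?_ ?_ ?_
    · intro j hj
      simp only [Finset.mem_filter, Finset.mem_range, Nat.not_odd_iff_even, pow_succ] at hj ⊢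
      omega
    · intro i hi
      simp only [Finset.mem_filter, Finset.mem_range, Nat.not_odd_iff_even, pow_succ] at hi ⊢
      exact ⟨by omega, even_two_mul i⟩
    · intro j hj
      simp only [Finset.mem_filter, Nat.not_odd_iff_even] at hj
      exact Nat.two_mul_div_two_of_even hj.2
    · intro i _
      omega
    · intro j hj
      simp only [Finset.mem_filter, Nat.not_odd_iff_even] at hj
      conv_lhs => rw [← Nat.two_mul_div_two_of_even hj.2]
      rw [pow_mul, pow_mul, pow_two, pow_two]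
  have ha' : (a * a) ^ 2 ^ k = 1 := by rw [← pow_two, ← pow_mul, ← pow_succ', ha]
  have hb' : (b * b) ^ 2 ^ k = 1 := by rw [← pow_two, ← pow_mul, ← pow_succ', hb]
  have htot := Finset.sum_filter_add_sum_filter_not (Finset.range (2 ^ (k + 1))) Odd
    (fun j => (a ^ j - 1) * (b ^ j - 1))
  rw [heven, geom_pair ha' hb', geom_pair ha hb] at htot
  rw [eq_sub_of_add_eq htot]
  suffices h : (4 : ℤ) ∣ ((2 ^ (k + 1) : ℕ) : ℤ) * ind a b - ((2 ^ k : ℕ) : ℤ) * ind (a * a) (b * b) by
    obtain ⟨z, hz⟩ := h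
    exact ⟨z, by rw [← Int.cast_sub, hz]⟩
  rcases k with _ | _ | k
  · simp only [zero_add, pow_one, pow_zero] at ha hb ⊢
    have ha2 : a * a = 1 := by rw [← pow_two, ha]
    have hb2 : b * b = 1 := by rw [← pow_two, hb]
    rcases mul_self_eq_one_iff.1 ha2 with rfl | rfl <;>
      rcases mul_self_eq_one_iff.1 hb2 with rfl | rfl <;> norm_num [ind]
  · have h4 : ∀ x : ℂ, x ^ 2 ^ 2 = 1 → x * x = 1 ∨ x * x = -1 := fun x hx =>
      mul_self_eq_one_iff.1 (by rw [← hx]; ring)
    have h2 : (2 : ℤ) ∣ ind (a * a) (b * b) := by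
      rcases h4 a ha with e | e <;> rcases h4 b hb with e' | e' <;> rw [e, e'] <;> norm_num [ind]
    obtain ⟨w, hw⟩ := h2
    refine ⟨ind a b - w, ?_⟩
    rw [hw]
    push_cast
    ring
  · refine dvd_sub (Dvd.dvd.mul_right ?_ _) (Dvd.dvd.mul_right ?_ _) <;>
      (simp only [Nat.cast_pow, Nat.cast_ofNat, show (4 : ℤ) = 2 ^ 2 by norm_num]
       exact pow_dvd_pow 2 (by omega))

/-- **The congruence modulo four.** -/
theorem four_dvd_second (hA : IsPGroup 2 A) {f : A → ℂ} (hf : IsGeneralizedCharacter A f)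
    {z : A → ℤ} (hz : ∀ v, f v = z v) (v w : A) :
    (4 : ℤ) ∣ z (v * w) - z v - z w + z 1 := by
  letI : Fintype (A →* ℂˣ) := Fintype.ofFinite _
  set N := Fintype.card A with hN
  haveI : NeZero N := ⟨Fintype.card_ne_zero⟩
  have hroot : ∀ (l : A →* ℂˣ) (x : A), ((l x : ℂˣ) : ℂ) ^ N = 1 := fun l x => by
    rw [← Units.val_pow_eq_pow_val, ← map_pow, hN, pow_card_eq_one, map_one, Units.val_one]
  let a : (A →* ℂˣ) → ℂ := fun l => classInner f fun x => ((l x : ℂˣ) : ℂ)
  choose c hc using fun l : A →* ℂˣ => Coherence.inner_int hf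
    (IsCharacter.isGeneralized (isCharacter_linear l))
  have hfour : ∀ x : A, f x = ∑ l : A →* ℂˣ, (c l : ℂ) * ((l x : ℂˣ) : ℂ) := by
    intro x
    simp only [← hc, classInner_def, mul_assoc, Finset.sum_mul, Finset.mul_sum]
    rw [Finset.sum_comm]
    have hterm : ∀ u : A, ∑ l : A →* ℂˣ, (Nat.card A : ℂ)⁻¹ *
        (f u * (conj ((l u : ℂˣ) : ℂ) * ((l x : ℂˣ) : ℂ))) = if u = x then f u else 0 := by
      intro u
      rw [← Finset.mul_sum, ← Finset.mul_sum, Finset.sum_congr rfl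
        (g := fun l : A →* ℂˣ => ((l (u⁻¹ * x) : ℂˣ) : ℂ)) fun l _ => by
          rw [conj_val, inv_app, map_mul, map_inv, Units.val_mul], sum_chars]
      simp only [inv_mul_eq_one, Nat.card_eq_fintype_card]
      split_ifs
      · field_simp
      · simp
    rw [Finset.sum_congr rfl fun u _ => hterm u]
    simp
  -- Galois invariance
  have hgal : ∀ (l : A →* ℂˣ) (j : ℕ), j.Coprime N → c (l ^ j) = c l := by
    intro l j hj
    obtain ⟨σ, hσ⟩ := exists_galConj_auto hj
    apply Int.cast_injective (α := ℂ)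
    rw [← hc (l ^ j), ← map_intCast σ (c l), ← hc l]
    simp only [classInner_def, map_mul, map_inv₀, map_natCast, map_sum]
    refine congrArg _ (Finset.sum_congr rfl fun u _ => ?_)
    rw [hz, map_intCast, pow_app, Units.val_pow_eq_pow_val, map_pow, hσ _ (by
      rw [← map_pow, hroot, map_one])]
  obtain ⟨e, he⟩ := hA.exists_card_eq
  rw [Nat.card_eq_fintype_card, ← hN] at he
  -- the classes of generators
  have hfib : ∀ L : Subgroup (A →* ℂˣ), ∃ t : ℤ,
      ∑ l ∈ Finset.univ.filter (fun l : A →* ℂˣ => Subgroup.zpowers l = L),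
        (c l : ℂ) * ((((l v : ℂˣ) : ℂ) - 1) * (((l w : ℂˣ) : ℂ) - 1)) = ((4 * t : ℤ) : ℂ) := by
    intro L
    rcases (Finset.univ.filter fun l : A →* ℂˣ => Subgroup.zpowers l = L).eq_empty_or_nonempty
      with h0 | ⟨g, hg⟩
    · exact ⟨0, by rw [h0]; simp⟩
    have hgL := (Finset.mem_filter.1 hg).2
    subst hgL
    have hgN : g ^ N = 1 := by
      refine MonoidHom.ext fun x => ?_
      rw [pow_app, one_app, ← map_pow, hN, pow_card_eq_one, map_one]
    obtain ⟨k, -, hk⟩ := (Nat.dvd_prime_pow Nat.prime_two).1 (show orderOf g ∣ 2 ^ e from he ▸ orderOf_dvd_iff_pow_eq_one.2 (by exact hgN))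
    by_cases hk0 : k = 0
    · refine ⟨0, ?_⟩
      rw [Finset.sum_eq_zero fun l hl => ?_]
      · simp
      have hl1 : l = 1 := by
        have h1 : g = 1 := orderOf_eq_one_iff.1 (by rw [hk, hk0, pow_zero])
        have h2 := (Finset.mem_filter.1 hl).2
        rw [h1, Subgroup.zpowers_one_eq_bot, Subgroup.zpowers_eq_bot] at h2
        exact h2
      rw [hl1, one_app, Units.val_one, sub_self, zero_mul, mul_zero]
    have hodd : ∀ j : ℕ, Odd j ↔ Nat.Coprime (orderOf g) j := fun j => by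
      rw [hk, Nat.coprime_pow_left_iff (Nat.pos_of_ne_zero hk0), Nat.coprime_two_left]
    have hrr : ∀ (x : A), ((g x : ℂˣ) : ℂ) ^ 2 ^ k = 1 := fun x => by
      rw [← hk, ← Units.val_pow_eq_pow_val, ← pow_app, pow_orderOf_eq_one, one_app, Units.val_one]
    obtain ⟨t, ht⟩ := four_dvd_odd_pair (hrr v) (hrr w)
    refine ⟨c g * t, ?_⟩
    have hcg : ∀ j : ℕ, Odd j → c (g ^ j) = c g := fun j hj => hgal g j (by
      rw [he]; exact Nat.Coprime.pow_right _ (Nat.coprime_two_right.2 hj))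
    rw [show ((4 * (c g * t) : ℤ) : ℂ) = (c g : ℂ) * ((4 * t : ℤ) : ℂ) by push_cast; ring, ← ht,
      Finset.mul_sum]
    symm
    refine Finset.sum_nbij (fun j => g ^ j) ?_ ?_ ?_ ?_
    · intro j hj
      obtain ⟨-, hjo⟩ := Finset.mem_filter.1 hj
      refine Finset.mem_filter.2 ⟨Finset.mem_univ _, ?_⟩
      haveI : Finite (A →* ℂˣ) := inferInstance
      refine Subgroup.eq_of_le_of_card_ge (Subgroup.zpowers_le.2 (Subgroup.pow_mem _
        (Subgroup.mem_zpowers _) _)) ?_
      rw [Nat.card_zpowers, Nat.card_zpowers, Nat.Coprime.orderOf_pow ((hodd j).1 hjo)]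
    · intro j hj j' hj' h
      rw [Finset.mem_coe, Finset.mem_filter, Finset.mem_range, ← hk] at hj hj'
      exact pow_injOn_Iio_orderOf hj.1 hj'.1 h
    · intro l hl
      rw [Finset.mem_coe, Finset.mem_filter] at hl
      have hlg : l ∈ Subgroup.zpowers g := hl.2 ▸ Subgroup.mem_zpowers l
      obtain ⟨j, hj, rfl⟩ := (mem_zpowers_iff_mem_range_orderOf).1 hlg |> Finset.mem_image.1
      refine ⟨j, Finset.mem_coe.2 (Finset.mem_filter.2 ⟨hk ▸ hj, (hodd j).2 ?_⟩), rfl⟩
      have h1 : orderOf (g ^ j) = orderOf g := by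
        rw [← Nat.card_zpowers, hl.2, Nat.card_zpowers]
      by_contra hnc
      have h2 : orderOf (g ^ j) = orderOf g / (orderOf g).gcd j := orderOf_pow g
      rw [h1, eq_comm, Nat.div_eq_self] at h2
      exact h2.elim (orderOf_pos g).ne' hnc
    · intro j hj
      rw [hcg j (Finset.mem_filter.1 hj).2, pow_app, pow_app, Units.val_pow_eq_pow_val,
        Units.val_pow_eq_pow_val]
  choose t ht using hfib
  refine ⟨∑ L : Subgroup (A →* ℂˣ), t L, ?_⟩
  apply Int.cast_injective (α := ℂ)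
  push_cast
  rw [← hz, ← hz, ← hz, ← hz, hfour, hfour, hfour, hfour, ← Finset.sum_sub_distrib,
    ← Finset.sum_sub_distrib, ← Finset.sum_add_distrib, Finset.mul_sum,
    ← Finset.sum_fiberwise Finset.univ (fun l : A →* ℂˣ => Subgroup.zpowers l)]
  refine Finset.sum_congr rfl fun L _ => ?_
  refine Eq.trans (Finset.sum_congr rfl fun l _ => ?_) ((ht L).trans (by push_cast; ring))
  rw [map_mul, map_one, Units.val_mul, Units.val_one]
  ring

/-! ### The square of the phase -/

/-- The squared phase is a linear character. -/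
theorem exists_linear_sq (hA : IsPGroup p A) {H δ : A → ℂ} (hH : IsGeneralizedCharacter A H)
    {n : A → ℕ} (hHd : ∀ v, H v = δ v * n v) (hδ : ∀ v, δ v * conj (δ v) = 1)
    (hint : ∀ v, IsIntegral ℤ (δ v)) (hn : ∀ v, ¬ p ∣ n v)
    (hpow : ∀ (v : A) (j : ℕ), j.Coprime (Fintype.card A) → n (v ^ j) = n v) :
    ∃ κ : A →* ℂˣ, ∀ v, δ v * δ v = ((κ v : ℂˣ) : ℂ) := by
  set N := Fintype.card A with hN
  haveI : NeZero N := ⟨Fintype.card_ne_zero⟩
  have hp := (Fact.out : p.Prime)
  obtain ⟨L, hL⟩ := hA.exists_card_eq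
  rw [Nat.card_eq_fintype_card, ← hN] at hL
  have hn0 : ∀ v, (n v : ℂ) ≠ 0 := fun v => Nat.cast_ne_zero.2 fun h => hn v (h ▸ dvd_zero p)
  have hord : ∀ v : A, orderOf v ∣ N := fun v => orderOf_dvd_card
  -- the field and the Galois action
  have hδf : ∀ v, δ v = H v / n v := fun v => by rw [hHd, mul_div_cancel_right₀ _ (hn0 v)]
  have hδmem : ∀ v, δ v ∈ cycField N := fun v => by
    rw [hδf]; exact div_mem (gen_mem_cycField hH (hord v)) (natCast_mem _ _)
  have hδgal : ∀ (σ : ℂ ≃+* ℂ) (j : ℕ), j.Coprime N → IsGalConj σ N j → ∀ v, σ (δ v) = δ (v ^ j) :=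
    fun σ j hj hσ v => by
      rw [hδf, hδf, map_div₀, map_natCast, gen_galois hH hσ (hord v), hpow v j hj]
  -- a power congruent to one
  set m := (p - 1) * p ^ L with hm
  have hm1 : 1 ≤ m := Nat.mul_pos (by have := hp.two_le; omega) (pow_pos hp.pos L)
  have hdvd : ∀ v, (N : ℤ) ∣ ((n v : ℤ) * n v) ^ m - 1 := by
    intro v
    have hcop : IsCoprime ((n v : ℤ) * n v) (p : ℤ) := by
      have : IsCoprime (n v : ℤ) (p : ℤ) :=
        Nat.Coprime.isCoprime ((hp.coprime_iff_not_dvd.2 (hn v)).symm)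
      exact this.mul_left this
    have h1 : (p : ℤ) ∣ ((n v : ℤ) * n v) ^ (p - 1) - 1 :=
      (Int.modEq_iff_dvd.1 (Int.ModEq.pow_card_sub_one_eq_one hp hcop).symm)
    have h2 := dvd_sub_pow_of_dvd_sub h1 L
    rw [one_pow, ← pow_mul] at h2
    refine dvd_trans ?_ h2
    rw [hL]
    push_cast
    exact pow_dvd_pow _ (Nat.le_succ L)
  choose q hq using hdvd
  -- the function
  set D : A → ℂ := fun v => δ v * δ v with hD
  let zf : A → ℂ := fun v => H v * H v * (H v * conj (H v)) ^ (m - 1)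
  have hzD : ∀ v, D v = zf v - δ v * δ v * ((N : ℂ) * (q v : ℂ)) := fun v => by
    have e : ((N : ℂ) * (q v : ℂ)) = ((n v : ℂ) * n v) ^ m - 1 := by
      have := congrArg (fun z : ℤ => (z : ℂ)) (hq v)
      push_cast at this
      rw [← this]
    have e2 : H v * conj (H v) = (n v : ℂ) * n v := by
      rw [hHd, map_mul, map_natCast]
      linear_combination ((n v : ℂ) * n v) * hδ v
    simp only [zf, hD, e, e2]
    rw [hHd]
    obtain ⟨m', hm'⟩ := Nat.exists_eq_add_of_le hm1
    rw [hm', Nat.add_sub_cancel_left, pow_add, pow_one]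
    ring
  have hHc : IsGeneralizedCharacter A fun v => conj (H v) := by
    obtain ⟨a, b, ha, hb, hab⟩ := hH
    exact ⟨fun w => conj (a w), fun w => conj (b w), IsCharacter.conjugate ha,
      IsCharacter.conjugate hb, funext fun w => by simp [hab]⟩
  have hzf : IsGeneralizedCharacter A zf := by
    have hpw : ∀ i : ℕ, IsGeneralizedCharacter A fun v => (H v * conj (H v)) ^ i := fun i => by
      induction i with
      | zero =>
        simp only [pow_zero]
        exact IsCharacter.isGeneralized isCharacter_one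
      | succ i ih =>
        simp only [pow_succ]
        exact IsGeneralizedCharacter.mul ih (IsGeneralizedCharacter.mul hH hHc)
    exact IsGeneralizedCharacter.mul (IsGeneralizedCharacter.mul hH hH) (hpw (m - 1))
  have hcl : IsClassFunction A D := fun a b => by rw [mul_comm b a, mul_inv_cancel_right]
  have hgen : IsGeneralizedCharacter A D := by
    refine isGeneralized_of_coeff hcl fun χ => ?_
    obtain ⟨l, hl⟩ := exists_hom_of_deg_one (isCharacter_of_irr χ.2)
      (irr_deg_one_of_comm mul_comm χ.2)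
    obtain ⟨m₁, hm₁⟩ := IsGeneralizedCharacter.exists_mult hzf χ.2
    have hroot : ∀ v, ((l v : ℂˣ) : ℂ) ^ N = 1 := fun v => by
      rw [← Units.val_pow_eq_pow_val, ← map_pow, hN, pow_card_eq_one, map_one, Units.val_one]
    have hcroot : ∀ v, conj ((l v : ℂˣ) : ℂ) ^ N = 1 := fun v => by
      rw [← map_pow, hroot, map_one]
    have hint' : IsIntegral ℤ (classInner D χ) := by
      have : classInner D χ =
          (m₁ : ℂ) - ∑ v : A, δ v * δ v * (q v : ℂ) * conj ((l v : ℂˣ) : ℂ) := by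
        rw [← hm₁, classInner_def, classInner_def, hl, Finset.mul_sum, Finset.mul_sum,
          ← Finset.sum_sub_distrib]
        refine Finset.sum_congr rfl fun v _ => ?_
        rw [hzD, Nat.card_eq_fintype_card, ← hN]
        have : (N : ℂ) ≠ 0 := Nat.cast_ne_zero.2 (NeZero.ne N)
        field_simp
      rw [this]
      refine IsIntegral.sub isIntegral_algebraMap (IsIntegral.sum _ fun v _ => ?_)
      refine ((((hint v).mul (hint v)).mul isIntegral_algebraMap)).mul ?_
      exact IsIntegral.of_pow (Nat.pos_of_ne_zero (NeZero.ne N)) (hcroot v ▸ isIntegral_one)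
    obtain ⟨r, hr⟩ := rat_of_galConj_fixed (m := N) (z := classInner D χ) (by
        rw [classInner_def, hl]
        exact mul_mem (inv_mem (natCast_mem _ _)) (sum_mem fun v _ => mul_mem
          (mul_mem (hδmem v) (hδmem v)) (mem_cycField_of_pow_eq_one N (hcroot v))))
      (fun σ j hj hσ => by
        rw [classInner_def, hl, map_mul, map_inv₀, map_natCast, map_sum]
        congr 1
        refine Fintype.sum_bijective (fun v => v ^ j)
          (powCoprime (G := A) (by rw [Nat.card_eq_fintype_card]; exact hj.symm)).bijective _ _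
          fun v => ?_
        simp only [hD]
        rw [map_mul, map_mul, hδgal σ j hj hσ, hσ _ (hcroot v), ← map_pow, map_pow l,
          Units.val_pow_eq_pow_val])
    obtain ⟨z, hz⟩ := int_of_isIntegral_rat (q := r) (hr ▸ hint')
    exact ⟨z, by rw [hr, hz, Rat.cast_intCast]⟩
  have hnorm : classInner D D = 1 := by
    rw [classInner_def, Finset.sum_congr rfl (g := fun _ => (1 : ℂ)) fun v _ => by
      simp only [hD, map_mul]
      linear_combination (δ v * conj (δ v) + 1) * hδ v]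
    rw [Finset.sum_const, Finset.card_univ, nsmul_one, Nat.card_eq_fintype_card,
      inv_mul_cancel₀ (Nat.cast_ne_zero.2 Fintype.card_ne_zero)]
  -- the value at one
  have hD1 : D 1 = 1 := by
    have hreal : conj (δ 1) = δ 1 := by
      rw [hδf, map_div₀, map_natCast, gen_conj_inv hH, inv_one]
    have := hδ 1
    rwa [hreal] at this
  rcases isIrr_or_neg_of_norm_one hgen hnorm with h | h
  · obtain ⟨κ, hκ⟩ := exists_hom_of_deg_one (isCharacter_of_irr h) hD1
    exact ⟨κ, fun v => congrFun hκ v⟩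
  · exfalso
    obtain ⟨k, hk⟩ := IsCharacter.apply_one (isCharacter_of_irr h)
    rw [Pi.neg_apply, hD1] at hk
    have : ((-1 : ℤ) : ℂ) = ((k : ℤ) : ℂ) := by push_cast; exact hk
    have := Int.cast_injective this
    omega

/-- A character trivial on the involutions is a square. -/
theorem exists_sqrt (κ : A →* ℂˣ) (h : ∀ v, v * v = 1 → κ v = 1) :
    ∃ ν : A →* ℂˣ, ∀ v, ν v * ν v = κ v := by
  let sq : A →* A := powMonoidHom 2
  have hsq : ∀ v, sq v = v * v := fun v => pow_two v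
  choose pre hpre using fun x : sq.range => x.2
  have hwd : ∀ (x : sq.range) (v : A), sq v = x → κ v = κ (pre x) := by
    intro x v hv
    have h1 : v * (pre x)⁻¹ * (v * (pre x)⁻¹) = 1 := by
      rw [← hsq, map_mul, map_inv, hv, hpre, mul_inv_cancel]
    have h2 := h _ h1
    rw [map_mul, map_inv] at h2
    exact mul_inv_eq_one.1 h2
  let f : sq.range →* ℂˣ :=
    { toFun := fun x => κ (pre x)
      map_one' := by rw [← hwd 1 1 (map_one sq), map_one]
      map_mul' := fun x y => by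
        rw [← map_mul, ← hwd (x * y) (pre x * pre y) (by rw [map_mul, hpre, hpre]; rfl)] }
  obtain ⟨ν, hν⟩ := MonoidHom.domRestrict_surjective (M := ℂ) sq.range f
  refine ⟨ν, fun v => ?_⟩
  rw [← map_mul, ← hsq]
  exact (DFunLike.congr_fun hν ⟨sq v, v, rfl⟩).trans (hwd ⟨sq v, v, rfl⟩ v rfl).symm

/-- The modulus of the sign normalisation. -/
def qq (p : ℕ) : ℕ := if p = 2 then 4 else p

/-- The normalised sign. -/
noncomputable def sg (p : ℕ) (r0 n : ℕ) : ℤ :=
  if (qq p : ℤ) ∣ (n : ℤ) - r0 then (n : ℤ) else -(n : ℤ)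

lemma sg_unique {r0 n : ℕ} (hr : ¬ p ∣ r0) {x : ℤ} (hx : x = n ∨ x = -(n : ℤ))
    (hd : (qq p : ℤ) ∣ x - r0) : sg p r0 n = x := by
  unfold sg
  rcases hx with rfl | rfl
  · rw [if_pos hd]
  · rw [if_neg]
    intro h
    have h2 : (qq p : ℤ) ∣ 2 * (r0 : ℤ) := by
      have h3 := dvd_neg.2 (dvd_add hd h)
      rwa [show -(-(n : ℤ) - r0 + ((n : ℤ) - r0)) = 2 * (r0 : ℤ) by ring] at h3
    apply hr
    by_cases hp2 : p = 2
    · subst hp2
      have h4 : qq 2 = 4 := rfl
      rw [h4] at h2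
      omega
    · rw [qq, if_neg hp2] at h2
      have hp := (Fact.out : p.Prime)
      rcases (Nat.prime_iff_prime_int.1 hp).dvd_or_dvd h2 with h5 | h5
      · have h6 : p ∣ 2 := by exact_mod_cast h5
        exact absurd ((Nat.prime_dvd_prime_iff_eq hp Nat.prime_two).1 h6) hp2
      · exact_mod_cast h5

lemma sg_cases (r0 n : ℕ) : sg p r0 n = n ∨ sg p r0 n = -(n : ℤ) := by
  unfold sg; split_ifs <;> simp

/-- **Normalised signs differ from the phase by a linear character.** -/
theorem signed_linear (hM : IsPModular p M) (hA : IsPGroup p A) {H δ : A → ℂ}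
    (hH : IsGeneralizedCharacter A H) {n : A → ℕ} (hHd : ∀ v, H v = δ v * n v)
    (hδ : ∀ v, δ v * conj (δ v) = 1) (hint : ∀ v, IsIntegral ℤ (δ v))
    (hpow : ∀ (v : A) (j : ℕ), j.Coprime (Fintype.card A) → n (v ^ j) = n v) {r0 : ℕ}
    (hr : ¬ p ∣ r0) (hsq : ∀ v, (p : ℤ) ∣ (n v : ℤ) * n v - (r0 : ℤ) * r0) :
    ∃ (ν : A →* ℂˣ) (c : ℤ), ∀ v, (sg p r0 (n v) : ℂ) * conj (δ v) = (c : ℂ) * ((ν v : ℂˣ) : ℂ) * (n v : ℂ) := by
  have hp := (Fact.out : p.Prime)
  have hpi : Prime (p : ℤ) := Nat.prime_iff_prime_int.1 hp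
  have hn : ∀ v, ¬ p ∣ n v := fun v h => by
    have h1 : (p : ℤ) ∣ (n v : ℤ) * n v := Dvd.dvd.mul_right (Int.natCast_dvd_natCast.2 h) _
    have h2 := dvd_sub h1 (hsq v)
    rw [sub_sub_cancel] at h2
    exact hr (Int.natCast_dvd_natCast.1 ((hpi.dvd_or_dvd h2).elim id id))
  obtain ⟨κ, hκ⟩ := exists_linear_sq hA hH hHd hδ hint hn hpow
  have hinv : ∀ t : A, t * t = 1 → κ t = 1 := by
    intro t ht
    have ht' : t⁻¹ = t := inv_eq_of_mul_eq_one_right ht
    have hδf : δ t = H t / n t := by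
      rw [hHd, mul_div_cancel_right₀ _ (Nat.cast_ne_zero.2 fun h : n t = 0 => hn t (h ▸ dvd_zero p))]
    have hreal : conj (δ t) = δ t := by rw [hδf, map_div₀, map_natCast, gen_conj_inv hH, ht']
    apply Units.val_eq_one.1
    rw [← hκ]
    conv_lhs => arg 2; rw [← hreal]
    exact hδ t
  obtain ⟨ν₀, hν₀⟩ := exists_sqrt κ hinv
  have hν1 : ∀ v, ((ν₀⁻¹ v : ℂˣ) : ℂ) * ((ν₀ v : ℂˣ) : ℂ) = 1 := fun v => by
    rw [inv_app, ← Units.val_mul, inv_mul_cancel, Units.val_one]
  -- the real form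
  have hpm : ∀ v, δ v * ((ν₀⁻¹ v : ℂˣ) : ℂ) = 1 ∨ δ v * ((ν₀⁻¹ v : ℂˣ) : ℂ) = -1 := fun v => by
    refine mul_self_eq_one_iff.1 ?_
    rw [show δ v * ((ν₀⁻¹ v : ℂˣ) : ℂ) * (δ v * ((ν₀⁻¹ v : ℂˣ) : ℂ)) =
      δ v * δ v * (((ν₀⁻¹ v : ℂˣ) : ℂ) * ((ν₀⁻¹ v : ℂˣ) : ℂ)) by ring, hκ, ← hν₀, Units.val_mul]
    linear_combination (((ν₀⁻¹ v : ℂˣ) : ℂ) * ((ν₀ v : ℂˣ) : ℂ) + 1) * hν1 v
  have hex : ∀ v, ∃ z : ℤ, (z = n v ∨ z = -(n v : ℤ)) ∧ H v * ((ν₀⁻¹ v : ℂˣ) : ℂ) = z := fun v => by
    rcases hpm v with e | e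
    · exact ⟨n v, Or.inl rfl, by rw [hHd, mul_right_comm, e, one_mul]; norm_cast⟩
    · exact ⟨-(n v : ℤ), Or.inr rfl, by rw [hHd, mul_right_comm, e]; push_cast; ring⟩
  choose z hz1 hz2 using hex
  have hgen : IsGeneralizedCharacter A fun v => H v * ((ν₀⁻¹ v : ℂˣ) : ℂ) :=
    IsGeneralizedCharacter.mul hH (IsCharacter.isGeneralized (isCharacter_linear ν₀⁻¹))
  have hzsq : ∀ v, (p : ℤ) ∣ (z v - r0) * (z v + r0) := fun v => by
    have e : (z v - r0) * (z v + r0) = (n v : ℤ) * n v - (r0 : ℤ) * r0 := by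
      rcases hz1 v with e | e <;> rw [e] <;> ring
    rw [e]; exact hsq v
  -- the signs
  suffices hε : ∃ (ε : A →* ℂˣ) (c : ℤ) (e : A → ℤ), (c = 1 ∨ c = -1) ∧
      ∀ v, (e v = 1 ∨ e v = -1) ∧ ((ε v : ℂˣ) : ℂ) = e v ∧
        (qq p : ℤ) ∣ e v * (c * z v) - r0 by
    obtain ⟨ε, c, e, hc, he⟩ := hε
    refine ⟨ε * ν₀⁻¹, c, fun v => ?_⟩
    obtain ⟨he1, he2, he3⟩ := he v
    have hs : sg p r0 (n v) = e v * (c * z v) := sg_unique hr (by
      rcases he1 with h | h <;> rcases hc with h' | h' <;> rcases hz1 v with h'' | h'' <;>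
        simp [h, h', h'']) he3
    rw [hs, mul_app, Units.val_mul, he2]
    push_cast
    rw [← hz2, hHd]
    have hne : (n v : ℂ) ≠ 0 := Nat.cast_ne_zero.2 fun h => hn v (h ▸ dvd_zero p)
    calc (e v : ℂ) * ((c : ℂ) * (δ v * n v * ((ν₀⁻¹ v : ℂˣ) : ℂ))) * conj (δ v)
        = (c : ℂ) * ((e v : ℂ) * ((ν₀⁻¹ v : ℂˣ) : ℂ)) * (δ v * conj (δ v)) * n v := by ring
      _ = _ := by rw [hδ]; ring
  by_cases hp2 : p = 2
  · subst hp2
    have hodd : ∀ v, ¬ (2 : ℤ) ∣ z v := fun v h => hn v (by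
      rcases hz1 v with e | e <;> rw [e] at h
      · exact_mod_cast h
      · exact_mod_cast dvd_neg.1 h)
    have hro : ¬ (2 : ℤ) ∣ (r0 : ℤ) := fun h => hr (by exact_mod_cast h)
    obtain ⟨c, hc, hc1⟩ : ∃ c : ℤ, (c = 1 ∨ c = -1) ∧ (4 : ℤ) ∣ c * z 1 - r0 := by
      by_cases h : (4 : ℤ) ∣ z 1 - r0
      · exact ⟨1, Or.inl rfl, by rwa [one_mul]⟩
      · refine ⟨-1, Or.inr rfl, ?_⟩
        have := hodd 1
        omega
    have hz4 := four_dvd_second hA hgen hz2
    let e : A → ℤ := fun v => if (4 : ℤ) ∣ c * z v - r0 then 1 else -1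
    have he : ∀ v, (e v = 1 ∨ e v = -1) ∧ (4 : ℤ) ∣ e v * (c * z v) - r0 := fun v => by
      simp only [e]
      split_ifs with h
      · exact ⟨Or.inl rfl, by rwa [one_mul]⟩
      · refine ⟨Or.inr rfl, ?_⟩
        have := hodd v
        rcases hc with rfl | rfl <;> omega
    have hmul : ∀ v w, e (v * w) = e v * e w := fun v w => by
      have h1 := hz4 v w
      have := hodd v
      have := hodd w
      have := hodd (v * w)
      simp only [e]
      rcases hc with rfl | rfl <;> split_ifs <;> omega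
    have he1 : e 1 = 1 := if_pos hc1
    refine ⟨{ toFun := fun v => if e v = 1 then 1 else -1, map_one' := by rw [if_pos he1],
              map_mul' := fun v w => ?_ }, c, e, hc, fun v => ⟨(he v).1, ?_, (he v).2⟩⟩
    · rw [hmul]
      rcases (he v).1 with h | h <;> rcases (he w).1 with h' | h' <;> norm_num [h, h']
    · show (((if e v = 1 then 1 else -1 : ℂˣ)) : ℂ) = _
      rcases (he v).1 with h | h <;> norm_num [h]
  · have hmod := dvd_sub_apply_one hM hA hgen hz2
    obtain ⟨c, hc, hc1⟩ : ∃ c : ℤ, (c = 1 ∨ c = -1) ∧ (p : ℤ) ∣ c * z 1 - r0 := by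
      rcases hpi.dvd_or_dvd (hzsq 1) with h | h
      · exact ⟨1, Or.inl rfl, by rwa [one_mul]⟩
      · exact ⟨-1, Or.inr rfl, by
          rw [show (-1 : ℤ) * z 1 - r0 = -(z 1 + r0) by ring]; exact dvd_neg.2 h⟩
    refine ⟨1, c, fun _ => 1, hc, fun v => ⟨Or.inl rfl, by simp, ?_⟩⟩
    rw [qq, if_neg hp2, one_mul,
      show c * z v - r0 = c * (z v - z 1) + (c * z 1 - r0) by ring]
    exact dvd_add (Dvd.dvd.mul_left (hmod v) _) hc1

end Cfsg.Lib.Blocks.Frobenius
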