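import Mathlib
import Cfsg.Agent.Blocks.HomocyclicRows
import Cfsg.Agent.Blocks.IBr.Centre
import Cfsg.Agent.Blocks.IBr.Lift
import Cfsg.Agent.Blocks.IBr.PRational
import Cfsg.Agent.Blocks.Star.Weighted
import Cfsg.Agent.Blocks.Frobenius.SignedVirtual

/-!
# Evaluating characters through a block with one Brauer character

An additive invariant of the idempotents below a block of regular rank one is a multiple of the
multiplicity of its unique projective module.
-/

set_option autoImplicit false
set_option linter.unusedSectionVars false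
set_option linter.style.haveILetI false

namespace Cfsg.Lib.Blocks.Frobenius

open Cfsg.Lib.Chars Cfsg.Lib.Blocks Cfsg.Lib.Blocks.Star Cfsg.Lib.Blocks.IBr
open scoped ComplexConjugate Classical

universe u

local notation "C⟨" P "⟩" => Subgroup.centralizer (SetLike.coe P)

section One

variable {K : Type u} [Group K] [Fintype K] {M : Ideal AlgInt} {p : ℕ}
  {b : Set (IrrCharacter K)}

lemma exists_single (hM : IsPModular p M) (hb : IsPBlock M b) (hl : blockRank p b = 1) :
    ∃ i : Ix M K, InBlk M b i ∧ Finset.univ.filter (InBlk M b) = {i} := by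
  rw [blockRank_eq_card hM hb] at hl
  obtain ⟨i, hi⟩ := Finset.card_eq_one.1 hl
  refine ⟨i, ?_, hi⟩
  have : i ∈ Finset.univ.filter (InBlk M b) := hi ▸ Finset.mem_singleton_self i
  exact (Finset.mem_filter.1 this).2

lemma mu_eq_zero_outside (hM : IsPModular p M) (hb : IsPBlock M b)
    {f : MonoidAlgebra (Res M) K} (hfb : f * red M (blockElem b) = f) {j : Ix M K}
    (hj : ¬ InBlk M b j) : (sys M K).mu j f = 0 := by
  have h0 := rank_eq_zero_iff'.1 (mu_blk_eq_zero hM hb hj)
  show ((sys M K).hom f j).rank = 0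
  rw [← hfb, map_mul, Pi.mul_apply, h0, mul_zero, Matrix.rank_zero]

/-- **An additive invariant below a block of rank one.** -/
theorem additive_rank_one (hM : IsPModular p M) (hb : IsPBlock M b) (hl : blockRank p b = 1)
    (F : MonoidAlgebra (Res M) K → ℂ) (h0 : F 0 = 0)
    (hadd : ∀ e f, e * e = e → f * f = f → e * f = 0 → f * e = 0 → F (e + f) = F e + F f)
    (heq : ∀ e f, e * e = e → f * f = f → Equiv' e f → F e = F f)
    {f : MonoidAlgebra (Res M) K} (hf : f * f = f) (hfb : f * red M (blockElem b) = f) :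
    F f = ((∑ i ∈ Finset.univ.filter (InBlk M b), (sys M K).mu i f : ℕ) : ℂ) *
      ∑ i ∈ Finset.univ.filter (InBlk M b), F ((sys M K).eps i) := by
  obtain ⟨i, -, hs⟩ := exists_single hM hb hl
  rw [(sys M K).additive_eq_sum F h0 hadd heq hf, hs, Finset.sum_singleton, Finset.sum_singleton,
    Finset.sum_eq_single i (fun j _ hj => ?_) (fun h => absurd (Finset.mem_univ i) h), nsmul_eq_mul]
  rw [mu_eq_zero_outside hM hb hfb fun h => hj (Finset.mem_singleton.1
    (hs ▸ Finset.mem_filter.2 ⟨Finset.mem_univ j, h⟩)), zero_nsmul]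

/-- Block projections of modular characters. -/
theorem phi_part (hM : IsPModular p M) (hb : IsPBlock M b) (j : Ix M K)
    {a : IrrCharacter K → ℂ}
    (h : ∀ g : K, ¬ p ∣ orderOf g → phi p M j g = ∑ χ, a χ * (χ : K → ℂ) g)
    {g : K} (hg : ¬ p ∣ orderOf g) :
    ∑ χ ∈ Finset.univ.filter (· ∈ b), a χ * (χ : K → ℂ) g =
      if InBlk M b j then phi p M j g else 0 := by
  split_ifs with hj
  · exact (phi_eq_sum_block hM hb hj h hg).symm
  have hc := coeff_of_eq hM h
  have h1 : ∀ l, ∑ χ ∈ Finset.univ.filter (· ∈ b), a χ * (dec M χ l : ℂ) = 0 := by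
    intro l
    by_cases hl : InBlk M b l
    · rw [← if_neg (show ¬ (l = j) from fun e => hj (e ▸ hl)) (t := (1 : ℂ)) (e := (0 : ℂ)), ← hc l]
      exact Finset.sum_subset (Finset.subset_univ _) fun χ _ hχ => by
        rw [dec_eq_zero_of_inBlk hM hb hl (by simpa using hχ), Nat.cast_zero, mul_zero]
    · refine Finset.sum_eq_zero fun χ hχ => ?_
      by_cases hd : dec M χ l = 0
      · rw [hd, Nat.cast_zero, mul_zero]
      · exact absurd (inBlk_of_dec hM hb (Finset.mem_filter.1 hχ).2 hd) hl
  calc ∑ χ ∈ Finset.univ.filter (· ∈ b), a χ * (χ : K → ℂ) g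
      = ∑ χ ∈ Finset.univ.filter (· ∈ b), ∑ l, a χ * (dec M χ l : ℂ) * phi p M l g :=
        Finset.sum_congr rfl fun χ _ => by
          rw [apply_eq_sum_dec hM χ hg, Finset.mul_sum]
          exact Finset.sum_congr rfl fun l _ => by ring
    _ = 0 := by
        rw [Finset.sum_comm]
        exact Finset.sum_eq_zero fun l _ => by rw [← Finset.sum_mul, h1, zero_mul]

/-- The unique modular character has inner square the inverse of the defect. -/
theorem norm_phi [Fact p.Prime] (hM : IsPModular p M) (hb : IsPBlock M b)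
    (hl : blockRank p b = 1) {i : Ix M K} (hs : Finset.univ.filter (InBlk M b) = {i}) :
    (p : ℂ) ^ blockDefect p b * ((Nat.card K : ℂ)⁻¹ *
      ∑ w ∈ Finset.univ.filter (fun v : K => ¬ p ∣ orderOf v),
        phi p M i w * conj (phi p M i w)) = 1 := by
  have hi : InBlk M b i := (Finset.mem_filter.1 (hs ▸ Finset.mem_singleton_self i :
    i ∈ Finset.univ.filter (InBlk M b))).2
  have hval : ∀ χ ∈ b, ∀ g : K, ¬ p ∣ orderOf g →
      (χ : K → ℂ) g = (dec M χ i : ℂ) * phi p M i g := fun χ hχ g hg => by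
    rw [apply_eq_sum_dec hM χ hg, Finset.sum_eq_single i (fun j _ hj => ?_)
      (fun h => absurd (Finset.mem_univ i) h)]
    by_cases hd : dec M χ j = 0
    · rw [hd, Nat.cast_zero, zero_mul]
    · exact absurd (Finset.mem_singleton.1 (hs ▸ Finset.mem_filter.2
        ⟨Finset.mem_univ j, inBlk_of_dec hM hb hχ hd⟩)) hj
  obtain ⟨φ', d', ⟨n, hn⟩, hd', hsq⟩ := exists_of_blockRank_one hM hb hl
  have hreg : ∀ g : K, IsPRegular p g ↔ ¬ p ∣ orderOf g := fun g => Iff.rfl
  have h1 : ¬ p ∣ orderOf (1 : K) := by rw [orderOf_one]; exact hM.1.not_dvd_one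
  set D : ℤ := ∑ χ ∈ Finset.univ.filter (· ∈ b), n χ * (dec M χ i : ℤ) with hD
  have hφ1 : phi p M i 1 ≠ 0 := by
    rw [phi_one hM]; exact Nat.cast_ne_zero.2 ((sys M K).dim_pos i).ne'
  have hdD : ∀ χ ∈ b, (dec M χ i : ℤ) = (d' χ : ℤ) * D := fun χ hχ => by
    apply Int.cast_injective (α := ℂ)
    refine mul_right_cancel₀ hφ1 ?_
    rw [Int.cast_natCast, ← hval χ hχ 1 h1, hd' χ hχ 1 ((hreg 1).2 h1), hn 1 ((hreg 1).2 h1),
      finsum_mem_eq_sum_of_inter_support_eq _ (t := Finset.univ.filter (· ∈ b)) (by simp)]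
    rw [hD]
    push_cast
    rw [mul_assoc, Finset.sum_mul]
    exact congrArg _ (Finset.sum_congr rfl fun ψ hψ => by
      rw [hval ψ (Finset.mem_filter.1 hψ).2 1 h1]; ring)
  have hD1 : D ∣ 1 := by
    obtain ⟨a, ha⟩ := exists_int_phi hM i
    have hc := coeff_of_eq hM ha i
    rw [if_pos rfl] at hc
    have hc' : ∑ χ, a χ * (dec M χ i : ℤ) = 1 := by exact_mod_cast hc
    rw [← hc']
    refine Finset.dvd_sum fun χ _ => ?_
    by_cases hχ : χ ∈ b
    · rw [hdD χ hχ]; exact ⟨a χ * d' χ, by ring⟩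
    · rw [dec_eq_zero_of_inBlk hM hb hi hχ]; simp
  have hD2 : D * D = 1 := by
    rcases Int.isUnit_iff.1 (isUnit_of_dvd_one hD1) with h | h <;> rw [h] <;> norm_num
  rw [finsum_mem_eq_sum_of_inter_support_eq _ (t := Finset.univ.filter (· ∈ b)) (by simp)] at hsq
  have hsum : ∑ χ ∈ Finset.univ.filter (· ∈ b), (dec M χ i : ℂ) * (dec M χ i : ℂ) =
      (p : ℂ) ^ blockDefect p b := by
    rw [← Nat.cast_pow, ← hsq, Nat.cast_sum]
    refine Finset.sum_congr rfl fun χ hχ => ?_
    have h := hdD χ (Finset.mem_filter.1 hχ).2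
    have h' : (dec M χ i : ℤ) * (dec M χ i : ℤ) = ((d' χ ^ 2 : ℕ) : ℤ) := by
      rw [h]; push_cast; linear_combination ((d' χ : ℤ) * (d' χ : ℤ)) * hD2
    exact_mod_cast h'
  have hl' := sum_classInner_eq_blockRank hM hb
  rw [hl, Nat.cast_one] at hl'
  refine Eq.trans ?_ hl'
  rw [← hsum, Finset.sum_mul]
  refine Finset.sum_congr rfl fun χ hχ => ?_
  rw [classInner_def, Finset.sum_filter, Finset.mul_sum, Finset.mul_sum, Finset.mul_sum]
  refine Finset.sum_congr rfl fun w _ => ?_
  rw [pRegularPart_apply]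
  by_cases hw : p ∣ orderOf w
  · simp [hw]
  · rw [if_pos hw, if_neg hw, hval χ (Finset.mem_filter.1 hχ).2 w hw, map_mul, map_natCast]
    ring

end One

/-! ### Elements supported on subgroups -/

variable {G : Type u} [Group G] [Fintype G] {M : Ideal AlgInt} {p : ℕ}

section Support

variable {R : Type*} [CommRing R] {L : Subgroup G}

lemma emb_resElem {x : MonoidAlgebra R G} (hx : SuppOn L x) : emb L (resElem L x) = x :=
  fn_ext fun g => by
    by_cases hg : g ∈ L
    · rw [fn_emb_mem L _ hg, fn_resElem]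
    · rw [fn_emb_not_mem L _ hg, hx g hg]

lemma resElem_emb (a : MonoidAlgebra R L) : resElem L (emb L a) = a :=
  fn_ext fun l => by rw [fn_resElem, fn_emb_coe]

lemma resElem_mul_supp {x y : MonoidAlgebra R G} (hx : SuppOn L x) (hy : SuppOn L y) :
    resElem L (x * y) = resElem L x * resElem L y := by
  conv_lhs => rw [← emb_resElem hx, ← emb_resElem hy, ← emb_mul, resElem_emb]

lemma resElem_add' (x y : MonoidAlgebra R G) : resElem L (x + y) = resElem L x + resElem L y :=
  fn_ext fun l => by simp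

lemma resElem_zero' : resElem L (0 : MonoidAlgebra R G) = 0 := fn_ext fun l => by simp

lemma emb_add' (a b : MonoidAlgebra R L) : emb L (a + b) = emb L a + emb L b :=
  fn_ext fun g => by
    by_cases hg : g ∈ L
    · simp [fn_emb_mem L _ hg]
    · simp [fn_emb_not_mem L _ hg]

lemma suppOn_mono {H : Subgroup G} {x : MonoidAlgebra R G} (hx : SuppOn L x) (h : L ≤ H) :
    SuppOn H x := fun g hg => hx g fun h' => hg (h h')

lemma fn_conj_of_supp {v : G} (hvL : ∀ l ∈ L, Commute v l) {x : MonoidAlgebra R G}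
    (hx : SuppOn L x) (g : G) : fn x (v * g * v⁻¹) = fn x g := by
  by_cases hg : g ∈ L
  · rw [(hvL g hg).eq, mul_inv_cancel_right]
  · rw [hx g hg]
    refine hx _ fun h => hg ?_
    have h2 : g = v⁻¹ * (v * g * v⁻¹) * v := by group
    rw [h2, mul_assoc, ← (hvL _ h).eq, inv_mul_cancel_left]
    exact h

end Support

/-- The value at `v` of a character of `H` on an element supported on `H`. -/
noncomputable def thS (M : Ideal AlgInt) (H : Subgroup G) (θ : IrrCharacter H) (v : G)
    (x : MonoidAlgebra (Res M) G) : ℂ :=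
  if hv : v ∈ H then th M θ ⟨v, hv⟩ (resElem H x) else 0

/-- The multiplicity in an element supported on `L` of the projectives of a block of `L`. -/
noncomputable def NN (M : Ideal AlgInt) (L : Subgroup G) (b : Set (IrrCharacter L))
    (x : MonoidAlgebra (Res M) G) : ℕ :=
  ∑ i ∈ Finset.univ.filter (InBlk M b), (sys M L).mu i (resElem L x)

/-- The generalized decomposition value. -/
noncomputable def gv (M : Ideal AlgInt) (H L : Subgroup G) (b : Set (IrrCharacter L))
    (θ : IrrCharacter H) (v : G) : ℂ :=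
  ∑ i ∈ Finset.univ.filter (InBlk M b), thS M H θ v (emb L ((sys M L).eps i))

/-- **Evaluation through a block of rank one.** -/
theorem thS_eq (hM : IsPModular p M) {H L : Subgroup G} {b : Set (IrrCharacter L)}
    (hb : IsPBlock M b) (hl : blockRank p b = 1) (hLH : L ≤ H) (θ : IrrCharacter H) {v : G}
    (hv : v ∈ H) (hvL : ∀ l ∈ L, Commute v l) {x : MonoidAlgebra (Res M) G} (hxx : x * x = x)
    (hxs : SuppOn L x) (hxb : x * bi M L b = x) :
    thS M H θ v x = (NN M L b x : ℂ) * gv M H L b θ v := by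
  let F : MonoidAlgebra (Res M) L → ℂ := fun a => thS M H θ v (emb L a)
  have hsH : ∀ a : MonoidAlgebra (Res M) L, SuppOn H (emb L a) := fun a =>
    suppOn_mono (suppOn_emb L a) hLH
  have hmul : ∀ a a' : MonoidAlgebra (Res M) L,
      resElem H (emb L a) * resElem H (emb L a') = resElem H (emb L (a * a')) := fun a a' => by
    rw [emb_mul, resElem_mul_supp (hsH a) (hsH a')]
  have hcomm : ∀ a : MonoidAlgebra (Res M) L,
      Commute (sE (⟨v, hv⟩ : H)) (resElem H (emb L a)) := fun a =>
    (commute_sE_iff _ _).2 fun g => by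
      rw [fn_resElem, fn_resElem]
      exact fn_conj_of_supp hvL (suppOn_emb L a) g
  have hF : ∀ a, F a = th M θ ⟨v, hv⟩ (resElem H (emb L a)) := fun a => dif_pos hv
  have key := additive_rank_one hM hb hl F
    (by rw [hF, emb_zero, resElem_zero', th_zero])
    (fun e f he hf hef hfe => by
      rw [hF, hF, hF, emb_add', resElem_add']
      exact th_add θ (by rw [hmul, he]) (by rw [hmul, hf])
        (by rw [hmul, hef, emb_zero, resElem_zero']) (by rw [hmul, hfe, emb_zero, resElem_zero'])
        (hcomm _) (hcomm _))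
    (fun e f he hf h => by
      obtain ⟨s, t, h1, h2⟩ := h
      rw [hF, hF]
      exact th_equiv θ (by rw [hmul, he]) (by rw [hmul, hf]) (hcomm _) (hcomm _) (hcomm s)
        (hcomm t) (by rw [hmul, h1]) (by rw [hmul, h2]))
    (f := resElem L x) (by rw [← resElem_mul_supp hxs hxs, hxx])
    (by rw [← resElem_emb (red M (blockElem b)), ← resElem_mul_supp hxs (suppOn_emb L _),
      emb_red_blockElem, hxb])
  simp only [F] at key
  rw [emb_resElem hxs] at key
  exact key

/-- Values of a character through an idempotent form a virtual character. -/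
theorem isGeneralized_thS {H R : Subgroup G} (hRH : R ≤ H) (θ : IrrCharacter H)
    {x : MonoidAlgebra (Res M) G} (hxs : SuppOn H x) (hxx : x * x = x) (hxi : InvOn R x) :
    IsGeneralizedCharacter R fun r : R => thS M H θ (r : G) x := by
  have h1 : resElem H x * resElem H x = resElem H x := by rw [← resElem_mul_supp hxs hxs, hxx]
  have h2 : InvOn (R.subgroupOf H) (resElem H x) := fun h hh g => by
    rw [fn_resElem, fn_resElem]
    exact hxi (h : G) hh (g : G)
  have h3 := IsGeneralizedCharacter.comp_hom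
    (IsCharacter.isGeneralized (isCharacter_th θ (R.subgroupOf H) h1 h2))
    (Subgroup.subgroupOfEquivOfLe hRH).symm.toMonoidHom
  convert! h3 using 1
  funext r
  rw [thS, dif_pos (hRH r.2)]
  rfl

/-- Evaluation only depends on the Brauer image. -/
theorem th_br_eq [Fact p.Prime] {K : Type u} [Group K] [Fintype K] (hM : IsPModular p M)
    (χ : IrrCharacter K) {r : K} (hr : IsPElem p r) {f : MonoidAlgebra (Res M) K} (hff : f * f = f)
    (hfi : InvOn (Subgroup.zpowers r) f) :
    th M χ r f = th M χ r (br (Subgroup.zpowers r) f) := by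
  haveI := charP_res hM
  have hP := hr.isPGroup
  set Q := Subgroup.zpowers r
  have hi : InvOn Q (br Q f) := invOn_of_cj fun k hk => cj_eq_self_of_suppOn (suppOn_br Q f) hk
  have hbb : br Q (br Q f) = br Q f := trunc_eq_self (suppOn_br Q f)
  have h1 : IsPart r (br Q f) 1 f := ⟨hff, one_mul f, mul_one f, hfi, by rw [br_one, one_mul]⟩
  have h2 : IsPart r (br Q f) 1 (br Q f) :=
    ⟨br_idem hM hP hfi hff, one_mul _, mul_one _, hi, by rw [hbb, br_one, one_mul]⟩
  rw [← tp_eq hM χ hr h1, tp_eq hM χ hr h2]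

lemma isPElem_coe {H : Subgroup G} {v : H} : IsPElem p v ↔ IsPElem p (v : G) := by
  simp only [IsPElem, Subgroup.orderOf_coe]

theorem thS_br [Fact p.Prime] (hM : IsPModular p M) {H : Subgroup G} (θ : IrrCharacter H) {v : G}
    (hv : v ∈ H) (hvp : IsPElem p v) {x : MonoidAlgebra (Res M) G} (hxs : SuppOn H x)
    (hxx : x * x = x) (hxi : InvOn (Subgroup.zpowers v) x) :
    thS M H θ v x = thS M H θ v (br (Subgroup.zpowers v) x) := by
  have hle : Subgroup.zpowers v ≤ H := Subgroup.zpowers_le.2 hv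
  have hz : (Subgroup.zpowers v).subgroupOf H = Subgroup.zpowers (⟨v, hv⟩ : H) := by
    ext w
    simp only [Subgroup.mem_subgroupOf, Subgroup.mem_zpowers_iff, Subtype.ext_iff, Subgroup.coe_zpow]
  have hinv : InvOn (Subgroup.zpowers (⟨v, hv⟩ : H)) (resElem H x) := fun h hh g => by
    rw [fn_resElem, fn_resElem]
    exact hxi (h : G) (by rw [← hz] at hh; exact hh) (g : G)
  rw [thS, dif_pos hv, thS, dif_pos hv, th_br_eq hM θ (isPElem_coe.2 hvp)
    (by rw [← resElem_mul_supp hxs hxs, hxx]) hinv]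
  congr 1
  rw [← hz, ← (emb_injective H).eq_iff, emb_br H _ hle, emb_resElem hxs, emb_resElem]
  intro g hg
  by_cases hc : g ∈ C⟨Subgroup.zpowers v⟩
  · rw [br, fn_trunc_mem _ hc, hxs g hg]
  · exact suppOn_br _ _ g hc

/-- The elements pushed from a centralizer. -/
lemma upC_eq_emb {R : Type*} [CommRing R] (y : G)
    (a : MonoidAlgebra R C⟨Subgroup.zpowers y⟩) :
    upC R y a = emb C⟨Subgroup.zpowers y⟩ a := by
  refine fn_ext fun g => ?_
  by_cases hg : g ∈ C⟨Subgroup.zpowers y⟩
  · rw [fn_emb_mem _ _ hg]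
    conv_lhs => rw [eq_sum_single a]
    rw [map_sum, fn_sum, Finset.sum_eq_single ⟨g, hg⟩]
    · rw [upC_single, fn_single, if_pos rfl]
    · intro d _ hd
      rw [upC_single, fn_single, if_neg fun h => hd (Subtype.ext h)]
    · simp
  · rw [fn_emb_not_mem _ _ hg]
    exact fn_upC_eq_zero y a hg

/-- The value along a section of rank one. -/
noncomputable def ga (M : Ideal AlgInt) (y : G) (b : Set (IrrCharacter C⟨Subgroup.zpowers y⟩))
    (χ : IrrCharacter G) : ℂ :=
  ∑ i ∈ Finset.univ.filter (InBlk M b), th M χ y (emb C⟨Subgroup.zpowers y⟩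
    ((sys M C⟨Subgroup.zpowers y⟩).eps i))

/-- The value at an element through an idempotent in a block of rank one. -/
theorem th_eq_ga (hM : IsPModular p M) {y : G} {b : Set (IrrCharacter C⟨Subgroup.zpowers y⟩)}
    (hb : IsPBlock M b) (hl : blockRank p b = 1) (χ : IrrCharacter G)
    {x : MonoidAlgebra (Res M) G} (hxx : x * x = x) (hxs : SuppOn C⟨Subgroup.zpowers y⟩ x)
    (hxb : x * bi M C⟨Subgroup.zpowers y⟩ b = x) :
    th M χ y x = (NN M C⟨Subgroup.zpowers y⟩ b x : ℂ) * ga M y b χ := by
  have hcomm : ∀ a : MonoidAlgebra (Res M) C⟨Subgroup.zpowers y⟩, Commute (sE y) (emb C⟨Subgroup.zpowers y⟩ a) := fun a => by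
    rw [← upC_eq_emb]; exact commute_upC y a
  have key := additive_rank_one hM hb hl (fun a => th M χ y (emb C⟨Subgroup.zpowers y⟩ a))
    (by rw [emb_zero, th_zero])
    (fun e f he hf hef hfe => by
      rw [emb_add']
      exact th_add χ (by rw [← emb_mul, he]) (by rw [← emb_mul, hf])
        (by rw [← emb_mul, hef, emb_zero]) (by rw [← emb_mul, hfe, emb_zero]) (hcomm _) (hcomm _))
    (fun e f he hf h => by
      obtain ⟨s, t, h1, h2⟩ := h
      exact th_equiv χ (by rw [← emb_mul, he]) (by rw [← emb_mul, hf]) (hcomm _) (hcomm _) (hcomm s)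
        (hcomm t) (by rw [← emb_mul, h1]) (by rw [← emb_mul, h2]))
    (f := resElem C⟨Subgroup.zpowers y⟩ x) (by rw [← resElem_mul_supp hxs hxs, hxx])
    (by rw [← resElem_emb (red M (blockElem b)), ← resElem_mul_supp hxs (suppOn_emb C⟨Subgroup.zpowers y⟩ _),
      emb_red_blockElem, hxb])
  beta_reduce at key
  rw [emb_resElem hxs] at key
  exact key

/-- **Contributions of a section of rank one.** -/
theorem contribution_eq_ga [Fact p.Prime] (hM : IsPModular p M) {y : G}
    {b : Set (IrrCharacter C⟨Subgroup.zpowers y⟩)} (hb : IsPBlock M b) (hl : blockRank p b = 1)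
    (η χ : IrrCharacter G) :
    contribution p y b η χ = ga M y b η * conj (ga M y b χ) := by
  obtain ⟨i, -, hs⟩ := exists_single hM hb hl
  have hga : ∀ χ : IrrCharacter G, ga M y b χ = gdec M χ y i := fun χ => by
    rw [ga, hs, Finset.sum_singleton, gdec, upC_eq_emb]
  have hpart : ∀ (χ : IrrCharacter G) (w : C⟨Subgroup.zpowers y⟩), ¬ p ∣ orderOf w →
      blockPart b (fun c : C⟨Subgroup.zpowers y⟩ => (χ : G → ℂ) (y * (c : G))) w = ga M y b χ * phi p M i w := by
    intro χ w hw
    choose a ha using fun j : Ix M C⟨Subgroup.zpowers y⟩ => exists_int_phi hM j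
    rw [Star.blockPart_congr_regular hM hb
      (θ' := fun c => ∑ ψ : IrrCharacter C⟨Subgroup.zpowers y⟩,
        (∑ j, gdec M χ y j * (a j ψ : ℂ)) * (ψ : C⟨Subgroup.zpowers y⟩ → ℂ) c) (fun c hc => by
          rw [apply_eq_sum_gdec hM χ y hc]
          simp only [Finset.sum_mul]
          rw [Finset.sum_comm]
          refine Finset.sum_congr rfl fun j _ => ?_
          rw [ha j c hc, Finset.mul_sum]
          exact Finset.sum_congr rfl fun ψ _ => by ring) hw,
      blockPart_irrSum]
    simp only [Finset.sum_mul]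
    rw [Finset.sum_comm]
    have hterm : ∀ j, ∑ ψ ∈ Finset.univ.filter (· ∈ b),
        gdec M χ y j * (a j ψ : ℂ) * (ψ : C⟨Subgroup.zpowers y⟩ → ℂ) w =
        if j = i then gdec M χ y i * phi p M i w else 0 := fun j => by
      rw [Finset.sum_congr rfl fun ψ _ => mul_assoc _ _ _, ← Finset.mul_sum,
        phi_part hM hb j (ha j) hw]
      by_cases hj : InBlk M b j
      · obtain rfl : j = i := Finset.mem_singleton.1 (hs ▸ Finset.mem_filter.2 ⟨Finset.mem_univ j, hj⟩)
        rw [if_pos hj, if_pos rfl]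
      · have hne : j ≠ i := fun e => hj (e ▸ (Finset.mem_filter.1 (hs ▸
          Finset.mem_singleton_self i : i ∈ Finset.univ.filter (InBlk M b))).2)
        rw [if_neg hj, if_neg hne, mul_zero]
    rw [Finset.sum_congr rfl fun j _ => hterm j, Finset.sum_ite_eq', if_pos (Finset.mem_univ i), hga]
  rw [contribution_eq_sum_regular hM hb, Finset.sum_congr rfl fun w hw => by
    rw [hpart η w (Finset.mem_filter.1 hw).2, hpart χ w (Finset.mem_filter.1 hw).2, map_mul]]
  refine Eq.trans ?_ ((one_mul _).trans rfl)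
  rw [← norm_phi hM hb hl hs]
  simp only [Finset.mul_sum, Finset.sum_mul]
  exact Finset.sum_congr rfl fun w _ => by ring

end Cfsg.Lib.Blocks.Frobenius
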