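import Mathlib
import Cfsg.Agent.Blocks.Frobenius.RankOneEval
import Cfsg.Agent.Blocks.HomocyclicBlock
import Cfsg.Agent.Blocks.InertialCyclic
import Cfsg.Agent.Blocks.AbelianLocal

/-!
# Local multiplicities below an abelian pair with free inertial action

For an abelian defect group whose inertial quotient acts freely on the non-identity elements,
every proper local block below the maximal pair has one Brauer character. The multiplicities of
the invariant idempotents in these blocks, with normalised signs, are the values of virtual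
characters.
-/

set_option autoImplicit false
set_option linter.unusedSectionVars false
set_option linter.style.haveILetI false

namespace Cfsg.Lib.Blocks.Frobenius

open Cfsg.Lib.Chars Cfsg.Lib.Blocks Cfsg.Lib.Blocks.Star Cfsg.Lib.Blocks.IBr
open Cfsg.Lib.Blocks.AbelianStar
open scoped ComplexConjugate Classical

universe u

local notation "C⟨" P "⟩" => Subgroup.centralizer (SetLike.coe P)

section General

variable {G : Type u} [Group G] [Fintype G]

lemma br_sup {R : Type*} [CommRing R] (U V : Subgroup G) (a : MonoidAlgebra R G) :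
    br V (br U a) = br (U ⊔ V) a := fn_ext fun g => by
  have hiff : g ∈ C⟨U ⊔ V⟩ ↔ g ∈ C⟨U⟩ ∧ g ∈ C⟨V⟩ := by
    refine ⟨fun h => ⟨Subgroup.centralizer_le (fun _ hx => Subgroup.mem_sup_left hx) h,
      Subgroup.centralizer_le (fun _ hx => Subgroup.mem_sup_right hx) h⟩, fun h => ?_⟩
    refine Subgroup.mem_centralizer_iff.2 fun y hy => ?_
    have hle : U ⊔ V ≤ Subgroup.centralizer ({g} : Set G) := sup_le
      (fun z hz => Subgroup.mem_centralizer_singleton_iff.2 (Subgroup.mem_centralizer_iff.1 h.1 z hz))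
      (fun z hz => Subgroup.mem_centralizer_singleton_iff.2 (Subgroup.mem_centralizer_iff.1 h.2 z hz))
    exact Subgroup.mem_centralizer_singleton_iff.1 (hle hy)
  by_cases hV : g ∈ C⟨V⟩
  · by_cases hU : g ∈ C⟨U⟩
    · simp only [br]
      rw [fn_trunc_mem _ hV, fn_trunc_mem _ hU, fn_trunc_mem _ (hiff.2 ⟨hU, hV⟩)]
    · simp only [br]
      rw [fn_trunc_mem _ hV, fn_trunc_not_mem _ hU, fn_trunc_not_mem _ fun h => hU (hiff.1 h).1]
  · simp only [br]
    rw [fn_trunc_not_mem _ hV, fn_trunc_not_mem _ fun h => hV (hiff.1 h).2]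

/-- Conjugates of primitive idempotents. -/
lemma isPrim_cj {A : Type*} [Field A] {R R' : Subgroup G} {x : G}
    (hR : R.map (MulAut.conj x).toMonoidHom = R') {ε : MonoidAlgebra A G}
    (h : IsPrim R ε) : IsPrim R' (cj x ε) := by
  have hinv : ∀ (a : MonoidAlgebra A G), InvOn R a → InvOn R' (cj x a) := fun a ha => by
    refine ha.cj fun k hk => ?_
    rw [← hR] at hk
    obtain ⟨y, hy, rfl⟩ := hk
    simpa [mul_assoc] using hy
  refine ⟨by rw [← cj_mul, h.idem], hinv _ h.inv, fun h0 => h.ne_zero ?_, fun g hgi hgg hl hr => ?_⟩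
  · have := congrArg (cj x⁻¹) h0
    rwa [cj_cj, inv_mul_cancel, cj_one, cj_zero] at this
  · have hgi' : InvOn R (cj x⁻¹ g) := by
      refine hgi.cj fun k hk => ?_
      rw [← hR]
      exact ⟨k, hk, by simp⟩
    rcases h.eq_of_le (cj x⁻¹ g) hgi' (by rw [← cj_mul, hgg])
      (by
        have := congrArg (cj x⁻¹) hl
        rwa [cj_mul, cj_cj, inv_mul_cancel, cj_one] at this)
      (by
        have := congrArg (cj x⁻¹) hr
        rwa [cj_mul, cj_cj, inv_mul_cancel, cj_one] at this) with h0 | h0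
    · left
      have := congrArg (cj x) h0
      rwa [cj_cj, mul_inv_cancel, cj_one, cj_zero] at this
    · right
      have := congrArg (cj x) h0
      rwa [cj_cj, mul_inv_cancel, cj_one] at this

end General

variable {G : Type u} [Group G] [Fintype G] {M : Ideal AlgInt} {p : ℕ} [Fact p.Prime]
  {B : Set (IrrCharacter G)} {P T : Subgroup G} {c : Set (IrrCharacter C⟨P⟩)}

/-- A maximal pair with abelian defect group. -/
structure AbPair (p : ℕ) (M : Ideal AlgInt) (B : Set (IrrCharacter G)) (P T : Subgroup G)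
    (c : Set (IrrCharacter C⟨P⟩)) : Prop where
  modular : IsPModular p M
  defect : IsDefectGroup p M B P
  pair : IsBrauerPairOf p M B P c
  comm : ∀ a ∈ P, ∀ b ∈ P, a * b = b * a
  stab : IsPairStab P c T

/-- The block on a subgroup below the pair. -/
noncomputable def fw (M : Ideal AlgInt) (P : Subgroup G) (c : Set (IrrCharacter C⟨P⟩))
    (W : Subgroup G) : Set (IrrCharacter C⟨W⟩) :=
  Classical.epsilon fun b => IsPBlock M b ∧
    br P (bi M C⟨W⟩ b) * bi M C⟨P⟩ c = bi M C⟨P⟩ c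

section Ab

variable (s : AbPair p M B P T c)
include s

lemma AbPair.le_centralizer {W : Subgroup G} (hW : W ≤ P) : P ≤ C⟨W⟩ :=
  le_centralizer_sub s.comm hW

lemma AbPair.normalSubpair_of {W : Subgroup G} (hW : W ≤ P) {b : Set (IrrCharacter C⟨W⟩)}
    (hb : IsPBlock M b) (hbr : br P (bi M C⟨W⟩ b) * bi M C⟨P⟩ c = bi M C⟨P⟩ c) :
    IsNormalSubpair p M W b P c :=
  (isNormalSubpair_iff s.modular _ _ _ _).2 ⟨⟨s.pair.1.1.to_le hW, hb⟩, s.pair.1, hW,
    (s.le_centralizer hW).trans (Subgroup.centralizer_le_normalizer _),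
    fun x hx => invOn_iff.1 (invOn_bi b) x (s.le_centralizer hW hx), hbr⟩

lemma AbPair.fw_spec {W : Subgroup G} (hW : W ≤ P) :
    IsPBlock M (fw M P c W) ∧
      br P (bi M C⟨W⟩ (fw M P c W)) * bi M C⟨P⟩ c = bi M C⟨P⟩ c := by
  obtain ⟨f, hf, -⟩ := existsUnique_normalSubpair s.modular s.pair.1 hW
    ((s.le_centralizer hW).trans (Subgroup.centralizer_le_normalizer _))
  obtain ⟨h1, -, -, -, -, h2⟩ := (isNormalSubpair_iff s.modular _ _ _ _).1 hf
  exact Classical.epsilon_spec (p := fun b => IsPBlock M b ∧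
    br P (bi M C⟨W⟩ b) * bi M C⟨P⟩ c = bi M C⟨P⟩ c) ⟨f, h1.2, h2⟩

lemma AbPair.fw_unique {W : Subgroup G} (hW : W ≤ P) {b : Set (IrrCharacter C⟨W⟩)}
    (hb : IsPBlock M b) (hbr : br P (bi M C⟨W⟩ b) * bi M C⟨P⟩ c = bi M C⟨P⟩ c) :
    b = fw M P c W :=
  (existsUnique_normalSubpair s.modular s.pair.1 hW
    ((s.le_centralizer hW).trans (Subgroup.centralizer_le_normalizer _))).unique
    (s.normalSubpair_of hW hb hbr) (s.normalSubpair_of hW (s.fw_spec hW).1 (s.fw_spec hW).2)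

lemma AbPair.fw_top : fw M P c P = c := by
  refine (s.fw_unique le_rfl s.pair.1.2 ?_).symm
  rw [br, trunc_eq_self (suppOn_bi c), bi_mul_self s.modular s.pair.1.2]

lemma AbPair.setting : Setting p M B P T c (fam (fw M P c)) :=
  ⟨s.modular, s.defect, s.pair, s.comm, s.stab, fun _ hy => s.fw_spec (Subgroup.zpowers_le.2 hy)⟩

lemma AbPair.rank {W : Subgroup G} (hW : W ≤ P) (h : ∀ t ∈ T, t ∈ C⟨W⟩ → t ∈ C⟨P⟩) :
    blockRank p (fw M P c W) = 1 :=
  blockRank_local_eq_one s.modular s.defect s.pair s.comm s.stab hW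
    (s.normalSubpair_of hW (s.fw_spec hW).1 (s.fw_spec hW).2) h

/-- The pair inside the centralizer of a subgroup of the defect group. -/
lemma AbPair.down {U : Subgroup G} (hU : U ≤ P) :
    AbPair p M (fw M P c U) (P.subgroupOf C⟨U⟩) (T.subgroupOf C⟨U⟩)
      (downSet (le_centralizer_sub s.comm hU) c) := by
  obtain ⟨h1, h2⟩ := defect_of_normalSubpair s.modular s.defect s.pair s.comm hU
    (s.normalSubpair_of hU (s.fw_spec hU).1 (s.fw_spec hU).2)
  exact ⟨s.modular, h1, h2, fun a ha b hb => Subtype.ext (s.comm _ ha _ hb),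
    isPairStab_down s.modular (s.le_centralizer hU) (le_centralizer_of_le hU) s.pair.1.2 s.stab⟩

/-- **Brauer images of primitive idempotents below the pair.** -/
lemma AbPair.br_mul_fw {R : Subgroup G} (hR : R ≤ P) {ε : MonoidAlgebra (Res M) G}
    (hε : IsPrim R ε) (hne : br R ε ≠ 0) {eR : Set (IrrCharacter C⟨R⟩)} (he : IsPBlock M eR)
    (hεe : br R ε * bi M C⟨R⟩ eR = br R ε) (hle : SubpairLE p M R eR P c) {W : Subgroup G}
    (hW : W ≤ R) : br W ε * bi M C⟨W⟩ (fw M P c W) = br W ε := by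
  have hWP := hW.trans hR
  have hnorm := s.normalSubpair_of hWP (s.fw_spec hWP).1 (s.fw_spec hWP).2
  suffices h0 : ∀ b ∈ blocksFinset M C⟨W⟩, b ≠ fw M P c W → br W ε * bi M C⟨W⟩ b = 0 by
    rw [← Finset.sum_eq_single_of_mem _ ((mem_blocksFinset s.modular).2 (s.fw_spec hWP).1) h0,
      ← Finset.mul_sum, sum_bi s.modular, mul_one]
  intro b hb hne'
  by_contra h
  refine hne' ?_
  have hsub := SubpairLE.trans' (hε.subpairLE s.modular (s.pair.1.1.to_le hR) hne he hεe W hW b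
    ((mem_blocksFinset s.modular).1 hb) h) hle
  exact (existsUnique_subpairLE s.modular s.pair.1 hWP).unique hsub
    (Relation.ReflTransGen.single (show NormalSubpairRel p M ⟨W, _⟩ ⟨P, c⟩ from hnorm))

lemma AbPair.card_pow : Nat.card P = p ^ blockDefect p B :=
  IsDefectGroup.card s.modular s.pair.2.1 s.defect

/-! ### Moduli one -/

/-- With trivial inertia all contributions of a member of the block are one. -/
theorem AbPair.FF_eq_one (htriv : ∀ t ∈ T, t ∈ C⟨P⟩) {η : IrrCharacter G} (hη : η ∈ B) {y : G}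
    (hy : y ∈ P) : FF p (fw M P c) y η η = 1 := by
  have ss := s.setting
  set n := Nat.card P with hn
  haveI : NeZero n := ⟨Nat.card_pos.ne'⟩
  have hyn : ∀ y : P, (y : G) ^ n = 1 := fun y => congrArg Subtype.val (pow_card_eq_one' (x := y))
  choose r hr0 hr using fun y : P => ss.FF_self y.2 η
  obtain ⟨-, hone⟩ := Homocyclic.mean_bound n (fun y : P => FF p (fw M P c) (y : G) η η) r hr
    (fun y => (hr0 y).lt_of_ne fun h => ss.FF_ne_zero y.2 hη (by rw [hr, ← h, Complex.ofReal_zero]))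
    (fun y => (ss.FF_galois y.2 (hyn y) η η).2.1) (fun y => (ss.FF_galois y.2 (hyn y) η η).1)
    (fun σ j hj hσ => ⟨fun y => y ^ j,
      (powCoprime (G := P) hj.symm).bijective, fun y => by
        rw [(ss.FF_galois y.2 (hyn y) η η).2.2 σ j hj hσ, Subgroup.coe_pow]⟩)
  have hwt : ∀ y : P, wt T (y : G) = 1 := fun y => by
    have : T ⊓ C⟨Subgroup.zpowers (y : G)⟩ = T :=
      inf_eq_left.2 fun t ht => centralizer_le_zpowers y.2 (htriv t ht)
    rw [wt, this, div_self (Nat.cast_ne_zero.2 Nat.card_pos.ne')]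
  have hsum : ∑ y : P, r y = (n : ℝ) := by
    apply Complex.ofReal_injective
    have h1 := ss.mat_one hη hη
    rw [if_pos rfl] at h1
    simp only [AbelianStar.mat, hwt, one_mul] at h1
    push_cast
    rw [Finset.sum_congr rfl fun y _ => (hr y).symm, Finset.sum_congr rfl fun y _ =>
      ss.FF_eq_kk y.2 η η, ← Finset.mul_sum, h1, mul_one, hn, s.card_pow, Nat.cast_pow]
  have := hone (by rw [hsum, hn, Nat.card_eq_fintype_card]) ⟨y, hy⟩
  rw [show FF p (fw M P c) y η η = _ from hr ⟨y, hy⟩, this, Complex.ofReal_one]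

/-- **The decomposition value has modulus one.** -/
theorem AbPair.gv_norm {U : Subgroup G} (hU : U ≤ P)
    (hfree : ∀ t ∈ T, t ∈ C⟨U⟩ → t ∈ C⟨P⟩) {θ : IrrCharacter C⟨U⟩} (hθ : θ ∈ fw M P c U) {v : G}
    (hv : v ∈ P) :
    gv M C⟨U⟩ C⟨U ⊔ Subgroup.zpowers v⟩ (fw M P c (U ⊔ Subgroup.zpowers v)) θ v *
      conj (gv M C⟨U⟩ C⟨U ⊔ Subgroup.zpowers v⟩ (fw M P c (U ⊔ Subgroup.zpowers v)) θ v) = 1 := by
  have hM := s.modular
  haveI := charP_res hM
  have hPK : P ≤ C⟨U⟩ := s.le_centralizer hU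
  have sd := s.down hU
  set W := U ⊔ Subgroup.zpowers v with hWdef
  have hW : W ≤ P := sup_le hU (Subgroup.zpowers_le.2 hv)
  have hLK : C⟨W⟩ ≤ C⟨U⟩ := Subgroup.centralizer_le fun _ hx => Subgroup.mem_sup_left hx
  let v' : C⟨U⟩ := ⟨v, hPK hv⟩
  have hv' : v' ∈ P.subgroupOf C⟨U⟩ := hv
  have hv'le : Subgroup.zpowers v' ≤ P.subgroupOf C⟨U⟩ := Subgroup.zpowers_le.2 hv'
  have htrivK : ∀ t ∈ T.subgroupOf C⟨U⟩,
      t ∈ Subgroup.centralizer ((P.subgroupOf C⟨U⟩ : Subgroup C⟨U⟩) : Set C⟨U⟩) := fun t ht => by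
    rw [centralizer_subgroupOf_eq hPK, Subgroup.mem_subgroupOf]
    exact hfree _ ht t.2
  have hrkK := sd.rank hv'le fun t ht _ => htrivK t ht
  have hrkW : blockRank p (fw M P c W) = 1 := s.rank hW fun t ht htW =>
    hfree t ht (Subgroup.centralizer_le (fun _ hx => Subgroup.mem_sup_left hx) htW)
  have hFF := sd.FF_eq_one htrivK hθ hv'
  rw [FF, fam, contribution_eq_ga hM (sd.fw_spec hv'le).1 hrkK] at hFF
  -- the two centralizers
  set L' : Subgroup C⟨U⟩ :=
    Subgroup.centralizer ((Subgroup.zpowers v' : Subgroup C⟨U⟩) : Set C⟨U⟩) with hL'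
  have hsub : IsSubOf C⟨U⟩ C⟨W⟩ L' := by
    intro h
    rw [hL', centralizer_zpowers, Subgroup.mem_centralizer_singleton_iff, Subtype.ext_iff,
      Subgroup.coe_mul, Subgroup.coe_mul]
    refine ⟨fun he => Subgroup.mem_centralizer_iff.2 fun y hy => ?_, fun he =>
      (Subgroup.mem_centralizer_iff.1 he v (Subgroup.mem_sup_right (Subgroup.mem_zpowers v))).symm⟩
    have hle : W ≤ Subgroup.centralizer ({(h : G)} : Set G) := sup_le
      (fun z hz => Subgroup.mem_centralizer_singleton_iff.2 (Subgroup.mem_centralizer_iff.1 h.2 z hz))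
      (Subgroup.zpowers_le.2 (Subgroup.mem_centralizer_singleton_iff.2 he.symm))
    exact Subgroup.mem_centralizer_singleton_iff.1 (hle hy)
  set fK := fw M (P.subgroupOf C⟨U⟩) (downSet (le_centralizer_sub s.comm hU) c)
    (Subgroup.zpowers v') with hfK
  have hfb : IsPBlock M fK := (sd.fw_spec hv'le).1
  have hf : inSub hsub hLK (fw M P c W) = fK := by
    refine sd.fw_unique hv'le (isPBlock_inSub hsub hLK (s.fw_spec hW).1) ?_
    apply emb_injective C⟨U⟩
    rw [emb_mul, emb_br C⟨U⟩ P hPK, emb_bi_inSub hsub hLK, emb_bi_downSet hPK (le_centralizer_of_le hU)]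
    exact (s.fw_spec hW).2
  have hbiK : emb C⟨U⟩ (bi M L' fK) = bi M C⟨W⟩ (fw M P c W) := by rw [← hf, emb_bi_inSub]
  obtain ⟨i, hi, hs⟩ := exists_single hM (s.fw_spec hW).1 hrkW
  obtain ⟨j, hj, hsj⟩ := exists_single hM hfb hrkK
  set δ := gv M C⟨U⟩ C⟨W⟩ (fw M P c W) θ v with hδ
  set δ' := ga M v' fK θ with hδ'
  -- the idempotent of the first seen in the second
  have hsL : SuppOn C⟨U⟩ (emb C⟨W⟩ ((sys M C⟨W⟩).eps i)) := suppOn_mono (suppOn_emb _ _) hLK
  have hblk : ∀ {K : Type u} [Group K] [Fintype K] {b : Set (IrrCharacter K)} {l : Ix M K},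
      InBlk M b l → (sys M K).eps l * red M (blockElem b) = (sys M K).eps l := fun {K} _ _ {b} {l} h => by
    rw [← (isCentralFn_blockElem b).red.comm]; exact h
  obtain ⟨m, hm⟩ : ∃ m : ℕ, δ = (m : ℂ) * δ' := by
    refine ⟨NN M L' fK (resElem C⟨U⟩ (emb C⟨W⟩ ((sys M C⟨W⟩).eps i))), ?_⟩
    rw [hδ, gv, hs, Finset.sum_singleton, thS, dif_pos (hPK hv)]
    refine th_eq_ga hM hfb hrkK θ ?_ ?_ ?_
    · rw [← resElem_mul_supp hsL hsL, ← emb_mul, (sys M C⟨W⟩).eps_idem]
    · intro g hg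
      rw [fn_resElem]
      exact suppOn_emb _ _ _ fun h => hg ((hsub g).2 h)
    · apply emb_injective C⟨U⟩
      rw [emb_mul, hbiK, emb_resElem hsL, ← emb_red_blockElem, ← emb_mul, hblk hi]
  obtain ⟨m', hm'⟩ : ∃ m' : ℕ, δ' = (m' : ℂ) * δ := by
    set x' := emb C⟨U⟩ (emb L' ((sys M L').eps j)) with hx'
    refine ⟨NN M C⟨W⟩ (fw M P c W) x', ?_⟩
    have key := thS_eq hM (s.fw_spec hW).1 hrkW hLK θ (v := v) (hPK hv)
      (fun l hl => Subgroup.mem_centralizer_iff.1 hl v (Subgroup.mem_sup_right (Subgroup.mem_zpowers v)))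
      (x := x') (by rw [hx', ← emb_mul, ← emb_mul, (sys M L').eps_idem])
      (fun g hg => by
        by_cases hgK : g ∈ C⟨U⟩
        · rw [hx', fn_emb_mem _ _ hgK]
          exact suppOn_emb _ _ _ fun h => hg ((hsub ⟨g, hgK⟩).1 h)
        · rw [hx', fn_emb_not_mem _ _ hgK])
      (by rw [hx', ← hbiK, ← emb_mul, ← emb_red_blockElem, ← emb_mul, hblk hj])
    rw [thS, dif_pos (hPK hv), hx', resElem_emb] at key
    rw [hδ', ga, hsj, Finset.sum_singleton]
    exact key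
  have hδ'0 : δ' ≠ 0 := fun h => by rw [h, zero_mul] at hFF; exact zero_ne_one hFF
  have hmm : (m : ℂ) * m' = 1 := by
    refine mul_right_cancel₀ hδ'0 ?_
    rw [one_mul]
    conv_rhs => rw [hm', hm]
    ring
  have hmm' : m = 1 := Nat.eq_one_of_mul_eq_one_right (by exact_mod_cast hmm)
  rw [hm, hmm', Nat.cast_one, one_mul]
  exact hFF

/-! ### Multiplicities -/

lemma AbPair.map_conj_fw {W : Subgroup G} (hW : W ≤ P) {t : G} (ht : t ∈ T) :
    W.map (MulAut.conj t).toMonoidHom ≤ P ∧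
      cj t (bi M C⟨W⟩ (fw M P c W)) = bi M C⟨W.map (MulAut.conj t).toMonoidHom⟩
        (fw M P c (W.map (MulAut.conj t).toMonoidHom)) := by
  obtain ⟨htN, hts⟩ := (s.stab t).1 ht
  have hle : W.map (MulAut.conj t).toMonoidHom ≤ P := by
    rintro _ ⟨w, hw, rfl⟩
    exact (Subgroup.mem_normalizer_iff.1 htN w).1 (hW hw)
  refine ⟨hle, ?_⟩
  have hb : conjBlock W t (fw M P c W) = fw M P c (W.map (MulAut.conj t).toMonoidHom) := by
    refine s.fw_unique hle (isPBlock_conjBlock W t (s.fw_spec hW).1) ?_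
    have h := congrArg (cj t) (s.fw_spec hW).2
    rw [cj_mul, cj_br, map_conj_of_mem_normalizer htN,
      (stabilizes_iff_of_normalizer s.modular s.pair.1.2 htN).1 hts, ← bi_conjBlock] at h
    exact h
  rw [← bi_conjBlock, hb]

/-- Multiplicities are unchanged by the centralizer. -/
lemma AbPair.NN_cj_centralizer {W : Subgroup G} {z : G} (hz : z ∈ C⟨W⟩)
    {b : Set (IrrCharacter C⟨W⟩)} {x : MonoidAlgebra (Res M) G} (hxx : x * x = x)
    (hxs : SuppOn C⟨W⟩ x) : NN M C⟨W⟩ b (cj z x) = NN M C⟨W⟩ b x := by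
  set a := resElem C⟨W⟩ x with ha
  have haa : a * a = a := by rw [ha, ← resElem_mul_supp hxs hxs, hxx]
  let z' : C⟨W⟩ := ⟨z, hz⟩
  have he : resElem C⟨W⟩ (cj z x) = cj z' a := fn_ext fun g => by
    rw [fn_resElem, fn_cj, fn_cj, ha, fn_resElem]; rfl
  refine Finset.sum_congr rfl fun i _ => ?_
  rw [he]
  refine (sys M C⟨W⟩).mu_equiv (by rw [← cj_mul, haa]) haa
    ⟨sE z' * a, a * sE z'⁻¹, ?_, ?_⟩ i
  · rw [cj_eq_mul z' a]
    simp only [← mul_assoc]
    rw [mul_assoc (sE z') a a, haa]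
  · rw [mul_assoc a, ← mul_assoc (sE z'⁻¹), show (sE z'⁻¹ * sE z' : MonoidAlgebra (Res M) C⟨W⟩) = 1 by
      rw [MonoidAlgebra.single_mul_single, inv_mul_cancel, mul_one, MonoidAlgebra.one_def], one_mul,
      haa]

/-- Transport of multiplicities along the stabilizer. -/
theorem AbPair.NN_conj {W : Subgroup G} (hW : W ≤ P) (hr : ∀ t ∈ T, t ∈ C⟨W⟩ → t ∈ C⟨P⟩)
    {t : G} (ht : t ∈ T) {x : MonoidAlgebra (Res M) G} (hxx : x * x = x)
    (hxs : SuppOn C⟨W⟩ x) (hxb : x * bi M C⟨W⟩ (fw M P c W) = x) :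
    NN M C⟨W.map (MulAut.conj t).toMonoidHom⟩ (fw M P c (W.map (MulAut.conj t).toMonoidHom))
      (cj t x) = NN M C⟨W⟩ (fw M P c W) x := by
  set W' := W.map (MulAut.conj t).toMonoidHom with hW'
  obtain ⟨hW'P, hbt⟩ := s.map_conj_fw hW ht
  have hM := s.modular
  have hiff : ∀ g, g ∈ C⟨W'⟩ ↔ t⁻¹ * g * t ∈ C⟨W⟩ := isConjSub_centralizer W t
  have hr' : ∀ r ∈ T, r ∈ C⟨W'⟩ → r ∈ C⟨P⟩ := fun r hrT hrW => by
    have h1 := hr _ (T.mul_mem (T.mul_mem (T.inv_mem ht) hrT) ht) ((hiff r).1 hrW)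
    have h2 := (Subgroup.mem_normalizer_iff.1
      (centralizer_le_normalizer_centralizer ((s.stab t).1 ht).1 le_rfl) _).1 h1
    rwa [show t * (t⁻¹ * r * t) * t⁻¹ = r by group] at h2
  have hbt' : cj t⁻¹ (bi M C⟨W'⟩ (fw M P c W')) = bi M C⟨W⟩ (fw M P c W) := by
    rw [← hbt, cj_cj, inv_mul_cancel, cj_one]
  -- one direction, generically
  have hdir : ∀ (V V' : Subgroup G), IsPBlock M (fw M P c V) → blockRank p (fw M P c V) = 1 →
      IsPBlock M (fw M P c V') →
      ∀ (u : G), (∀ g, g ∈ C⟨V'⟩ ↔ u⁻¹ * g * u ∈ C⟨V⟩) →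
        cj u (bi M C⟨V⟩ (fw M P c V)) = bi M C⟨V'⟩ (fw M P c V') →
      ∃ k : ℕ, ∀ x : MonoidAlgebra (Res M) G, x * x = x → SuppOn C⟨V⟩ x →
        x * bi M C⟨V⟩ (fw M P c V) = x →
        (NN M C⟨V'⟩ (fw M P c V') (cj u x) : ℂ) = (NN M C⟨V⟩ (fw M P c V) x : ℂ) * (k : ℂ) := by
    intro V V' hb hl hb' u hiffu hbu
    refine ⟨∑ i ∈ Finset.univ.filter (InBlk M (fw M P c V)),
      NN M C⟨V'⟩ (fw M P c V') (cj u (emb C⟨V⟩ ((sys M C⟨V⟩).eps i))), fun x hx1 hx2 hx3 => ?_⟩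
    have hsupp : ∀ a : MonoidAlgebra (Res M) C⟨V⟩, SuppOn C⟨V'⟩ (cj u (emb C⟨V⟩ a)) := fun a g hg => by
      rw [fn_cj]
      exact suppOn_emb _ a _ fun h => hg ((hiffu g).2 h)
    have hmul : ∀ a a' : MonoidAlgebra (Res M) C⟨V⟩,
        resElem C⟨V'⟩ (cj u (emb C⟨V⟩ a)) * resElem C⟨V'⟩ (cj u (emb C⟨V⟩ a')) =
          resElem C⟨V'⟩ (cj u (emb C⟨V⟩ (a * a'))) := fun a a' => by
      rw [emb_mul, cj_mul, resElem_mul_supp (hsupp a) (hsupp a')]
    have hz : resElem C⟨V'⟩ (cj u (emb C⟨V⟩ (0 : MonoidAlgebra (Res M) C⟨V⟩))) = 0 := by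
      rw [emb_zero, cj_zero, resElem_zero']
    have key := additive_rank_one hM hb hl
      (fun a => (NN M C⟨V'⟩ (fw M P c V') (cj u (emb C⟨V⟩ a)) : ℂ))
      (by simp [NN, hz])
      (fun e f he hf hef hfe => by
        simp only [NN]
        rw [emb_add', Star.cj_add', resElem_add', ← Nat.cast_add, ← Finset.sum_add_distrib]
        congr 1
        exact Finset.sum_congr rfl fun i _ => (sys M C⟨V'⟩).mu_add (by rw [hmul, he]) (by rw [hmul, hf])
          (by rw [hmul, hef, hz]) (by rw [hmul, hfe, hz]) i)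
      (fun e f he hf h => by
        obtain ⟨a, b, h1, h2⟩ := h
        simp only [NN]
        congr 1
        exact Finset.sum_congr rfl fun i _ => (sys M C⟨V'⟩).mu_equiv (by rw [hmul, he])
          (by rw [hmul, hf]) ⟨_, _, (hmul a b).trans (by rw [h1]), (hmul b a).trans (by rw [h2])⟩ i)
      (f := resElem C⟨V⟩ x) (by rw [← resElem_mul_supp hx2 hx2, hx1])
      (by rw [← resElem_emb (red M (blockElem (fw M P c V))), ← resElem_mul_supp hx2 (suppOn_emb _ _),
        emb_red_blockElem, hx3])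
    beta_reduce at key
    rw [emb_resElem hx2] at key
    rw [key]
    simp only [NN]
    push_cast
    rfl
  obtain ⟨k, hk⟩ := hdir W W' (s.fw_spec hW).1 (s.rank hW hr) (s.fw_spec hW'P).1 t hiff hbt
  obtain ⟨k', hk'⟩ := hdir W' W (s.fw_spec hW'P).1 (s.rank hW'P hr') (s.fw_spec hW).1 t⁻¹
    (fun g => by rw [inv_inv, hiff, show t⁻¹ * (t * g * t⁻¹) * t = g by group]) hbt'
  -- the base idempotent
  obtain ⟨i, hi, hs⟩ := exists_single hM (s.fw_spec hW).1 (s.rank hW hr)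
  set e := emb C⟨W⟩ ((sys M C⟨W⟩).eps i) with he
  have he1 : e * e = e := by rw [he, ← emb_mul, (sys M C⟨W⟩).eps_idem]
  have he2 : SuppOn C⟨W⟩ e := suppOn_emb _ _
  have he3 : e * bi M C⟨W⟩ (fw M P c W) = e := by
    rw [he, ← emb_red_blockElem, ← emb_mul, ← (isCentralFn_blockElem _).red.comm]
    exact congrArg _ hi
  have hNe : NN M C⟨W⟩ (fw M P c W) e = 1 := by
    rw [NN, hs, Finset.sum_singleton, he, resElem_emb]
    exact ((sys M C⟨W⟩).mu_eps i i).trans (if_pos rfl)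
  have h1 := hk e he1 he2 he3
  have h2 := hk' (cj t e) (by rw [← cj_mul, he1])
    (fun g hg => by rw [fn_cj]; exact he2 _ fun h => hg ((hiff g).2 h))
    (by rw [← hbt, ← cj_mul, he3])
  rw [cj_cj, inv_mul_cancel, cj_one, hNe, h1, hNe] at h2
  have hkk : k * k' = 1 := by
    have : ((k * k' : ℕ) : ℂ) = 1 := by push_cast; push_cast at h2; linear_combination -h2
    exact_mod_cast this
  have h3 := hk x hxx hxs hxb
  rw [Nat.eq_one_of_mul_eq_one_right hkk, Nat.cast_one, mul_one] at h3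
  exact_mod_cast h3

/-- An invariant idempotent of multiplicity one. -/
theorem AbPair.exists_prim_one : ∃ ε : MonoidAlgebra (Res M) G, IsPrim P ε ∧
    br P ε * bi M C⟨P⟩ c = br P ε ∧ br P ε ≠ 0 ∧ NN M C⟨P⟩ c (br P ε) = 1 := by
  have hM := s.modular
  haveI := charP_res hM
  have hP := s.pair.1.1
  have hPC : P ≤ C⟨P⟩ := s.le_centralizer le_rfl
  have hl : blockRank p c = 1 := by
    have := s.rank (W := P) le_rfl fun t _ h => h
    rwa [s.fw_top] at this
  obtain ⟨i, hi, hs⟩ := exists_single hM s.pair.1.2 hl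
  set a₀ := emb C⟨P⟩ ((sys M C⟨P⟩).eps i) with ha₀
  have ha1 : a₀ * a₀ = a₀ := by rw [ha₀, ← emb_mul, (sys M C⟨P⟩).eps_idem]
  have ha2 : SuppOn C⟨P⟩ a₀ := suppOn_emb _ _
  have ha3 : InvOn P a₀ := invOn_of_cj fun k hk => cj_eq_self_of_suppOn ha2 hk
  have hbra : br P a₀ = a₀ := trunc_eq_self ha2
  obtain ⟨g, hg, -, -, hgπ, -⟩ := exists_idem_below (k := Res M) (brHom (A := Res M) hP)
    (f := (1 : invAlg (Res M) P)) (a := ⟨a₀, ha3⟩) (one_mul _) (mul_one _)
    (by rw [brHom_apply, hbra, ha1])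
  rw [brHom_apply, brHom_apply, hbra] at hgπ
  have ha₀c : a₀ * bi M C⟨P⟩ c = a₀ := by
    rw [ha₀, ← emb_red_blockElem, ← emb_mul, ← (isCentralFn_blockElem _).red.comm]
    exact congrArg _ hi
  have hcomm : ∀ f : MonoidAlgebra (Res M) G,
      bi M C⟨P⟩ c * br P f = br P f * bi M C⟨P⟩ c := fun f => (invOn_bi c).comm (suppOn_br P f)
  have hsupp : ∀ f : MonoidAlgebra (Res M) G, SuppOn C⟨P⟩ (br P f * bi M C⟨P⟩ c) := fun f =>
    (suppOn_br P f).mul (suppOn_bi c)
  have key : NN M C⟨P⟩ c (br P (g : MonoidAlgebra (Res M) G) * bi M C⟨P⟩ c) = 1 →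
      ∃ e, IsPrim P e ∧ NN M C⟨P⟩ c (br P e * bi M C⟨P⟩ c) = 1 := by
    refine induction_prim (motive := fun f => NN M C⟨P⟩ c (br P f * bi M C⟨P⟩ c) = 1 →
      ∃ e, IsPrim P e ∧ NN M C⟨P⟩ c (br P e * bi M C⟨P⟩ c) = 1) ?_ ?_ ?_ g.2 (congrArg Subtype.val hg)
    · intro h
      rw [br_zero, zero_mul] at h
      simp [NN, resElem_zero'] at h
    · exact fun e he _ _ h => ⟨e, he, h⟩
    · intro e f hei hfi he hf hef hfe _ _ ihe ihf h
      have hidem : ∀ x y : MonoidAlgebra (Res M) G, InvOn P x → InvOn P y →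
          resElem C⟨P⟩ (br P x * bi M C⟨P⟩ c) * resElem C⟨P⟩ (br P y * bi M C⟨P⟩ c) =
            resElem C⟨P⟩ (br P (x * y) * bi M C⟨P⟩ c) := fun x y hx hy => by
        rw [← resElem_mul_supp (hsupp x) (hsupp y), br_mul hP hx hy, mul_assoc,
          ← mul_assoc (bi M C⟨P⟩ c), hcomm, mul_assoc (br P y), bi_mul_self hM s.pair.1.2, mul_assoc]
      have hadd : NN M C⟨P⟩ c (br P (e + f) * bi M C⟨P⟩ c) =
          NN M C⟨P⟩ c (br P e * bi M C⟨P⟩ c) + NN M C⟨P⟩ c (br P f * bi M C⟨P⟩ c) := by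
        simp only [NN]
        rw [Star.br_add', add_mul, resElem_add', ← Finset.sum_add_distrib]
        exact Finset.sum_congr rfl fun l _ => (sys M C⟨P⟩).mu_add (by rw [hidem e e hei hei, he])
          (by rw [hidem f f hfi hfi, hf]) (by rw [hidem e f hei hfi, hef, br_zero, zero_mul, resElem_zero'])
          (by rw [hidem f e hfi hei, hfe, br_zero, zero_mul, resElem_zero']) l
      rw [hadd] at h
      rcases Nat.eq_zero_or_pos (NN M C⟨P⟩ c (br P e * bi M C⟨P⟩ c)) with h0 | h0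
      · exact ihf (by omega)
      · exact ihe (by omega)
  obtain ⟨e, he, he1⟩ := key (by
    rw [hgπ, ha₀c, NN, hs, Finset.sum_singleton, ha₀, resElem_emb]
    exact ((sys M C⟨P⟩).mu_eps i i).trans (if_pos rfl))
  have hne : br P e * bi M C⟨P⟩ c ≠ 0 := fun h0 => by
    rw [h0] at he1
    simp [NN, resElem_zero'] at he1
  have hne' : br P e ≠ 0 := fun h0 => hne (by rw [h0, zero_mul])
  obtain ⟨eR, heR, hee⟩ := he.exists_block hM hP hne'
  obtain rfl : eR = c := by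
    by_contra hne''
    exact hne (by rw [← hee, mul_assoc, bi_mul_bi hM heR s.pair.1.2 hne'', mul_zero])
  exact ⟨e, he, hee, hne', by rwa [hee] at he1⟩

end Ab

/-! ### The normalised signs -/

/-- The maximal pair with freely acting inertial quotient. -/
structure FreePair (p : ℕ) (M : Ideal AlgInt) (B : Set (IrrCharacter G)) (P T : Subgroup G)
    (c : Set (IrrCharacter C⟨P⟩)) : Prop extends AbPair p M B P T c where
  free : ∀ t ∈ T, ∀ y ∈ P, y ≠ 1 → t * y * t⁻¹ = y → t ∈ C⟨P⟩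

/-- The chosen idempotent of multiplicity one. -/
noncomputable def baseIdem (M : Ideal AlgInt) (P : Subgroup G) (c : Set (IrrCharacter C⟨P⟩)) :
    MonoidAlgebra (Res M) G :=
  Classical.epsilon fun ε => IsPrim P ε ∧ br P ε * bi M C⟨P⟩ c = br P ε ∧ br P ε ≠ 0 ∧
    NN M C⟨P⟩ c (br P ε) = 1

/-- Its conjugates under the inertial quotient. -/
noncomputable def conjIdem (M : Ideal AlgInt) (P T : Subgroup G) (c : Set (IrrCharacter C⟨P⟩))
    (q : T ⧸ C⟨P⟩.subgroupOf T) : MonoidAlgebra (Res M) G :=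
  cj ((q.out : T) : G) (baseIdem M P c)

/-- The total multiplicity on a subgroup. -/
noncomputable def nW (M : Ideal AlgInt) (P T : Subgroup G) (c : Set (IrrCharacter C⟨P⟩))
    (W : Subgroup G) : ℕ :=
  ∑ q : T ⧸ C⟨P⟩.subgroupOf T, NN M C⟨W⟩ (fw M P c W) (br W (conjIdem M P T c q))

/-- The normalised sign of a subgroup. -/
noncomputable def sgnW (p : ℕ) (M : Ideal AlgInt) (P T : Subgroup G)
    (c : Set (IrrCharacter C⟨P⟩)) (W : Subgroup G) : ℂ :=
  (sg p (C⟨P⟩.relIndex T) (nW M P T c W) : ℂ) / (nW M P T c W : ℂ)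

variable (s : FreePair p M B P T c)
include s

lemma FreePair.htriv {W : Subgroup G} (hW : W ≤ P) (hW1 : W ≠ ⊥) :
    ∀ t ∈ T, t ∈ C⟨W⟩ → t ∈ C⟨P⟩ := by
  intro t ht htW
  obtain ⟨⟨y, hyW⟩, hy⟩ := Subgroup.ne_bot_iff_exists_ne_one.1 hW1
  have hy1 : y ≠ 1 := fun h => hy (Subtype.ext h)
  refine s.free t ht y (hW hyW) hy1 ?_
  rw [← Subgroup.mem_centralizer_iff.1 htW y hyW, mul_inv_cancel_right]

lemma FreePair.base : IsPrim P (baseIdem M P c) ∧
    br P (baseIdem M P c) * bi M C⟨P⟩ c = br P (baseIdem M P c) ∧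
    br P (baseIdem M P c) ≠ 0 ∧ NN M C⟨P⟩ c (br P (baseIdem M P c)) = 1 :=
  Classical.epsilon_spec s.toAbPair.exists_prim_one

lemma FreePair.conjIdem_spec (q : T ⧸ C⟨P⟩.subgroupOf T) :
    IsPrim P (conjIdem M P T c q) ∧
    br P (conjIdem M P T c q) * bi M C⟨P⟩ c = br P (conjIdem M P T c q) ∧
    br P (conjIdem M P T c q) ≠ 0 := by
  obtain ⟨h1, h2, h3, -⟩ := s.base
  obtain ⟨htN, hts⟩ := (s.stab _).1 (q.out : T).2
  have hmap := map_conj_of_mem_normalizer htN
  have hbr : br P (conjIdem M P T c q) = cj ((q.out : T) : G) (br P (baseIdem M P c)) := by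
    rw [conjIdem, cj_br, hmap]
  refine ⟨isPrim_cj hmap h1, ?_, ?_⟩
  · rw [hbr]
    conv_rhs => rw [← h2]
    rw [cj_mul, (stabilizes_iff_of_normalizer s.modular s.pair.1.2 htN).1 hts]
  · rw [hbr]
    intro h0
    have := congrArg (cj ((q.out : T) : G)⁻¹) h0
    rw [cj_cj, inv_mul_cancel, cj_one, cj_zero] at this
    exact h3 this

/-- Brauer images below the pair. -/
lemma FreePair.br_conjIdem (q : T ⧸ C⟨P⟩.subgroupOf T) {W : Subgroup G} (hW : W ≤ P) :
    br W (conjIdem M P T c q) * bi M C⟨W⟩ (fw M P c W) = br W (conjIdem M P T c q) := by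
  obtain ⟨h1, h2, h3⟩ := s.conjIdem_spec q
  exact s.toAbPair.br_mul_fw le_rfl h1 h3 s.pair.1.2 h2 Relation.ReflTransGen.refl hW

lemma FreePair.br_idem' {R W : Subgroup G} {ε : MonoidAlgebra (Res M) G} (hR : R ≤ P)
    (hε : IsPrim R ε) (hW : W ≤ R) : br W ε * br W ε = br W ε :=
  Star.br_idem s.modular (s.pair.1.1.to_le (hW.trans hR)) (hε.inv.mono hW) hε.idem

lemma FreePair.nW_top : nW M P T c P = C⟨P⟩.relIndex T := by
  haveI := charP_res s.modular
  rw [nW, Finset.sum_congr rfl (g := fun _ => 1) fun q _ => ?_, Finset.sum_const, smul_eq_mul,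
    mul_one, Finset.card_univ, ← Nat.card_eq_fintype_card]
  · rfl
  obtain ⟨h1, h2, h3, h4⟩ := s.base
  obtain ⟨htN, -⟩ := (s.stab _).1 (q.out : T).2
  have hmap := map_conj_of_mem_normalizer htN
  have key := s.toAbPair.NN_conj (W := P) le_rfl (fun t _ h => h) (q.out : T).2
    (x := br P (baseIdem M P c)) (s.br_idem' le_rfl h1 le_rfl) (suppOn_br P _)
    (by rw [s.toAbPair.fw_top]; exact h2)
  rw [cj_br, hmap, s.toAbPair.fw_top, h4] at key
  rw [s.toAbPair.fw_top]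
  exact key

/-- Reindexing the conjugates by an element of the stabilizer. -/
lemma FreePair.exists_reindex {t : G} (ht : t ∈ T) :
    ∃ e : T ⧸ C⟨P⟩.subgroupOf T ≃ T ⧸ C⟨P⟩.subgroupOf T, ∀ q, ∃ z ∈ C⟨P⟩,
      cj t (conjIdem M P T c q) = cj z (conjIdem M P T c (e q)) := by
  refine ⟨MulAction.toPerm (⟨t, ht⟩ : T), fun q => ?_⟩
  set q' := MulAction.toPerm (⟨t, ht⟩ : T) q with hq'
  have h : ((⟨t, ht⟩ * q.out : T) : T ⧸ C⟨P⟩.subgroupOf T) = q' := by
    rw [hq', MulAction.toPerm_apply]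
    conv_rhs => rw [← QuotientGroup.out_eq' q]
    rfl
  obtain ⟨⟨w, hw⟩, hwe⟩ := QuotientGroup.mk_out_eq_mul (C⟨P⟩.subgroupOf T) (⟨t, ht⟩ * q.out : T)
  rw [h] at hwe
  have hwC : (w : G) ∈ C⟨P⟩ := Subgroup.mem_subgroupOf.1 hw
  obtain ⟨htN, -⟩ := (s.stab _).1 (q'.out : T).2
  refine ⟨(q'.out : T) * (w : G)⁻¹ * ((q'.out : T) : G)⁻¹, ?_, ?_⟩
  · exact (Subgroup.mem_normalizer_iff.1
      (centralizer_le_normalizer_centralizer htN le_rfl) _).1 (inv_mem hwC)
  · rw [conjIdem, conjIdem, cj_cj, cj_cj]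
    congr 1
    rw [hwe]
    simp only [Subgroup.coe_mul, inv_mul_cancel_right]
    group

lemma FreePair.nW_conj {W : Subgroup G} (hW : W ≤ P) (hW1 : W ≠ ⊥) {t : G} (ht : t ∈ T) :
    nW M P T c (W.map (MulAut.conj t).toMonoidHom) = nW M P T c W := by
  haveI := charP_res s.modular
  obtain ⟨e, he⟩ := s.exists_reindex ht
  obtain ⟨hW', -⟩ := s.toAbPair.map_conj_fw hW ht
  refine (Fintype.sum_equiv e _ _ fun q => ?_).symm
  obtain ⟨z, hz, hzq⟩ := he q
  obtain ⟨h1, -, -⟩ := s.conjIdem_spec q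
  obtain ⟨k1, -, -⟩ := s.conjIdem_spec (e q)
  rw [← s.toAbPair.NN_conj hW (s.htriv hW hW1) ht (s.br_idem' le_rfl h1 hW) (suppOn_br W _)
    (s.br_conjIdem q hW), cj_br, hzq]
  set W' := W.map (MulAut.conj t).toMonoidHom with hW'def
  have hzW : z ∈ C⟨W'⟩ := le_centralizer_of_le hW' hz
  conv_lhs => rw [show br W' (cj z (conjIdem M P T c (e q))) =
    cj z (br W' (conjIdem M P T c (e q))) by
      rw [cj_br, map_conj_of_mem_normalizer (Subgroup.centralizer_le_normalizer _ hzW)]]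
  exact s.toAbPair.NN_cj_centralizer hzW (s.br_idem' le_rfl k1 hW') (suppOn_br _ _)

/-- The value at a subgroup enlarged by one element. -/
lemma FreePair.thS_eval {U : Subgroup G} {R : Subgroup G} (hR : R ≤ P) (hU : U ≤ R) (hU1 : U ≠ ⊥)
    (θ : IrrCharacter C⟨U⟩) {ε : MonoidAlgebra (Res M) G} (hε : IsPrim R ε)
    (hbr : ∀ W : Subgroup G, W ≤ R → br W ε * bi M C⟨W⟩ (fw M P c W) = br W ε) {v : G}
    (hv : v ∈ R) :
    thS M C⟨U⟩ θ v (br U ε) =
      (NN M C⟨U ⊔ Subgroup.zpowers v⟩ (fw M P c (U ⊔ Subgroup.zpowers v))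
        (br (U ⊔ Subgroup.zpowers v) ε) : ℂ) *
        gv M C⟨U⟩ C⟨U ⊔ Subgroup.zpowers v⟩ (fw M P c (U ⊔ Subgroup.zpowers v)) θ v := by
  haveI := charP_res s.modular
  set W := U ⊔ Subgroup.zpowers v with hW
  have hWR : W ≤ R := sup_le hU (Subgroup.zpowers_le.2 hv)
  have hWP := hWR.trans hR
  have hW1 : W ≠ ⊥ := fun h => hU1 (le_bot_iff.1 (h ▸ le_sup_left))
  have hvU : v ∈ C⟨U⟩ := s.toAbPair.le_centralizer (hU.trans hR) (hR hv)
  rw [thS_br s.modular θ hvU (Star.isPElem_of_mem (s.pair.1.1.to_le hR) hv) (suppOn_br U ε)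
    (s.br_idem' hR hε hU), br_sup]
  · exact thS_eq s.modular (s.toAbPair.fw_spec hWP).1 (s.toAbPair.rank hWP (s.htriv hWP hW1))
      (Subgroup.centralizer_le fun _ hx => Subgroup.mem_sup_left hx) θ hvU
      (fun l hl => Subgroup.mem_centralizer_iff.1 hl v
        (Subgroup.mem_sup_right (Subgroup.mem_zpowers v)))
      (s.br_idem' hR hε hWR) (suppOn_br W ε) (hbr W hWR)
  · refine invOn_br (hε.inv.mono (Subgroup.zpowers_le.2 hv)) fun k hk y hy => ?_
    have hkP : k ∈ P := hR (Subgroup.zpowers_le.2 hv hk)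
    rw [← s.comm y (hR (hU hy)) k hkP, mul_inv_cancel_right]
    exact hy

lemma FreePair.sup_pow (U : Subgroup G) {v : G} (hv : v ∈ P) {j : ℕ}
    (hj : j.Coprime (Nat.card P)) : U ⊔ Subgroup.zpowers (v ^ j) = U ⊔ Subgroup.zpowers v := by
  congr 1
  have hord : orderOf (v ^ j) = orderOf v := Nat.Coprime.orderOf_pow
    ((hj.coprime_dvd_right (Subgroup.orderOf_dvd_natCard P hv)).symm)
  exact Subgroup.eq_of_le_of_card_ge (Subgroup.zpowers_le.2 (Subgroup.pow_mem _
    (Subgroup.mem_zpowers _) _)) (by rw [Nat.card_zpowers, Nat.card_zpowers, hord])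

/-- The decomposition value is an algebraic integer. -/
lemma FreePair.gv_integral {U W : Subgroup G} (hUW : U ≤ W) (hW : W ≤ P)
    (θ : IrrCharacter C⟨U⟩) {v : G} (hv : v ∈ W) :
    IsIntegral ℤ (gv M C⟨U⟩ C⟨W⟩ (fw M P c W) θ v) := by
  refine IsIntegral.sum _ fun i _ => ?_
  have hLK : C⟨W⟩ ≤ C⟨U⟩ := Subgroup.centralizer_le hUW
  have hvU : v ∈ C⟨U⟩ := s.toAbPair.le_centralizer (hUW.trans hW) (hW hv)
  exact IsGeneralizedCharacter.isIntegral (isGeneralized_thS
    (Subgroup.zpowers_le.2 hvU) θ (suppOn_mono (suppOn_emb _ _) hLK)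
    (by rw [← emb_mul, (sys M C⟨W⟩).eps_idem])
    (invOn_of_cj fun k hk => cj_eq_self_of_suppOn (suppOn_emb _ _) (Subgroup.zpowers_le.2 hv hk)))
    ⟨v, Subgroup.mem_zpowers v⟩

/-- The virtual character carrying the total multiplicities. -/
lemma FreePair.gen_total {U : Subgroup G} (hU : U ≤ P) (hU1 : U ≠ ⊥) (θ : IrrCharacter C⟨U⟩) :
    IsGeneralizedCharacter P fun v : P =>
      gv M C⟨U⟩ C⟨U ⊔ Subgroup.zpowers (v : G)⟩ (fw M P c (U ⊔ Subgroup.zpowers (v : G))) θ (v : G) *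
        (nW M P T c (U ⊔ Subgroup.zpowers (v : G)) : ℂ) := by
  haveI := charP_res s.modular
  have hrw : (fun v : P =>
      gv M C⟨U⟩ C⟨U ⊔ Subgroup.zpowers (v : G)⟩ (fw M P c (U ⊔ Subgroup.zpowers (v : G))) θ (v : G) *
        (nW M P T c (U ⊔ Subgroup.zpowers (v : G)) : ℂ)) =
      ∑ q : T ⧸ C⟨P⟩.subgroupOf T,
        fun v : P => thS M C⟨U⟩ θ (v : G) (br U (conjIdem M P T c q)) := by
    funext v
    rw [Finset.sum_apply, nW, Nat.cast_sum, Finset.mul_sum]
    exact Finset.sum_congr rfl fun q _ => by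
      rw [s.thS_eval le_rfl hU hU1 θ (s.conjIdem_spec q).1 (fun W hW => s.br_conjIdem q hW) v.2,
        mul_comm]
  rw [hrw]
  refine IsGeneralizedCharacter.sum _ _ fun q _ => ?_
  obtain ⟨h1, -, -⟩ := s.conjIdem_spec q
  refine isGeneralized_thS (s.toAbPair.le_centralizer hU) θ (suppOn_br _ _)
    (s.br_idem' le_rfl h1 hU) (invOn_br h1.inv fun k hk y hy => ?_)
  rw [← s.comm y (hU hy) k hk, mul_inv_cancel_right]
  exact hy

lemma FreePair.not_dvd_index : ¬ p ∣ C⟨P⟩.relIndex T :=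
  not_dvd_inertial_index s.modular s.defect (s.toAbPair.le_centralizer le_rfl)
    ((isBrauerPairOf_iff s.modular B P c).1 s.pair).2 s.stab

/-- The total multiplicities are congruent to the index up to sign. -/
lemma FreePair.nW_sq {W : Subgroup G} (hW : W ≤ P) (hW1 : W ≠ ⊥) :
    (p : ℤ) ∣ (nW M P T c W : ℤ) * nW M P T c W -
      (C⟨P⟩.relIndex T : ℤ) * C⟨P⟩.relIndex T := by
  induction hn : Nat.card P - Nat.card W using Nat.strong_induction_on generalizing W with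
  | _ n ih =>
  rcases eq_or_lt_of_le hW with rfl | hlt
  · rw [s.nW_top, sub_self]; exact dvd_zero _
  obtain ⟨v, hv, hvW⟩ := SetLike.exists_of_lt hlt
  letI : CommGroup P :=
    { (inferInstance : Group P) with mul_comm := fun a b => Subtype.ext (s.comm a a.2 b b.2) }
  obtain ⟨θ, hθ⟩ := IsPBlock.nonempty s.modular (s.toAbPair.fw_spec hW).1
  have hgen := s.gen_total hW hW1 θ
  have h := sq_congr s.modular (A := P) s.pair.1.1 hgen
    (n := fun v : P => nW M P T c (W ⊔ Subgroup.zpowers (v : G))) (fun u => by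
      rw [map_mul, map_natCast]
      linear_combination ((nW M P T c (W ⊔ Subgroup.zpowers (u : G)) : ℂ) *
        (nW M P T c (W ⊔ Subgroup.zpowers (u : G)) : ℂ)) *
        s.toAbPair.gv_norm hW (s.htriv hW hW1) hθ u.2) ⟨v, hv⟩
  simp only [OneMemClass.coe_one, Subgroup.zpowers_one_eq_bot, sup_bot_eq] at h
  have hW' : W ⊔ Subgroup.zpowers v ≤ P := sup_le hW (Subgroup.zpowers_le.2 hv)
  have hlt' : W < W ⊔ Subgroup.zpowers v := lt_of_le_of_ne le_sup_left fun e =>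
    hvW (e ▸ Subgroup.mem_sup_right (Subgroup.mem_zpowers v))
  have hcard : Nat.card P - Nat.card (W ⊔ Subgroup.zpowers v : Subgroup G) < n := by
    rw [← hn]
    have h1 : Nat.card W < Nat.card (W ⊔ Subgroup.zpowers v : Subgroup G) :=
      lt_of_le_of_ne (Subgroup.card_le_of_le hlt'.le)
        fun e => hlt'.ne (Subgroup.eq_of_le_of_card_ge hlt'.le e.ge)
    have h2 : Nat.card (W ⊔ Subgroup.zpowers v : Subgroup G) ≤ Nat.card P := Subgroup.card_le_of_le hW'
    omega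
  have := dvd_sub (ih _ hcard hW' (fun e => hW1 (le_bot_iff.1 (e ▸ le_sup_left))) rfl) h
  rwa [show ∀ a b e : ℤ, a - e - (a - b) = b - e from fun a b e => by ring] at this

lemma FreePair.nW_ne_zero {W : Subgroup G} (hW : W ≤ P) (hW1 : W ≠ ⊥) :
    (nW M P T c W : ℂ) ≠ 0 := by
  intro h
  rw [Nat.cast_eq_zero] at h
  have h2 := s.nW_sq hW hW1
  rw [h, Nat.cast_zero, mul_zero, zero_sub, dvd_neg] at h2
  have hp := Nat.prime_iff_prime_int.1 (Fact.out : p.Prime)
  exact s.not_dvd_index (Int.natCast_dvd_natCast.1 ((hp.dvd_or_dvd h2).elim id id))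

lemma FreePair.sgnW_sq {W : Subgroup G} (hW : W ≤ P) (hW1 : W ≠ ⊥) :
    sgnW p M P T c W * sgnW p M P T c W = 1 ∧
      conj (sgnW p M P T c W) = sgnW p M P T c W := by
  have hne := s.nW_ne_zero hW hW1
  refine ⟨?_, by rw [sgnW, map_div₀, map_natCast, map_intCast]⟩
  rw [sgnW, div_mul_div_comm, div_eq_one_iff_eq (mul_ne_zero hne hne)]
  rcases sg_cases (p := p) (C⟨P⟩.relIndex T) (nW M P T c W) with e | e <;> rw [e] <;> push_cast <;> ring

lemma FreePair.sgnW_conj {W : Subgroup G} (hW : W ≤ P) (hW1 : W ≠ ⊥) {t : G} (ht : t ∈ T) :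
    sgnW p M P T c (W.map (MulAut.conj t).toMonoidHom) = sgnW p M P T c W := by
  rw [sgnW, sgnW, s.nW_conj hW hW1 ht]

/-- **The signed multiplicities form a virtual character off the identity.** -/
theorem FreePair.exists_signed_multiplicity {R : Subgroup G} (hR : R ≤ P)
    {ε : MonoidAlgebra (Res M) G} (hε : IsPrim R ε) (hne : br R ε ≠ 0)
    {eR : Set (IrrCharacter C⟨R⟩)} (he : IsPBlock M eR)
    (hεe : br R ε * bi M C⟨R⟩ eR = br R ε) (hle : SubpairLE p M R eR P c) :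
    ∃ F : R → ℂ, IsGeneralizedCharacter R F ∧ ∀ r : R, r ≠ 1 →
      F r = sgnW p M P T c (Subgroup.zpowers (r : G)) *
        (NN M C⟨Subgroup.zpowers (r : G)⟩ (fw M P c (Subgroup.zpowers (r : G)))
          (br (Subgroup.zpowers (r : G)) ε) : ℂ) := by
  haveI := charP_res s.modular
  have hbr := fun (W : Subgroup G) (hW : W ≤ R) => s.toAbPair.br_mul_fw hR hε hne he hεe hle hW
  let φ : Subgroup G → ℂ := fun W =>
    sgnW p M P T c W * (NN M C⟨W⟩ (fw M P c W) (br W ε) : ℂ)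
  obtain ⟨F, hF, hFv⟩ := exists_generalized_of_sup (R := R) (fun U => φ (U.map R.subtype)) fun U hU => by
    set U' := U.map R.subtype with hU'
    have hU'R : U' ≤ R := Subgroup.map_subtype_le U
    have hU'P := hU'R.trans hR
    have hU'1 : U' ≠ ⊥ := fun h => hU ((Subgroup.map_eq_bot_iff_of_injective U R.subtype_injective).1 h)
    have hmap : ∀ v : R, (U ⊔ Subgroup.zpowers v).map R.subtype = U' ⊔ Subgroup.zpowers (v : G) :=
      fun v => by rw [Subgroup.map_sup, MonoidHom.map_zpowers]; rfl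
    simp only [hmap]
    obtain ⟨θ, hθ⟩ := IsPBlock.nonempty s.modular (s.toAbPair.fw_spec hU'P).1
    letI : CommGroup P :=
      { (inferInstance : Group P) with mul_comm := fun a b => Subtype.ext (s.comm a a.2 b b.2) }
    have hW1 : ∀ v : G, U' ⊔ Subgroup.zpowers v ≠ ⊥ := fun v e =>
      hU'1 (le_bot_iff.1 (e ▸ le_sup_left))
    have hWP : ∀ v : P, U' ⊔ Subgroup.zpowers (v : G) ≤ P := fun v =>
      sup_le hU'P (Subgroup.zpowers_le.2 v.2)
    obtain ⟨ν, e, hν⟩ := signed_linear s.modular (A := P) s.pair.1.1 (s.gen_total hU'P hU'1 θ)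
      (δ := fun v : P => gv M C⟨U'⟩ C⟨U' ⊔ Subgroup.zpowers (v : G)⟩
        (fw M P c (U' ⊔ Subgroup.zpowers (v : G))) θ (v : G))
      (n := fun v : P => nW M P T c (U' ⊔ Subgroup.zpowers (v : G))) (fun v => rfl)
      (fun v => s.toAbPair.gv_norm hU'P (s.htriv hU'P hU'1) hθ v.2)
      (fun v => s.gv_integral le_sup_left (hWP v) θ (Subgroup.mem_sup_right (Subgroup.mem_zpowers _)))
      (fun v j hj => by
        rw [Subgroup.coe_pow, s.sup_pow U' v.2 (by rwa [Nat.card_eq_fintype_card])])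
      s.not_dvd_index (fun v => s.nW_sq (hWP v) (hW1 _))
    have hgen : IsGeneralizedCharacter R fun v : R =>
        (e : ℂ) * (((ν (Subgroup.inclusion hR v) : ℂˣ) : ℂ) * thS M C⟨U'⟩ θ (v : G) (br U' ε)) := by
      have h1 := IsGeneralizedCharacter.zsmul (IsGeneralizedCharacter.mul
        (IsCharacter.isGeneralized (isCharacter_linear (ν.comp (Subgroup.inclusion hR))))
        (isGeneralized_thS (M := M) (hR.trans (s.toAbPair.le_centralizer hU'P)) θ (suppOn_br _ _)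
          (s.br_idem' hR hε hU'R) (invOn_br hε.inv fun k hk y hy => by
            rw [← s.comm y (hU'P hy) k (hR hk), mul_inv_cancel_right]; exact hy))) e
      convert! h1 using 1
      funext v
      simp [zsmul_eq_mul]
    convert! hgen using 1
    funext v
    rw [s.thS_eval hR hU'R hU'1 θ hε hbr v.2]
    have hd := s.toAbPair.gv_norm hU'P (s.htriv hU'P hU'1) hθ (hR v.2)
    have hn : (sg p (C⟨P⟩.relIndex T) (nW M P T c (U' ⊔ Subgroup.zpowers (v : G))) : ℂ) *
        conj (gv M C⟨U'⟩ C⟨U' ⊔ Subgroup.zpowers (v : G)⟩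
          (fw M P c (U' ⊔ Subgroup.zpowers (v : G))) θ (v : G)) =
        (e : ℂ) * ((ν (Subgroup.inclusion hR v) : ℂˣ) : ℂ) *
          (nW M P T c (U' ⊔ Subgroup.zpowers (v : G)) : ℂ) := hν (Subgroup.inclusion hR v)
    have hne' := s.nW_ne_zero (hWP (Subgroup.inclusion hR v)) (hW1 _)
    simp only [Subgroup.coe_inclusion] at hne'
    simp only [φ, sgnW]
    rw [div_mul_eq_mul_div, div_eq_iff hne']
    linear_combination
      ((gv M C⟨U'⟩ C⟨U' ⊔ Subgroup.zpowers (v : G)⟩ (fw M P c (U' ⊔ Subgroup.zpowers (v : G))) θ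
          (v : G)) * (NN M C⟨U' ⊔ Subgroup.zpowers (v : G)⟩
          (fw M P c (U' ⊔ Subgroup.zpowers (v : G))) (br (U' ⊔ Subgroup.zpowers (v : G)) ε) : ℂ)) * hn -
      ((sg p (C⟨P⟩.relIndex T) (nW M P T c (U' ⊔ Subgroup.zpowers (v : G))) : ℂ) *
        (NN M C⟨U' ⊔ Subgroup.zpowers (v : G)⟩
          (fw M P c (U' ⊔ Subgroup.zpowers (v : G))) (br (U' ⊔ Subgroup.zpowers (v : G)) ε) : ℂ)) * hd
  refine ⟨F, hF, fun r hr => ?_⟩
  rw [hFv r hr, MonoidHom.map_zpowers]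
  rfl

end Cfsg.Lib.Blocks.Frobenius
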