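import Mathlib
import Cfsg.Agent.Blocks.Star.Construction
import Cfsg.Agent.Blocks.Frobenius.LocalRanks

/-!
# The star construction with a local condition

The star construction gives a generalized character as soon as the weight times the local values
of the character is generalized on every subgroup of the defect group.
-/

set_option autoImplicit false
set_option linter.unusedSectionVars false
set_option linter.style.haveILetI false

namespace Cfsg.Lib.Blocks.Frobenius

open Cfsg.Lib.Chars Cfsg.Lib.Blocks Cfsg.Lib.Blocks.Star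
open scoped Classical ComplexConjugate

universe u

local notation "C⟨" P "⟩" => Subgroup.centralizer (SetLike.coe P)

variable {G : Type u} [Group G] [Fintype G] {M : Ideal AlgInt} {p : ℕ}

/-- The local condition on a weight. -/
def LocalGen (p : ℕ) (M : Ideal AlgInt) (P : Subgroup G) (c : Set (IrrCharacter C⟨P⟩))
    (ψ : G → ℂ) (χ : IrrCharacter G) : Prop :=
  ∀ R : Subgroup G, R ≤ P → ∀ ε : MonoidAlgebra (Res M) G, IsPrim R ε → br R ε ≠ 0 →
    ∀ eR : Set (IrrCharacter C⟨R⟩), IsPBlock M eR → br R ε * bi M C⟨R⟩ eR = br R ε →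
      SubpairLE p M R eR P c →
      IsGeneralizedCharacter R fun r : R => ψ (r : G) * th M χ (r : G) ε

variable [Fact p.Prime] {P : Subgroup G} {c : Set (IrrCharacter C⟨P⟩)} {ψ : G → ℂ}

/-- **Integrality of the weighted values.** -/
theorem wF_integral_local (hM : IsPModular p M) {B : Set (IrrCharacter G)}
    (hmax : IsMaximalBrauerPair p M B P c) (hψ : Stable p M P c ψ)
    {χ : IrrCharacter G} (hloc : LocalGen p M P c ψ χ) :
    ∀ R : Subgroup G, IsPGroup p R → ∀ θ : G → ℂ, IsGeneralizedCharacter R (fun r : R => θ r) →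
      ∀ ε : MonoidAlgebra (Res M) G, InvOn R ε → ε * ε = ε → ε * red M (blockElem B) = ε →
        ∃ z : ℤ, ∑ r : R, conj (θ r) * wF p M P c ψ χ (r : G) ε = (Nat.card R : ℂ) * z := by
  haveI := charP_res hM
  haveI := TwoMember.isAlgClosed_res M
  have hB := hmax.1.2.1
  set E := red M (blockElem B) with hE
  have hEc : InvOn (⊤ : Subgroup G) E := invOn_top_iff.2 (isCentralFn_blockElem B).red
  have hEE : E * E = E := by
    rw [hE, ← red_mul (integral_blockElem hM hB) (integral_blockElem hM hB), blockElem_mul_self]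
  intro R
  induction hn : Nat.card R using Nat.strong_induction_on generalizing R with
  | _ n ih =>
  intro hR θ hθ ε hεi hεε hεE
  subst hn
  refine induction_prim (motive := fun f => ∃ z : ℤ,
    ∑ r : R, conj (θ r) * wF p M P c ψ χ (r : G) f = (Nat.card R : ℂ) * z)
    ⟨0, by simp [fun r : R => wF_zero (P := P) (c := c) (ψ := ψ) hM χ (isPElem_of_mem hR r.2)]⟩
    ?_ ?_ hεi hεε
  swap
  · intro e f hei hfi he hf hef hfe _ _ ⟨z, hz⟩ ⟨w, hw⟩
    refine ⟨z + w, ?_⟩
    rw [Int.cast_add, mul_add, ← hz, ← hw, ← Finset.sum_add_distrib]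
    exact Finset.sum_congr rfl fun r _ => by
      rw [wF_add hM χ (isPElem_of_mem hR r.2) he hf hef hfe (hei.mono (Subgroup.zpowers_le.2 r.2))
        (hfi.mono (Subgroup.zpowers_le.2 r.2)), mul_add]
  intro e he heε _
  have heE : e * E = e := by rw [← heε, mul_assoc, hεE]
  by_cases hbr : br R e = 0
  · -- a trace from a maximal subgroup
    obtain ⟨K, hKR, hKN, hKi, a, hai, -, -, htr⟩ := he.exists_trR hR hbr
    have hnorm : ∀ s ∈ R, ∀ k : G, s * k * s⁻¹ ∈ K ↔ k ∈ K := fun s hs k =>
      (Subgroup.mem_normalizer_iff.1 (hKN hs) k).symm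
    have hout : ∀ r : R, (r : G) ∉ K → wF p M P c ψ χ (r : G) e = 0 := fun r hr => by
      refine Finset.sum_eq_zero fun β _ => ?_
      rw [tp_eq_zero hM χ (isPElem_of_mem hR r.2), mul_zero]
      rw [← htr, br_trR_eq_zero (isPElem_of_mem hR r.2).isPGroup (Subgroup.zpowers_le.2 r.2)
        (fun s hs => ⟨r, Subgroup.mem_zpowers _, fun h => hr ?_⟩) hai, zero_mul]
      rwa [← hnorm s⁻¹ (R.inv_mem hs), inv_inv]
    have hsum : ∑ r : R, conj (θ r) * wF p M P c ψ χ (r : G) e =
        ∑ r : K, conj (θ r) * wF p M P c ψ χ (r : G) e := by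
      rw [← Finset.sum_subtype (Finset.univ.filter (· ∈ R)) (fun x => by simp)
          (fun x : G => conj (θ x) * wF p M P c ψ χ x e),
        ← Finset.sum_subtype (Finset.univ.filter (· ∈ K)) (fun x => by simp)
          (fun x : G => conj (θ x) * wF p M P c ψ χ x e)]
      refine (Finset.sum_subset (fun x hx => ?_) fun x hx hx' => ?_).symm
      · simp only [Finset.mem_filter, Finset.mem_univ, true_and] at hx ⊢; exact hKR.le hx
      · simp only [Finset.mem_filter, Finset.mem_univ, true_and] at hx hx'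
        rw [hout ⟨x, hx⟩ hx', mul_zero]
    have hcardK : Nat.card K < Nat.card R := lt_of_le_of_ne (Subgroup.card_le_of_le hKR.le)
      fun h => hKR.ne (Subgroup.eq_of_le_of_card_ge hKR.le h.ge)
    have hKp : IsPGroup p K := hR.to_le hKR.le
    have hθK : IsGeneralizedCharacter K (fun r : K => θ r) :=
      IsGeneralizedCharacter.comp_hom hθ (Subgroup.inclusion hKR.le)
    have hfE : ∀ f : invAlg (Res M) K, f * f = f → InvOn K ((f : MonoidAlgebra (Res M) G) * E) ∧
        (f : MonoidAlgebra (Res M) G) * E * ((f : MonoidAlgebra (Res M) G) * E) = f * E ∧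
        (f : MonoidAlgebra (Res M) G) * E * E = f * E := fun f hf => by
      have h1 : (f : MonoidAlgebra (Res M) G) * f = f := congrArg Subtype.val hf
      refine ⟨f.2.mul (hEc.mono le_top), ?_, by rw [mul_assoc, hEE]⟩
      rw [mul_assoc, ← mul_assoc E, (invOn_top_iff.1 hEc).comm, mul_assoc, hEE, ← mul_assoc, h1]
    have hEcomm : ∀ a : MonoidAlgebra (Res M) G, E * a = a * E := fun a =>
      (invOn_top_iff.1 hEc).comm a
    have hex : ∀ f : invAlg (Res M) K, f * f = f → ∃ z : ℤ,
        ∑ r : K, conj (θ r) * wF p M P c ψ χ (r : G) ((f : MonoidAlgebra (Res M) G) * E) =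
          (Nat.card K : ℂ) * z := fun f hf =>
      ih _ hcardK K rfl hKp θ hθK _ (hfE f hf).1 (hfE f hf).2.1 (hfE f hf).2.2
    set Γ : invAlg (Res M) K → ℤ := fun f => if hf : f * f = f then (hex f hf).choose else 0 with hΓ
    have hΓspec : ∀ f : invAlg (Res M) K, f * f = f →
        ∑ r : K, conj (θ r) * wF p M P c ψ χ (r : G) ((f : MonoidAlgebra (Res M) G) * E) =
          (Nat.card K : ℂ) * Γ f := fun f hf => by
      simp only [hΓ, dif_pos hf]; exact (hex f hf).choose_spec
    have hcancel : ∀ a b : ℤ, (Nat.card K : ℂ) * a = (Nat.card K : ℂ) * b → a = b := fun a b h =>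
      Int.cast_injective (mul_left_cancel₀ (Nat.cast_ne_zero.2 Nat.card_pos.ne') h)
    have hzp : ∀ (r : K) {f : MonoidAlgebra (Res M) G}, InvOn K f →
        InvOn (Subgroup.zpowers (r : G)) f := fun r f hf => hf.mono (Subgroup.zpowers_le.2 r.2)
    have hadd : ∀ f f' : invAlg (Res M) K, f * f = f → f' * f' = f' → f * f' = 0 → f' * f = 0 →
        Γ (f + f') = Γ f + Γ f' := by
      intro f f' hf hf' h h'
      refine hcancel _ _ ?_
      have hff : (f + f') * (f + f') = f + f' := by rw [add_mul, mul_add, mul_add, hf, hf', h, h']; abel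
      rw [Int.cast_add, mul_add, ← hΓspec f hf, ← hΓspec f' hf', ← hΓspec _ hff,
        ← Finset.sum_add_distrib]
      refine Finset.sum_congr rfl fun r _ => ?_
      rw [Subalgebra.coe_add, add_mul, wF_add hM χ (isPElem_of_mem hKp r.2) (hfE f hf).2.1
        (hfE f' hf').2.1 ?_ ?_ (hzp r (hfE f hf).1) (hzp r (hfE f' hf').1), mul_add]
      · rw [mul_assoc, ← mul_assoc E, hEcomm, mul_assoc, hEE, ← mul_assoc,
          show (f : MonoidAlgebra (Res M) G) * f' = 0 from congrArg Subtype.val h, zero_mul]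
      · rw [mul_assoc, ← mul_assoc E, hEcomm, mul_assoc, hEE, ← mul_assoc,
          show (f' : MonoidAlgebra (Res M) G) * f = 0 from congrArg Subtype.val h', zero_mul]
    have hequiv : ∀ f f' : invAlg (Res M) K, f * f = f → f' * f' = f' → Equiv' f f' → Γ f = Γ f' := by
      rintro f f' hf hf' ⟨u, v, huv, hvu⟩
      refine hcancel _ _ ?_
      rw [← hΓspec f hf, ← hΓspec f' hf']
      refine Finset.sum_congr rfl fun r _ => congrArg _ (Finset.sum_congr rfl fun β hβ => congrArg _ ?_)
      refine tp_equiv hM χ (isPElem_of_mem hKp r.2) hβ (u := (u : MonoidAlgebra (Res M) G) * E)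
        (v := (v : MonoidAlgebra (Res M) G) * E) (hfE f hf).2.1 (hfE f' hf').2.1 (hzp r (hfE f hf).1)
        (hzp r (u.2.mul (hEc.mono le_top))) (hzp r (v.2.mul (hEc.mono le_top))) ?_ ?_
      · rw [mul_assoc, ← mul_assoc E, hEcomm, mul_assoc, hEE, ← mul_assoc,
          show (u : MonoidAlgebra (Res M) G) * v = f from congrArg Subtype.val huv]
      · rw [mul_assoc, ← mul_assoc E, hEcomm, mul_assoc, hEE, ← mul_assoc,
          show (v : MonoidAlgebra (Res M) G) * u = f' from congrArg Subtype.val hvu]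
    obtain ⟨s₀, hs₀R, hs₀K⟩ := SetLike.exists_of_lt hKR
    have hcjK : ∀ x ∈ R, ∀ a : MonoidAlgebra (Res M) G, InvOn K a → InvOn K (cj x a) :=
      fun x hx a ha => ha.cj fun k hk => by
        have := (hnorm x⁻¹ (R.inv_mem hx) k).2 hk
        rwa [inv_inv] at this
    let σ : invAlg (Res M) K ≃ₐ[Res M] invAlg (Res M) K :=
      { toFun := fun a => ⟨cj s₀ (a : MonoidAlgebra (Res M) G), hcjK _ hs₀R _ a.2⟩
        invFun := fun a => ⟨cj s₀⁻¹ (a : MonoidAlgebra (Res M) G), hcjK _ (R.inv_mem hs₀R) _ a.2⟩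
        left_inv := fun a => Subtype.ext (by simp [cj_cj, cj_one])
        right_inv := fun a => Subtype.ext (by simp [cj_cj, cj_one])
        map_mul' := fun a b => Subtype.ext (by simp [cj_mul])
        map_add' := fun a b => Subtype.ext (by simp [cj_add'])
        commutes' := fun t => Subtype.ext (by
          show cj s₀ (algebraMap (Res M) (MonoidAlgebra (Res M) G) t) = algebraMap (Res M) _ t
          rw [Algebra.algebraMap_eq_smul_one, cj_smul', invOn_iff.1 (invOn_one R) _ hs₀R]) }
    have hσl : ∀ (l : ℕ) (a : invAlg (Res M) K),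
        ((σ ^ l) a : MonoidAlgebra (Res M) G) = cj (s₀ ^ l) a := by
      intro l
      induction l with
      | zero => intro a; rw [pow_zero, pow_zero, cj_one]; rfl
      | succ l ihl =>
        intro a
        rw [pow_succ' σ, AlgEquiv.mul_apply, pow_succ' s₀, ← cj_cj, ← ihl]
        rfl
    haveI : (K.subgroupOf R).Normal := normal_subgroupOf_of_le_normalizer hKN
    have hKidx : (K.subgroupOf R).index = p := hKi
    have hs₀p : s₀ ^ p ∈ K := by
      have := (K.subgroupOf R).pow_index_mem ⟨s₀, hs₀R⟩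
      rw [hKidx] at this
      exact this
    have hσp : σ ^ p = 1 := AlgEquiv.ext fun a => Subtype.ext (by
      rw [hσl, invOn_iff.1 a.2 _ hs₀p]; rfl)
    have hΓσ : ∀ f : invAlg (Res M) K, f * f = f → Γ (σ f) = Γ f := by
      intro f hf
      refine hcancel _ _ ?_
      rw [← hΓspec f hf, ← hΓspec (σ f) (by rw [← map_mul, hf])]
      let cK : K ≃ K :=
        { toFun := fun r => ⟨s₀ * r * s₀⁻¹, (hnorm s₀ hs₀R r).2 r.2⟩
          invFun := fun r => ⟨s₀⁻¹ * r * s₀, by
            have := (hnorm s₀⁻¹ (R.inv_mem hs₀R) r).2 r.2; rwa [inv_inv] at this⟩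
          left_inv := fun r => Subtype.ext (by group)
          right_inv := fun r => Subtype.ext (by group) }
      refine (Fintype.sum_equiv cK _ _ fun r => ?_).symm
      show _ = conj (θ (s₀ * r * s₀⁻¹)) *
        wF p M P c ψ χ (s₀ * r * s₀⁻¹) (cj s₀ (f : MonoidAlgebra (Res M) G) * E)
      rw [show cj s₀ (f : MonoidAlgebra (Res M) G) * E =
          cj s₀ ((f : MonoidAlgebra (Res M) G) * E) by
            rw [cj_mul, invOn_iff.1 hEc s₀ (Subgroup.mem_top _)],
        wF_cj hM hψ χ (isPElem_of_mem hKp r.2) (hfE f hf).2.1 (hzp r (hfE f hf).1)]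
      congr 2
      exact (isClassFunction_generalized hθ ⟨r, hKR.le r.2⟩ ⟨s₀, hs₀R⟩).symm
    set q₀ : R ⧸ K.subgroupOf R := ((⟨s₀, hs₀R⟩ : R) : R ⧸ K.subgroupOf R) with hq₀
    have hord : orderOf q₀ = p := orderOf_eq_prime
      (by rw [hq₀, ← QuotientGroup.mk_pow, QuotientGroup.eq_one_iff]; exact hs₀p)
      (by rw [hq₀, Ne, QuotientGroup.eq_one_iff]; exact hs₀K)
    have htr' : (⟨e, he.inv.mono hKR.le⟩ : invAlg (Res M) K) =
        ∑ l ∈ Finset.range p, (σ ^ l) ⟨a, hai⟩ := by
      refine Subtype.ext ?_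
      rw [AddSubmonoidClass.coe_finset_sum]
      simp only [hσl]
      rw [← Fin.sum_univ_eq_sum_range (fun l => cj (s₀ ^ l) a) p, ← htr, trR]
      symm
      have hbij : Function.Bijective (fun l : Fin p => q₀ ^ (l : ℕ)) := by
        rw [Fintype.bijective_iff_injective_and_card]
        refine ⟨fun l l' h => Fin.ext ?_, ?_⟩
        · exact pow_injOn_Iio_orderOf (by rw [Set.mem_Iio, hord]; exact l.2)
            (by rw [Set.mem_Iio, hord]; exact l'.2) h
        · rw [Fintype.card_fin, ← Nat.card_eq_fintype_card]; exact hKidx.symm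
      refine Fintype.sum_bijective _ hbij _ _ fun l => ?_
      rw [hq₀, ← QuotientGroup.mk_pow, cj_mk_out hai]
      rfl
    obtain ⟨z, hz⟩ := dvd_of_sum_auto σ hσp Γ hadd hequiv hΓσ
      (show (⟨e, he.inv.mono hKR.le⟩ : invAlg (Res M) K) * ⟨e, _⟩ = ⟨e, _⟩ from Subtype.ext he.idem)
      htr'
    refine ⟨z, ?_⟩
    have := hΓspec ⟨e, he.inv.mono hKR.le⟩ (Subtype.ext he.idem)
    rw [hz, heE] at this
    rw [hsum, this, ← (K.subgroupOf R).card_mul_index, hKidx,
      Nat.card_congr (Subgroup.subgroupOfEquivOfLe hKR.le).toEquiv]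
    push_cast
    ring
  · obtain ⟨eR, heR, hee⟩ := he.exists_block hM hR hbr
    obtain ⟨x, hx⟩ := exists_conj_subpairLE hM hmax
      (isBrauerPairOf_of_prim hM hR he hbr heR hee hB heE)
    set R' := R.map (MulAut.conj x).toMonoidHom with hR'
    have hR'P : R' ≤ P := subpairLE_le hx
    have hxR : ∀ r : R, x * (r : G) * x⁻¹ ∈ R' := fun r => ⟨r, r.2, by simp⟩
    let φ : R →* R' :=
      { toFun := fun r => ⟨x * r * x⁻¹, hxR r⟩
        map_one' := Subtype.ext (by simp)
        map_mul' := fun a b => Subtype.ext (by simp [mul_assoc]) }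
    have hloc' := hloc R' hR'P (cj x e) (isPrim_cj rfl he)
      (fun h0 => hbr (by
        rw [← cj_br] at h0
        have h1 := congrArg (cj x⁻¹) h0
        rwa [cj_cj, inv_mul_cancel, cj_one, cj_zero] at h1))
      (conjBlock R x eR) (isPBlock_conjBlock R x heR)
      (by rw [bi_conjBlock, ← cj_br, ← cj_mul, hee]) hx
    have ha : IsGeneralizedCharacter R (fun r : R => ψ (x * r * x⁻¹) * th M χ (r : G) e) := by
      have h1 := IsGeneralizedCharacter.comp_hom hloc' φ
      convert! h1 using 1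
      funext r
      show _ = ψ (x * r * x⁻¹) * th M χ (x * r * x⁻¹) (cj x e)
      rw [th_cj χ x he.idem ((invOn_iff_commute R e).1 he.inv r r.2)]
    obtain ⟨m, hm⟩ := Coherence.inner_int ha hθ
    refine ⟨m, ?_⟩
    rw [classInner] at hm
    rw [← hm, ← mul_assoc, mul_inv_cancel₀ (Nat.cast_ne_zero.2 Nat.card_pos.ne'), one_mul]
    exact Finset.sum_congr rfl fun r _ => by
      rw [wF_prim hM hψ χ hR he hbr heR hee hx r.2, mul_comm]

/-- The sum over `R × S` is divisible by its order. -/
theorem inner_aux_local (hM : IsPModular p M) {B : Set (IrrCharacter G)}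
    (hmax : IsMaximalBrauerPair p M B P c) (hψ : Stable p M P c ψ)
    {χ : IrrCharacter G} (hχ : χ ∈ B) (hloc : LocalGen p M P c ψ χ)
    {R S : Subgroup G} (hR : IsPGroup p R) (hS : ¬ p ∣ Nat.card S)
    (hcomm : ∀ r ∈ R, ∀ s ∈ S, r * s = s * r) {θ : G → ℂ}
    (hθ : IsGeneralizedCharacter R (fun r : R => θ r)) (μ : S →* ℂˣ) :
    ∃ z : ℤ, ∑ r : R, ∑ s : S, conj (θ r) * (((μ s : ℂˣ) : ℂ)⁻¹ * starFn p M P c ψ χ ((r : G) * s)) =
      (Nat.card R : ℂ) * Nat.card S * z := by
  haveI := charP_res hM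
  have hB := hmax.1.2.1
  set E := blockElem B with hE
  have hEc : IsCentralFn E := isCentralFn_blockElem B
  have hEi : Integral M E := integral_blockElem hM hB
  have hEE : E * E = E := blockElem_mul_self B
  set η := linIdem S μ with hη
  have hηi := integral_linIdem hM hS μ
  have hηη := linIdem_mul_self S μ
  have hηR := invOn_linIdem hcomm μ
  set ε := red M η * red M E with hε
  have hEredc := (hEc.red (M := M))
  have hεi : InvOn R ε :=
    InvOn.mul (fun r hr g => by rw [fn_red, fn_red, hηR r hr g]) ((invOn_top_iff.2 hEredc).mono le_top)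
  have hεε : ε * ε = ε := by
    rw [hε, ← red_mul hηi hEi, ← red_mul (hηi.mul hEi) (hηi.mul hEi), mul_assoc,
      ← mul_assoc E, hEc.comm η, mul_assoc, hEE, ← mul_assoc, hηη]
  have hεE : ε * red M E = ε := by rw [hε, mul_assoc, ← red_mul hEi hEi, hEE]
  obtain ⟨z, hz⟩ := wF_integral_local hM hmax hψ hloc R hR θ hθ ε hεi hεε hεE
  refine ⟨z, ?_⟩
  rw [mul_right_comm, ← hz, Finset.sum_mul]
  refine Finset.sum_congr rfl fun r _ => ?_
  rw [← Finset.mul_sum, mul_assoc]
  congr 1
  have hrp := isPElem_of_mem hR r.2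
  have hpart : ∀ s : S, IsPPart p ((r : G) * s) r := fun s => isPPart_mul (hcomm r r.2 s s.2) hrp
    fun h => hS (dvd_trans h ((Subgroup.orderOf_coe s).symm ▸ orderOf_dvd_natCard s))
  simp only [fun s : S => starFn_eq (χ := χ) (M := M) (c := c) (ψ := ψ) (hpart s), Finset.mul_sum]
  rw [Finset.sum_comm, wF, ← image_red_lifts, Finset.sum_image (red_injOn_lifts hM _), Finset.sum_mul]
  refine Finset.sum_congr rfl fun F hF => ?_
  obtain ⟨b, hb, rfl⟩ := (mem_lifts hM).1 hF
  set F := bx C⟨Subgroup.zpowers (r : G)⟩ b with hFdef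
  have hFi : Integral M F := integral_bx hM hb
  have hFF : F * F = F := bx_mul_self b
  have hFC := invOn_bx C⟨Subgroup.zpowers (r : G)⟩ b
  have hFs := suppOn_bx C⟨Subgroup.zpowers (r : G)⟩ b
  have hSC : S ≤ C⟨Subgroup.zpowers (r : G)⟩ := fun s hs => by
    rw [centralizer_zpowers, Subgroup.mem_centralizer_singleton_iff]
    exact (hcomm r r.2 s hs).symm
  have hηs : SuppOn C⟨Subgroup.zpowers (r : G)⟩ η := (suppOn_linIdem S μ).mono hSC
  have hcFη : F * η = η * F := hFC.comm hηs
  have hrC : (r : G) ∈ C⟨Subgroup.zpowers (r : G)⟩ := by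
    rw [centralizer_zpowers, Subgroup.mem_centralizer_singleton_iff]
  have hcrF : InvOn (Subgroup.zpowers (r : G)) F := hFC.mono (Subgroup.zpowers_le.2 hrC)
  have hcrη : InvOn (Subgroup.zpowers (r : G)) η := hηR.mono (Subgroup.zpowers_le.2 r.2)
  have hcrE : InvOn (Subgroup.zpowers (r : G)) E := (invOn_top_iff.2 hEc).mono le_top
  set L := η * F * E with hL
  have hLi : Integral M L := (hηi.mul hFi).mul hEi
  have hLL : L * L = L := by
    calc L * L = η * F * (E * (η * F)) * E := by rw [hL]; simp only [mul_assoc]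
      _ = η * (F * η) * F * (E * E) := by rw [hEc.comm (η * F)]; simp only [mul_assoc]
      _ = η * η * (F * F) * E := by rw [hcFη, hEE]; simp only [mul_assoc]
      _ = L := by rw [hηη, hFF]
  have hcL : Commute (sE (r : G)) L := invOn_zpowers_iff.1 ((hcrη.mul hcrF).mul hcrE)
  have hredL : red M L = red M η * red M F * red M E := by
    rw [hL, red_mul (hηi.mul hFi) hEi, red_mul hηi hFi]
  have htp : tp M χ (r : G) (red M F) ε = th M χ (r : G) (red M L) := by
    refine tp_eq hM χ hrp ⟨by rw [← red_mul hLi hLi, hLL], ?_, ?_,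
      fun k hk g => by rw [fn_red, fn_red, ((hcrη.mul hcrF).mul hcrE) k hk g], ?_⟩
    · rw [hredL, hε, mul_assoc, ← mul_assoc (red M E), hEredc.comm (red M η * red M F), mul_assoc,
        ← red_mul hEi hEi, hEE, ← mul_assoc, ← mul_assoc, ← red_mul hηi hηi, hηη]
    · rw [hredL, hε, mul_assoc _ (red M E), ← mul_assoc (red M E), hEredc.comm (red M η),
        mul_assoc (red M η) (red M E), ← red_mul hEi hEi, hEE, ← mul_assoc, mul_assoc (red M η) (red M F), ← red_mul hFi hηi, hcFη, red_mul hηi hFi, ← mul_assoc,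
        ← red_mul hηi hηi, hηη]
    · have hP := hrp.isPGroup
      have i1 : InvOn (Subgroup.zpowers (r : G)) (red M η) := fun k hk g => by
        rw [fn_red, fn_red, hcrη k hk g]
      have i2 : InvOn (Subgroup.zpowers (r : G)) (red M F) := fun k hk g => by
        rw [fn_red, fn_red, hcrF k hk g]
      have i3 : InvOn (Subgroup.zpowers (r : G)) (red M E) := (invOn_top_iff.2 hEredc).mono le_top
      have hFC' : InvOn C⟨Subgroup.zpowers (r : G)⟩ (red M F) := fun k hk g => by
        rw [fn_red, fn_red, hFC k hk g]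
      rw [hredL, hε, br_mul hP (i1.mul i2) i3, br_mul hP i1 i2, br_mul hP i1 i3,
        show br (Subgroup.zpowers (r : G)) (red M F) = red M F from
          trunc_eq_self fun g hg => by rw [fn_red, hFs g hg, res_zero],
        mul_assoc, mul_assoc, hFC'.comm (suppOn_br _ _)]
  rw [htp, th_eq χ hLi hLL hcL]
  have hval : chiEval (χ : G → ℂ) (sE (r : G) * L) = chiEval (χ : G → ℂ) (sE (r : G) * (η * F)) := by
    rw [hL, ← mul_assoc (sE (r : G)), ← hEc.comm (sE (r : G) * (η * F)), chiEval_central_mul χ hEc,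
      hE, omega_blockElem, if_pos hχ, one_mul]
  rw [hval]
  have hsum : η = ∑ s : S, fn η (s : G) • sE (s : G) := by
    conv_lhs => rw [eq_sum_single η]
    rw [← Finset.sum_filter_add_sum_filter_not Finset.univ (· ∈ S),
      Finset.sum_eq_zero (s := Finset.univ.filter fun t => ¬ t ∈ S) (fun t ht => by
        rw [suppOn_linIdem S μ t (Finset.mem_filter.1 ht).2, MonoidAlgebra.single_zero]), add_zero,
      Finset.sum_subtype (p := (· ∈ S)) (Finset.univ.filter (· ∈ S)) (fun t => by simp)]
    exact Finset.sum_congr rfl fun s _ => by rw [MonoidAlgebra.smul_single', mul_one]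
  conv_rhs => rw [hsum, Finset.sum_mul, Finset.mul_sum, chiEval_sum, Finset.mul_sum, Finset.sum_mul]
  refine Finset.sum_congr rfl fun s _ => ?_
  rw [smul_mul_assoc, mul_smul_comm, chiEval_smul, ← mul_assoc (sE (r : G)),
    MonoidAlgebra.single_mul_single, one_mul, hη, fn_linIdem]
  have hn : (Nat.card S : ℂ) ≠ 0 := Nat.cast_ne_zero.2 Nat.card_pos.ne'
  field_simp

/-- **The star construction gives a generalized character.** -/
theorem isGeneralized_starFn_local (hM : IsPModular p M) {B : Set (IrrCharacter G)}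
    (hmax : IsMaximalBrauerPair p M B P c) (hψ : Stable p M P c ψ)
    {χ : IrrCharacter G} (hχ : χ ∈ B) (hloc : LocalGen p M P c ψ χ) :
    IsGeneralizedCharacter G (starFn p M P c ψ χ) := by
  set f := starFn p M P c ψ χ with hf
  have hfc := isClassFunction_starFn hM hψ χ
  refine isGeneralized_of_elementary hfc fun E hE => ?_
  obtain ⟨q, hq, hel⟩ := hE
  haveI := isNilpotent_of_isElementary hq hel
  have hfE : IsClassFunction E (fun e : E => f e) := fun a b => hfc a b
  refine isGeneralized_of_coeff hfE fun α => ?_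
  obtain ⟨H, lam, hα⟩ := isMonomial_of_isNilpotent _ E rfl _ α.2
  rw [hα, frobenius_reciprocity' H _ hfE]
  obtain ⟨R, S, hR, hS, hRS, hcomm⟩ := exists_split (p := p) H
  have hinj : Function.Injective (E.subtype.comp H.subtype) :=
    E.subtype_injective.comp H.subtype_injective
  set eR := R.equivMapOfInjective _ hinj
  set eS := S.equivMapOfInjective _ hinj
  set lamR : R.map (E.subtype.comp H.subtype) →* ℂˣ :=
    lam.comp (R.subtype.comp eR.symm.toMonoidHom)
  set μ : S.map (E.subtype.comp H.subtype) →* ℂˣ := lam.comp (S.subtype.comp eS.symm.toMonoidHom)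
  obtain ⟨z, hz⟩ := inner_aux_local hM hmax hψ hχ hloc (R := R.map (E.subtype.comp H.subtype))
    (S := S.map (E.subtype.comp H.subtype)) (hR.map _)
    (by rwa [Nat.card_congr eS.symm.toEquiv])
    (fun r hr s hs => by
      obtain ⟨r, hr, rfl⟩ := hr
      obtain ⟨s, hs, rfl⟩ := hs
      rw [← map_mul, ← map_mul, hcomm r hr s hs])
    (θ := extendByZero _ fun r => ((lamR r : ℂˣ) : ℂ))
    (by
      convert IsCharacter.isGeneralized (isCharacter_linear lamR) using 1
      exact funext fun r => extendByZero_mem _ r.2)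
    μ
  refine ⟨z, ?_⟩
  have hbij : Function.Bijective fun x : R × S => (x.1 : H) * x.2 := hRS
  rw [classInner, ← Fintype.sum_bijective _ hbij _ _ fun _ => rfl, Fintype.sum_prod_type,
    ← hRS.card_mul_card, ← Nat.card_congr eR.symm.toEquiv, ← Nat.card_congr eS.symm.toEquiv, Nat.cast_mul]
  have key : ∑ r : R, ∑ s : S, f (((r : H) * (s : H) : H) : E) *
      conj ((lam ((r : H) * (s : H)) : ℂˣ) : ℂ) =
      (Nat.card (R.map (E.subtype.comp H.subtype)) : ℂ) *
        Nat.card (S.map (E.subtype.comp H.subtype)) * z := by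
    rw [← hz]
    refine Fintype.sum_equiv eR.toEquiv _ _ fun r => Fintype.sum_equiv eS.toEquiv _ _ fun s => ?_
    simp only [MulEquiv.toEquiv_eq_coe, MulEquiv.coe_toEquiv]
    rw [show extendByZero _ (fun r => ((lamR r : ℂˣ) : ℂ)) ((eR r : _) : G) = ((lamR (eR r) : ℂˣ) : ℂ)
      from extendByZero_mem _ (eR r).2]
    have h1 : lamR (eR r) = lam r := congrArg lam (congrArg Subtype.val (eR.symm_apply_apply r))
    have h2 : μ (eS s) = lam s := congrArg lam (congrArg Subtype.val (eS.symm_apply_apply s))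
    show _ = conj ((lamR (eR r) : ℂˣ) : ℂ) * (((μ (eS s) : ℂˣ) : ℂ)⁻¹ * f _)
    rw [h1, h2, map_mul, Units.val_mul, map_mul, inv_hom_eq_conj lam s]
    rw [show ((eR r : _) : G) * ((eS s : _) : G) = ((((r : H) * (s : H) : H) : E) : G) from rfl]
    ring
  show (_ : ℂ)⁻¹ * ∑ r : R, ∑ s : S, f (((r : H) * (s : H) : H) : E) *
      conj ((lam ((r : H) * (s : H)) : ℂˣ) : ℂ) = _
  rw [key, inv_mul_cancel_left₀]
  exact mul_ne_zero (Nat.cast_ne_zero.2 Nat.card_pos.ne') (Nat.cast_ne_zero.2 Nat.card_pos.ne')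

end Cfsg.Lib.Blocks.Frobenius
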