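import Mathlib
import Cfsg.Agent.Blocks.Frobenius.WeightedStar

/-!
# Integral rows for a free inertial action

The signed weights turn the invariant functions vanishing at the identity into virtual characters
of the block; the orbit sums give integral columns with Gram matrix `δ + e`.
-/

set_option autoImplicit false
set_option linter.unusedSectionVars false
set_option linter.style.haveILetI false

namespace Cfsg.Lib.Blocks.Frobenius

open Cfsg.Lib.Chars Cfsg.Lib.Blocks Cfsg.Lib.Blocks.Star Cfsg.Lib.Blocks.AbelianStar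
open scoped ComplexConjugate Classical

universe u

local notation "C⟨" P "⟩" => Subgroup.centralizer (SetLike.coe P)

variable {G : Type u} [Group G] [Fintype G] {M : Ideal AlgInt} {p : ℕ} [Fact p.Prime]
  {B : Set (IrrCharacter G)} {P T : Subgroup G} {c : Set (IrrCharacter C⟨P⟩)}

/-- The weight attached to a function. -/
noncomputable def wgt (p : ℕ) (M : Ideal AlgInt) (P T : Subgroup G)
    (c : Set (IrrCharacter C⟨P⟩)) (χ : IrrCharacter G) (g : G → ℂ) (y : G) : ℂ :=
  if y = 1 then 0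
  else g y * sgnW p M P T c (Subgroup.zpowers y) / ga M y (fw M P c (Subgroup.zpowers y)) χ

variable (s : FreePair p M B P T c)
include s

lemma FreePair.zpowers_ne {y : G} (hy : y ≠ 1) : Subgroup.zpowers y ≠ ⊥ := fun h =>
  hy (Subgroup.zpowers_eq_bot.1 h)

lemma FreePair.rank_at {y : G} (hy : y ∈ P) (hy1 : y ≠ 1) :
    IsPBlock M (fw M P c (Subgroup.zpowers y)) ∧
      blockRank p (fw M P c (Subgroup.zpowers y)) = 1 :=
  ⟨(s.toAbPair.fw_spec (Subgroup.zpowers_le.2 hy)).1, s.toAbPair.rank (Subgroup.zpowers_le.2 hy)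
    (s.htriv (Subgroup.zpowers_le.2 hy) (s.zpowers_ne hy1))⟩

lemma FreePair.FF_eq_ga {y : G} (hy : y ∈ P) (hy1 : y ≠ 1) (η χ : IrrCharacter G) :
    FF p (fw M P c) y η χ = ga M y (fw M P c (Subgroup.zpowers y)) η *
      conj (ga M y (fw M P c (Subgroup.zpowers y)) χ) :=
  contribution_eq_ga s.modular (s.rank_at hy hy1).1 (s.rank_at hy hy1).2 η χ

lemma FreePair.ga_ne {y : G} (hy : y ∈ P) (hy1 : y ≠ 1) {χ : IrrCharacter G} (hχ : χ ∈ B) :
    ga M y (fw M P c (Subgroup.zpowers y)) χ ≠ 0 := fun h =>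
  s.toAbPair.setting.FF_ne_zero hy hχ (by rw [s.FF_eq_ga hy hy1, h, zero_mul])

lemma FreePair.th_prim {y : G} (hy : y ∈ P) (hy1 : y ≠ 1) (χ : IrrCharacter G) {R : Subgroup G}
    (hR : R ≤ P) (hyR : y ∈ R) {ε : MonoidAlgebra (Res M) G} (hε : IsPrim R ε)
    (hbr : br (Subgroup.zpowers y) ε * bi M C⟨Subgroup.zpowers y⟩ (fw M P c (Subgroup.zpowers y)) =
      br (Subgroup.zpowers y) ε) :
    th M χ y ε = (NN M C⟨Subgroup.zpowers y⟩ (fw M P c (Subgroup.zpowers y))
      (br (Subgroup.zpowers y) ε) : ℂ) * ga M y (fw M P c (Subgroup.zpowers y)) χ := by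
  rw [th_br_eq s.modular χ (Star.isPElem_of_mem s.pair.1.1 hy) hε.idem
    (hε.inv.mono (Subgroup.zpowers_le.2 hyR))]
  exact th_eq_ga s.modular (s.rank_at hy hy1).1 (s.rank_at hy hy1).2 χ
    (s.br_idem' hR hε (Subgroup.zpowers_le.2 hyR)) (suppOn_br _ _) hbr

lemma FreePair.th_total {y : G} (hy : y ∈ P) (hy1 : y ≠ 1) (χ : IrrCharacter G) :
    ∑ q : T ⧸ C⟨P⟩.subgroupOf T, th M χ y (conjIdem M P T c q) =
      (nW M P T c (Subgroup.zpowers y) : ℂ) * ga M y (fw M P c (Subgroup.zpowers y)) χ := by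
  rw [nW, Nat.cast_sum, Finset.sum_mul]
  exact Finset.sum_congr rfl fun q _ =>
    s.th_prim hy hy1 χ le_rfl hy (s.conjIdem_spec q).1 (s.br_conjIdem q (Subgroup.zpowers_le.2 hy))

lemma FreePair.ga_conj {y : G} (hy : y ∈ P) (hy1 : y ≠ 1) {t : G} (ht : t ∈ T) (χ : IrrCharacter G) :
    ga M (t * y * t⁻¹) (fw M P c (Subgroup.zpowers (t * y * t⁻¹))) χ =
      ga M y (fw M P c (Subgroup.zpowers y)) χ ∧
    sgnW p M P T c (Subgroup.zpowers (t * y * t⁻¹)) = sgnW p M P T c (Subgroup.zpowers y) := by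
  obtain ⟨htN, -⟩ := (s.stab t).1 ht
  have hy' : t * y * t⁻¹ ∈ P := (Subgroup.mem_normalizer_iff.1 htN y).1 hy
  have hy'1 : t * y * t⁻¹ ≠ 1 := fun h => hy1 (conj_eq_one_iff.1 h)
  have hmap := map_conj_zpowers t y
  have hn : nW M P T c (Subgroup.zpowers (t * y * t⁻¹)) = nW M P T c (Subgroup.zpowers y) := by
    rw [← hmap]; exact s.nW_conj (Subgroup.zpowers_le.2 hy) (s.zpowers_ne hy1) ht
  refine ⟨mul_left_cancel₀ (s.nW_ne_zero (Subgroup.zpowers_le.2 hy) (s.zpowers_ne hy1)) ?_,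
    by rw [sgnW, sgnW, hn]⟩
  rw [← s.th_total hy hy1 χ]
  conv_lhs => rw [← hn, ← s.th_total hy' hy'1 χ]
  obtain ⟨e, he⟩ := s.exists_reindex ht
  refine (Fintype.sum_equiv e _ _ fun q => ?_).symm
  obtain ⟨z, hz, hzq⟩ := he q
  obtain ⟨h1, -, -⟩ := s.conjIdem_spec q
  obtain ⟨k1, -, -⟩ := s.conjIdem_spec (e q)
  rw [← th_cj χ t h1.idem ((invOn_iff_commute P _).1 h1.inv y hy), hzq]
  have hzy : z * (t * y * t⁻¹) * z⁻¹ = t * y * t⁻¹ := by
    rw [← Subgroup.mem_centralizer_iff.1 hz _ hy', mul_inv_cancel_right]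
  conv_lhs => rw [← hzy]
  exact th_cj χ z k1.idem ((invOn_iff_commute P _).1 k1.inv _ hy')

lemma FreePair.stable_of_inv {f : G → ℂ} (hf : ∀ t ∈ T, ∀ y ∈ P, f (t * y * t⁻¹) = f y) :
    Stable p M P c f := by
  have ss := s.toAbPair.setting
  intro y g β h1 h2
  have hy : y ∈ P := by simpa using h1.mem
  have hy' : g * y * g⁻¹ ∈ P := h2.mem
  obtain ⟨Q, e, hQ, hle, he⟩ := h1
  obtain ⟨Q', e', hQ', hle', he'⟩ := h2
  rw [one_mul, inv_one, mul_one] at hQ
  subst hQ
  subst hQ'
  rw [cj_one] at he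
  obtain rfl := (existsUnique_subpairLE s.modular s.pair.1 (Subgroup.zpowers_le.2 hy)).unique hle
    (ss.subpair hy)
  obtain rfl := (existsUnique_subpairLE s.modular s.pair.1 (Subgroup.zpowers_le.2 hy')).unique hle'
    (ss.subpair hy')
  obtain ⟨t, ht, hty⟩ := IsBelow.fusion s.modular s.defect s.pair s.comm s.stab hy hy'
    (ss.below y hy) (ss.below _ hy') rfl (by rw [he, he'])
  rw [← hty, hf t ht y hy]

lemma FreePair.stable_wgt (χ : IrrCharacter G) {g : G → ℂ}
    (hg : ∀ t ∈ T, ∀ y ∈ P, g (t * y * t⁻¹) = g y) : Stable p M P c (wgt p M P T c χ g) := by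
  refine s.stable_of_inv fun t ht y hy => ?_
  by_cases hy1 : y = 1
  · simp [wgt, hy1]
  · obtain ⟨h1, h2⟩ := s.ga_conj hy hy1 ht χ
    rw [wgt, wgt, if_neg (fun h => hy1 (conj_eq_one_iff.1 h)), if_neg hy1, h1, h2, hg t ht y hy]

theorem FreePair.localGen {χ : IrrCharacter G} (hχ : χ ∈ B) {g : G → ℂ}
    (hgen : IsGeneralizedCharacter P fun y : P => g y) (hg1 : g 1 = 0) :
    LocalGen p M P c (wgt p M P T c χ g) χ := by
  intro R hR ε hε hne eR he hεe hle
  obtain ⟨F, hF, hFr⟩ := s.exists_signed_multiplicity hR hε hne he hεe hle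
  have h := IsGeneralizedCharacter.mul
    (IsGeneralizedCharacter.comp_hom hgen (Subgroup.inclusion hR)) hF
  convert! h using 1
  funext r
  show _ = g (r : G) * F r
  by_cases hr : r = 1
  · subst hr
    simp [wgt, hg1]
  have hr1 : (r : G) ≠ 1 := fun h => hr (Subtype.ext h)
  rw [wgt, if_neg hr1, hFr r hr, s.th_prim (hR r.2) hr1 χ hR r.2 hε
    (s.toAbPair.br_mul_fw hR hε hne he hεe hle (Subgroup.zpowers_le.2 r.2))]
  have hne' := s.ga_ne (hR r.2) hr1 hχ
  field_simp

lemma FreePair.wt_eq {y : G} (hy : y ∈ P) (hy1 : y ≠ 1) :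
    wt T y = (C⟨P⟩.relIndex T : ℂ)⁻¹ := by
  obtain ⟨-, hCT⟩ := s.stab.self_le s.modular s.pair.1.2
  have heq : T ⊓ C⟨Subgroup.zpowers y⟩ = C⟨P⟩ := by
    refine le_antisymm (fun t ht => ?_) (le_inf hCT (centralizer_le_zpowers hy))
    obtain ⟨ht1, ht2⟩ := Subgroup.mem_inf.1 ht
    refine s.free t ht1 y hy hy1 ?_
    rw [centralizer_zpowers, Subgroup.mem_centralizer_singleton_iff] at ht2
    rw [ht2, mul_inv_cancel_right]
  have hcard : Nat.card T = C⟨P⟩.relIndex T * Nat.card C⟨P⟩ := by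
    rw [Subgroup.relIndex, ← Nat.card_congr (Subgroup.subgroupOfEquivOfLe hCT).toEquiv,
      Subgroup.index_mul_card]
  rw [wt, heq, hcard, Nat.cast_mul]
  have : (Nat.card C⟨P⟩ : ℂ) ≠ 0 := Nat.cast_ne_zero.2 Nat.card_pos.ne'
  field_simp

lemma FreePair.kk_eq {y : G} (hy : y ∈ P) (hy1 : y ≠ 1) (η χ : IrrCharacter G) :
    kk p (fam (fw M P c)) y η χ = ga M y (fw M P c (Subgroup.zpowers y)) η *
      conj (ga M y (fw M P c (Subgroup.zpowers y)) χ) / (Nat.card P : ℂ) := by
  rw [← s.FF_eq_ga hy hy1, s.toAbPair.setting.FF_eq_kk hy, s.toAbPair.card_pow, Nat.cast_pow,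
    mul_div_cancel_left₀ _ (pow_ne_zero _ (Nat.cast_ne_zero.2 (Fact.out : p.Prime).ne_zero))]

lemma FreePair.inner_star {f f' : G → ℂ} (hf : Stable p M P c f) (hf' : Stable p M P c f')
    {η χ : IrrCharacter G} (hη : η ∈ B) :
    classInner (starFn p M P c f η) (starFn p M P c f' χ) =
      mat p P T (fam (fw M P c)) (fun g => f g * conj (f' g)) η χ := by
  have ss := s.toAbPair.setting
  rw [classInner_starFn_sections s.modular ss.maximal (fam (fw M P c)) (fun y hy => ss.subpair hy)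
    (fun y => wt T (y : G) * (Nat.card C⟨Subgroup.zpowers (y : G)⟩ : ℂ)⁻¹)
    ss.weights_sum hf hf' hη]
  exact Finset.sum_congr rfl fun y _ => by rw [kk]; ring

/-- The inner products of the weighted stars. -/
theorem FreePair.gram {χ : IrrCharacter G} (hχ : χ ∈ B) {g g' : G → ℂ}
    (hg : ∀ t ∈ T, ∀ y ∈ P, g (t * y * t⁻¹) = g y)
    (hg' : ∀ t ∈ T, ∀ y ∈ P, g' (t * y * t⁻¹) = g' y) (hg1 : g 1 = 0) :
    classInner (starFn p M P c (wgt p M P T c χ g) χ) (starFn p M P c (wgt p M P T c χ g') χ) =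
      (∑ y : P, g y * conj (g' y)) / ((C⟨P⟩.relIndex T : ℂ) * Nat.card P) := by
  rw [s.inner_star (s.stable_wgt χ hg) (s.stable_wgt χ hg') hχ, Finset.sum_div]
  refine Finset.sum_congr rfl fun y _ => ?_
  by_cases hy1 : (y : G) = 1
  · simp [wgt, hy1, hg1]
  · obtain ⟨-, h2⟩ := s.sgnW_sq (Subgroup.zpowers_le.2 y.2) (s.zpowers_ne hy1)
    simp only [wgt, if_neg hy1]
    rw [s.wt_eq y.2 hy1, s.kk_eq y.2 hy1, map_div₀, map_mul, h2]
    have hne := s.ga_ne y.2 hy1 hχ
    have hne' : conj (ga M (y : G) (fw M P c (Subgroup.zpowers (y : G))) χ) ≠ 0 :=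
      (map_ne_zero _).2 hne
    field_simp
    linear_combination (g (y : G) * conj (g' (y : G)) * (C⟨P⟩.relIndex T : ℂ)⁻¹) *
      (s.sgnW_sq (Subgroup.zpowers_le.2 y.2) (s.zpowers_ne hy1)).1

/-- The coefficient of a weighted star at a member of the block. -/
theorem FreePair.coeff {χ η : IrrCharacter G} (hχ : χ ∈ B) (hη : η ∈ B) {g : G → ℂ}
    (hg : ∀ t ∈ T, ∀ y ∈ P, g (t * y * t⁻¹) = g y) (hg1 : g 1 = 0) :
    classInner (starFn p M P c (wgt p M P T c χ g) χ) (η : G → ℂ) =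
      (∑ y : P, g y * (sgnW p M P T c (Subgroup.zpowers (y : G)) *
        conj (ga M (y : G) (fw M P c (Subgroup.zpowers (y : G))) η))) /
        ((C⟨P⟩.relIndex T : ℂ) * Nat.card P) := by
  rw [← s.toAbPair.setting.star_one hη, s.inner_star (s.stable_wgt χ hg)
    (s.stable_of_inv fun _ _ _ _ => rfl) hχ, Finset.sum_div]
  refine Finset.sum_congr rfl fun y _ => ?_
  by_cases hy1 : (y : G) = 1
  · simp [wgt, hy1, hg1]
  · simp only [wgt, if_neg hy1, map_one, mul_one]
    rw [s.wt_eq y.2 hy1, s.kk_eq y.2 hy1]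
    have hne := s.ga_ne y.2 hy1 hχ
    field_simp

/-- The coefficients are integers. -/
theorem FreePair.coeff_int {χ : IrrCharacter G} (hχ : χ ∈ B) (η : IrrCharacter G) {g : G → ℂ}
    (hgen : IsGeneralizedCharacter P fun y : P => g y)
    (hg : ∀ t ∈ T, ∀ y ∈ P, g (t * y * t⁻¹) = g y) (hg1 : g 1 = 0) :
    ∃ z : ℤ, classInner (starFn p M P c (wgt p M P T c χ g) χ) (η : G → ℂ) = z :=
  IsGeneralizedCharacter.exists_mult
    (isGeneralized_starFn_local s.modular s.toAbPair.setting.maximal (s.stable_wgt χ hg) hχ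
      (s.localGen hχ hgen hg1)) η.2

/-- The expansion of the inner products. -/
theorem FreePair.gram_expand {χ : IrrCharacter G} (hχ : χ ∈ B) {g g' : G → ℂ}
    (hg : ∀ t ∈ T, ∀ y ∈ P, g (t * y * t⁻¹) = g y) :
    ∑ η ∈ Finset.univ.filter (· ∈ B),
      classInner (starFn p M P c (wgt p M P T c χ g) χ) (η : G → ℂ) *
        conj (classInner (starFn p M P c (wgt p M P T c χ g') χ) (η : G → ℂ)) =
      classInner (starFn p M P c (wgt p M P T c χ g) χ) (starFn p M P c (wgt p M P T c χ g') χ) := by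
  set f := starFn p M P c (wgt p M P T c χ g) χ
  have hd : f = ∑ η : IrrCharacter G, classInner f (η : G → ℂ) • (η : G → ℂ) :=
    classFunction_expand (isClassFunction_starFn s.modular (s.stable_wgt χ hg) χ)
  conv_rhs => rw [hd, classInner_sum_left]
  rw [← Finset.sum_filter_add_sum_filter_not Finset.univ (· ∈ B) (fun η : IrrCharacter G =>
    classInner (classInner f (η : G → ℂ) • (η : G → ℂ))
      (starFn p M P c (wgt p M P T c χ g') χ)), Finset.sum_eq_zero
      (s := Finset.univ.filter fun η : IrrCharacter G => ¬ η ∈ B) (fun η hη => by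
    rw [classInner_smul_left, show classInner f (η : G → ℂ) = 0 from
      s.toAbPair.setting.inner_eq_zero _ hχ (Finset.mem_filter.1 hη).2, zero_mul]), add_zero]
  exact Finset.sum_congr rfl fun η _ => by rw [classInner_smul_left, classInner_conj_symm]

/-! ### Orbit sums -/

lemma FreePair.normal_sub : (C⟨P⟩.subgroupOf T).Normal :=
  ⟨fun z hz t => (Subgroup.mem_normalizer_iff.1 (centralizer_le_normalizer_centralizer
    ((s.stab _).1 t.2).1 le_rfl) (z : G)).1 hz⟩

/-- **The integral columns.** -/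
theorem FreePair.exists_columns (hP1 : P ≠ ⊥) {χ : IrrCharacter G} (hχ : χ ∈ B) :
    ∃ (m : ℕ) (n : IrrCharacter G → Fin m → ℤ),
      C⟨P⟩.relIndex T * m + 1 = Nat.card P ∧
      (∀ η ∈ B, ∃ i, n η i ≠ 0) ∧
      ∀ i j, ∑ η ∈ Finset.univ.filter (· ∈ B), n η i * n η j =
        (C⟨P⟩.relIndex T : ℤ) + if i = j then 1 else 0 := by
  set e := C⟨P⟩.relIndex T with he
  letI : CommGroup P :=
    { (inferInstance : Group P) with mul_comm := fun a b => Subtype.ext (s.comm a a.2 b b.2) }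
  haveI := s.normal_sub
  letI : Fintype (P →* ℂˣ) := Fintype.ofFinite _
  have hecard : Fintype.card (T ⧸ C⟨P⟩.subgroupOf T) = e := by
    rw [← Nat.card_eq_fintype_card]; rfl
  have he0 : (e : ℂ) ≠ 0 := Nat.cast_ne_zero.2 fun h =>
    Fintype.card_ne_zero (α := T ⧸ C⟨P⟩.subgroupOf T) (hecard.trans h)
  -- the action
  have hmemP : ∀ (t : T) (y : P), (t : G) * y * (t : G)⁻¹ ∈ P := fun t y =>
    (Subgroup.mem_normalizer_iff.1 ((s.stab _).1 t.2).1 y).1 y.2
  let act : T → P →* P := fun t =>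
    { toFun := fun y => ⟨(t : G) * y * (t : G)⁻¹, hmemP t y⟩
      map_one' := Subtype.ext (by simp)
      map_mul' := fun a b => Subtype.ext (by simp [mul_assoc]) }
  have hactmul : ∀ (a b : T) (y : P), act a (act b y) = act (a * b) y := fun a b y =>
    Subtype.ext (by show (a : G) * ((b : G) * y * (b : G)⁻¹) * (a : G)⁻¹ = _; simp [act, mul_assoc])
  have hact1 : ∀ y : P, act 1 y = y := fun y => Subtype.ext (by simp [act])
  have hactC : ∀ t : T, (t : G) ∈ C⟨P⟩ → ∀ y : P, act t y = y := fun t ht y => Subtype.ext (by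
    show (t : G) * y * (t : G)⁻¹ = y
    rw [← Subgroup.mem_centralizer_iff.1 ht y y.2, mul_inv_cancel_right])
  have hactinj : ∀ t : T, Function.Injective (act t) := fun t a b h => by
    have h' := congrArg (act t⁻¹) h
    rwa [hactmul, hactmul, inv_mul_cancel, hact1, hact1] at h'
  have hclass : ∀ a b : T, (a : T ⧸ C⟨P⟩.subgroupOf T) = b → ∀ y, act a y = act b y := fun a b hab y => by
    rw [QuotientGroup.eq, Subgroup.mem_subgroupOf] at hab
    conv_rhs => rw [show b = a * (a⁻¹ * b) by group, ← hactmul, hactC _ hab]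
  let tr : T → (P →* ℂˣ) → (P →* ℂˣ) := fun t l => l.comp (act t)
  have htrtr : ∀ a b l, tr a (tr b l) = tr (b * a) l := fun a b l =>
    MonoidHom.ext fun y => congrArg l (hactmul b a y)
  have htr1 : ∀ l, tr 1 l = l := fun l => MonoidHom.ext fun y => congrArg l (hact1 y)
  have hfree : ∀ (t : T) (l : P →* ℂˣ), l ≠ 1 → tr t l = l → (t : G) ∈ C⟨P⟩ := by
    intro t l hl h
    by_contra ht
    refine hl (MonoidHom.ext fun z => ?_)
    let d : P → P := fun y => y⁻¹ * act t y
    have hd : Function.Injective d := by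
      intro a b hab
      have h1 : act t (a * b⁻¹) = a * b⁻¹ := by
        have hab' : act t a = a * (b⁻¹ * act t b) := by
          rw [show b⁻¹ * act t b = a⁻¹ * act t a from hab.symm, mul_inv_cancel_left]
        rw [map_mul, map_inv, hab']
        group
      by_contra hne
      refine ht (s.free t t.2 _ (a * b⁻¹).2 (fun h => hne ?_) (congrArg Subtype.val h1))
      exact mul_inv_eq_one.1 (Subtype.ext h)
    obtain ⟨y, rfl⟩ := Finite.surjective_of_injective hd z
    show l (y⁻¹ * act t y) = 1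
    rw [map_mul, map_inv, show l (act t y) = l y from DFunLike.congr_fun h y, inv_mul_cancel]
  have htrne : ∀ (t : T) (l : P →* ℂˣ), l ≠ 1 → tr t l ≠ 1 := fun t l hl h => hl (by
    rw [← htr1 l, ← mul_inv_cancel t, ← htrtr, h]
    exact MonoidHom.ext fun y => rfl)
  -- orbits
  let st : Setoid {l : P →* ℂˣ // l ≠ 1} :=
    ⟨fun l k => ∃ t : T, tr t l.1 = k.1, fun l => ⟨1, htr1 _⟩,
      fun {l k} ⟨t, ht⟩ => ⟨t⁻¹, by rw [← ht, htrtr, mul_inv_cancel, htr1]⟩,
      fun {a b d} ⟨t, ht⟩ ⟨t', ht'⟩ => ⟨t * t', by rw [← htrtr, ht, ht']⟩⟩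
  letI : Fintype (Quotient st) := Fintype.ofFinite _
  set m := Fintype.card (Quotient st) with hm
  let idx : Fin m ≃ Quotient st := (Fintype.equivFin _).symm
  let rep : Fin m → {l : P →* ℂˣ // l ≠ 1} := fun i => (idx i).out
  have hrep : ∀ i j, (∃ t : T, tr t (rep i).1 = (rep j).1) → i = j := fun i j h => idx.injective (by
    rw [← Quotient.out_eq (idx i), ← Quotient.out_eq (idx j)]
    exact Quotient.sound h)
  have hbij : Function.Bijective (fun x : Fin m × (T ⧸ C⟨P⟩.subgroupOf T) =>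
      (⟨tr (x.2.out : T) (rep x.1).1, htrne _ _ (rep x.1).2⟩ : {l : P →* ℂˣ // l ≠ 1})) := by
    constructor
    · rintro ⟨i, q⟩ ⟨j, r⟩ h
      have h' : tr (q.out : T) (rep i).1 = tr (r.out : T) (rep j).1 := congrArg Subtype.val h
      have h2 : tr ((q.out : T) * (r.out : T)⁻¹) (rep i).1 = (rep j).1 := by
        rw [← htrtr, h', htrtr, mul_inv_cancel, htr1]
      obtain rfl := hrep i j ⟨_, h2⟩
      have h3 : (((q.out : T) * (r.out : T)⁻¹ : T) : T ⧸ C⟨P⟩.subgroupOf T) = 1 :=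
        (QuotientGroup.eq_one_iff _).2 (Subgroup.mem_subgroupOf.2 (hfree _ _ (rep i).2 h2))
      rw [QuotientGroup.mk_mul, QuotientGroup.mk_inv, QuotientGroup.out_eq', QuotientGroup.out_eq',
        mul_inv_eq_one] at h3
      rw [h3]
    · rintro ⟨l, hl⟩
      obtain ⟨i, hi⟩ := idx.surjective (Quotient.mk st ⟨l, hl⟩)
      obtain ⟨t, ht⟩ : ∃ t : T, tr t (rep i).1 = l := by
        have h : Quotient.mk st (rep i) = Quotient.mk st ⟨l, hl⟩ := by
          simp only [rep]; rw [Quotient.out_eq, hi]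
        exact Quotient.exact h
      refine ⟨(i, (t : T ⧸ C⟨P⟩.subgroupOf T)), Subtype.ext ?_⟩
      show tr _ _ = l
      rw [← ht]
      exact MonoidHom.ext fun y => congrArg (rep i).1 (hclass _ _ (QuotientGroup.out_eq' _) y)
  have hmcard : e * m + 1 = Nat.card P := by
    have h := Fintype.card_congr (Equiv.ofBijective _ hbij)
    rw [Fintype.card_prod, Fintype.card_fin, hecard, Fintype.card_subtype_compl,
      Fintype.card_subtype_eq, ← Nat.card_eq_fintype_card,
      CommGroup.card_monoidHom_of_hasEnoughRootsOfUnity] at h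
    have := Nat.card_pos (α := P)
    rw [mul_comm, h]
    omega
  -- the functions
  let gf : Fin m → P → ℂ := fun i y =>
    ∑ q : T ⧸ C⟨P⟩.subgroupOf T, (((rep i).1 (act (q.out : T) y) : ℂˣ) : ℂ) - e
  let g : Fin m → G → ℂ := fun i => extendByZero P (gf i)
  have hval : ∀ i (y : P), g i (y : G) = gf i y := fun i y => extendByZero_mem _ y.2
  have hg1 : ∀ i, g i 1 = 0 := fun i => by
    rw [show (1 : G) = ((1 : P) : G) from rfl, hval]
    simp [gf, hecard]
  have hgen : ∀ i, IsGeneralizedCharacter P fun y : P => g i (y : G) := fun i => by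
    simp only [hval]
    have h1 : IsGeneralizedCharacter P
        (∑ q : T ⧸ C⟨P⟩.subgroupOf T, fun y : P => ((tr (q.out : T) (rep i).1 y : ℂˣ) : ℂ)) :=
      IsGeneralizedCharacter.sum _ _ fun q _ => IsCharacter.isGeneralized (isCharacter_linear _)
    have h2 := IsGeneralizedCharacter.zsmul (IsCharacter.isGeneralized (isCharacter_one (G := P))) (e : ℤ)
    have := IsGeneralizedCharacter.sub h1 h2
    convert! this using 1
    funext y
    simp [gf, tr, Finset.sum_apply]
  have hinv : ∀ i, ∀ t ∈ T, ∀ y ∈ P, g i (t * y * t⁻¹) = g i y := fun i t ht y hy => by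
    refine (hval i (act ⟨t, ht⟩ ⟨y, hy⟩)).trans (Eq.trans ?_ (hval i ⟨y, hy⟩).symm)
    simp only [gf, hactmul]
    congr 1
    refine Fintype.sum_equiv (Equiv.mulRight ((⟨t, ht⟩ : T) : T ⧸ C⟨P⟩.subgroupOf T)) _ _ fun q => ?_
    rw [hclass ((q.out : T) * ⟨t, ht⟩)
      ((Equiv.mulRight ((⟨t, ht⟩ : T) : T ⧸ C⟨P⟩.subgroupOf T) q).out : T) (by
        rw [QuotientGroup.out_eq', QuotientGroup.mk_mul, QuotientGroup.out_eq']; rfl)]
  choose n hn using fun (η : IrrCharacter G) (i : Fin m) =>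
    s.coeff_int hχ η (hgen i) (hinv i) (hg1 i)
  refine ⟨m, n, hmcard, fun η hη => ?_, fun i j => ?_⟩
  · -- no row vanishes
    by_contra hno
    push Not at hno
    let F : P → ℂ := fun y => if y = 1 then 0 else sgnW p M P T c (Subgroup.zpowers (y : G)) *
      conj (ga M (y : G) (fw M P c (Subgroup.zpowers (y : G))) η)
    have hFinv : ∀ (t : T) (y : P), F (act t y) = F y := fun t y => by
      by_cases hy : y = 1
      · simp [hy]
      · have hy' : act t y ≠ 1 := fun h => hy (hactinj t (h.trans (map_one _).symm))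
        obtain ⟨h1, h2⟩ := s.ga_conj y.2 (fun h => hy (Subtype.ext h)) t.2 η
        simp only [F, if_neg hy, if_neg hy']
        rw [show ((act t y : P) : G) = (t : G) * y * (t : G)⁻¹ from rfl, h1, h2]
    let Fh : (P →* ℂˣ) → ℂ := fun l => ∑ y : P, ((l y : ℂˣ) : ℂ) * F y
    have hconst : ∀ l : P →* ℂˣ, Fh l = Fh 1 := by
      intro l
      by_cases hl : l = 1
      · rw [hl]
      obtain ⟨⟨i, q⟩, hiq⟩ := hbij.2 ⟨l, hl⟩
      have hsum : ∑ y : P, g i (y : G) * (sgnW p M P T c (Subgroup.zpowers (y : G)) *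
          conj (ga M (y : G) (fw M P c (Subgroup.zpowers (y : G))) η)) =
          (e : ℂ) * (Fh (rep i).1 - Fh 1) := by
        have h1 : ∀ y : P, g i (y : G) * (sgnW p M P T c (Subgroup.zpowers (y : G)) *
            conj (ga M (y : G) (fw M P c (Subgroup.zpowers (y : G))) η)) = gf i y * F y := fun y => by
          by_cases hy : y = 1
          · subst hy
            simp only [hval, F, if_pos, mul_zero]
            rw [show gf i 1 = g i ((1 : P) : G) from (hval i 1).symm]
            simp [hg1]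
          · simp only [hval, F, if_neg hy]
        rw [Finset.sum_congr rfl fun y _ => h1 y]
        simp only [gf, sub_mul, Finset.sum_sub_distrib, Finset.sum_mul]
        rw [Finset.sum_comm, mul_sub, ← hecard]
        congr 1
        · rw [← nsmul_eq_mul, ← Finset.card_univ, ← Finset.sum_const]
          refine Finset.sum_congr rfl fun q _ => ?_
          exact Fintype.sum_bijective (act (q.out : T))
            ((Finite.injective_iff_bijective).1 (hactinj _)) _ _ fun y => by rw [hFinv]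
        · simp [Fh, Finset.mul_sum, Homocyclic.one_app]
      have hz : (e : ℂ) * (Fh (rep i).1 - Fh 1) = 0 := by
        have h := s.coeff hχ hη (hinv i) (hg1 i)
        rw [hn, hno i, Int.cast_zero, eq_comm, div_eq_zero_iff, hsum] at h
        exact h.resolve_right (mul_ne_zero he0 (Nat.cast_ne_zero.2 Nat.card_pos.ne'))
      have hl' : l = tr (q.out : T) (rep i).1 := (congrArg Subtype.val hiq).symm
      rw [← sub_eq_zero.1 ((mul_eq_zero.1 hz).resolve_left he0)]
      refine Fintype.sum_bijective (act (q.out : T))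
        ((Finite.injective_iff_bijective).1 (hactinj _)) _ _ fun y => ?_
      rw [hFinv, hl']
      rfl
    haveI : Nontrivial P := (Subgroup.nontrivial_iff_ne_bot P).2 hP1
    obtain ⟨y₀, hy₀⟩ := exists_ne (1 : P)
    have hinvF : ∑ l : P →* ℂˣ, conj ((l y₀ : ℂˣ) : ℂ) * Fh l = (Nat.card P : ℂ) * F y₀ := by
      simp only [Fh, Finset.mul_sum]
      rw [Finset.sum_comm]
      have hterm : ∀ y : P, ∑ l : P →* ℂˣ, conj ((l y₀ : ℂˣ) : ℂ) * (((l y : ℂˣ) : ℂ) * F y) =
          if y₀⁻¹ * y = 1 then (Fintype.card P : ℂ) * F y else 0 := fun y => by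
        rw [Finset.sum_congr rfl (g := fun l : P →* ℂˣ => ((l (y₀⁻¹ * y) : ℂˣ) : ℂ) * F y)
          fun l _ => by rw [Homocyclic.conj_val, Homocyclic.inv_app, map_mul, map_inv,
            Units.val_mul, mul_assoc], ← Finset.sum_mul, Homocyclic.sum_chars]
        split_ifs <;> simp
      rw [Finset.sum_congr rfl fun y _ => hterm y]
      simp [inv_mul_eq_one, Nat.card_eq_fintype_card]
    have hzero : (Nat.card P : ℂ) * F y₀ = 0 := by
      rw [← hinvF, Finset.sum_congr rfl fun l _ => by rw [hconst l], ← Finset.sum_mul,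
        Finset.sum_congr rfl fun l _ => by rw [Homocyclic.conj_val, Homocyclic.inv_app, ← map_inv],
        Homocyclic.sum_chars, if_neg (inv_ne_one.2 hy₀), zero_mul]
    have hy₀1 : (y₀ : G) ≠ 1 := fun h => hy₀ (Subtype.ext h)
    rcases mul_eq_zero.1 hzero with h | h
    · exact Nat.cast_ne_zero.2 Nat.card_pos.ne' h
    · simp only [F, if_neg hy₀, mul_eq_zero, map_eq_zero] at h
      rcases h with h | h
      · have := (s.sgnW_sq (Subgroup.zpowers_le.2 y₀.2) (s.zpowers_ne hy₀1)).1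
        rw [h, mul_zero] at this
        exact zero_ne_one this
      · exact s.ga_ne y₀.2 hy₀1 hη h
  · -- the Gram matrix
    apply Int.cast_injective (α := ℂ)
    push_cast
    have h := s.gram_expand hχ (g := g i) (g' := g j) (hinv i)
    rw [s.gram hχ (hinv i) (hinv j) (hg1 i)] at h
    rw [Finset.sum_congr rfl fun η _ => by rw [hn, hn, map_intCast]] at h
    rw [h, div_eq_iff (mul_ne_zero he0 (Nat.cast_ne_zero.2 Nat.card_pos.ne'))]
    have hort : ∀ l k : P →* ℂˣ, ∑ y : P, ((l y : ℂˣ) : ℂ) * conj ((k y : ℂˣ) : ℂ) =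
        if l = k then (Fintype.card P : ℂ) else 0 := fun l k => by
      rw [Finset.sum_congr rfl fun y _ => by
        rw [Homocyclic.conj_val, ← Units.val_mul, ← Homocyclic.mul_app], Homocyclic.sum_elems]
      simp [mul_inv_eq_one]
    have hone : ∀ l : P →* ℂˣ, l ≠ 1 → ∑ y : P, ((l y : ℂˣ) : ℂ) = 0 ∧
        ∑ y : P, conj ((l y : ℂˣ) : ℂ) = 0 := fun l hl => by
      rw [← map_sum, Homocyclic.sum_elems, if_neg hl, map_zero]
      exact ⟨rfl, rfl⟩
    simp only [hval, gf, map_sub, map_sum, map_natCast, sub_mul, mul_sub, Finset.sum_sub_distrib]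
    have hA : ∑ y : P, (∑ q : T ⧸ C⟨P⟩.subgroupOf T, (((rep i).1 (act (q.out : T) y) : ℂˣ) : ℂ)) *
        ∑ r : T ⧸ C⟨P⟩.subgroupOf T, conj (((rep j).1 (act (r.out : T) y) : ℂˣ) : ℂ) =
        if i = j then (e : ℂ) * Nat.card P else 0 := by
      simp only [Finset.sum_mul, Finset.mul_sum]
      rw [Finset.sum_comm, Finset.sum_congr rfl fun r _ => Finset.sum_comm,
        Finset.sum_congr rfl fun (r : T ⧸ C⟨P⟩.subgroupOf T) _ =>
          Finset.sum_congr rfl fun (q : T ⧸ C⟨P⟩.subgroupOf T) _ =>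
          show ∑ y : P, (((rep i).1 (act (q.out : T) y) : ℂˣ) : ℂ) *
              conj (((rep j).1 (act (r.out : T) y) : ℂˣ) : ℂ) =
            if tr (q.out : T) (rep i).1 = tr (r.out : T) (rep j).1 then (Fintype.card P : ℂ) else 0
          from hort (tr (q.out : T) (rep i).1) (tr (r.out : T) (rep j).1)]
      have key : ∀ q r : T ⧸ C⟨P⟩.subgroupOf T, (tr (q.out : T) (rep i).1 = tr (r.out : T) (rep j).1 ↔ i = j ∧ q = r) :=
        fun q r => ⟨fun h => by
          have := hbij.1 (a₁ := (i, q)) (a₂ := (j, r)) (Subtype.ext h)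
          exact Prod.ext_iff.1 this, fun ⟨h1, h2⟩ => by rw [h1, h2]⟩
      simp only [key]
      split_ifs with hij
      · simp [hij, hecard, Nat.card_eq_fintype_card]
      · simp [hij]
    have hB : ∀ k, ∑ y : P, (∑ q : T ⧸ C⟨P⟩.subgroupOf T, (((rep k).1 (act (q.out : T) y) : ℂˣ) : ℂ)) *
        (e : ℂ) = 0 ∧ ∑ y : P, (e : ℂ) *
        ∑ q : T ⧸ C⟨P⟩.subgroupOf T, conj (((rep k).1 (act (q.out : T) y) : ℂˣ) : ℂ) = 0 := fun k => by
      constructor
      · rw [← Finset.sum_mul, Finset.sum_comm, Finset.sum_eq_zero fun q _ =>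
          (hone _ (htrne (q.out : T) _ (rep k).2)).1, zero_mul]
      · rw [← Finset.mul_sum, Finset.sum_comm, Finset.sum_eq_zero fun q _ =>
          (hone _ (htrne (q.out : T) _ (rep k).2)).2, mul_zero]
    rw [hA, (hB i).1, (hB j).2, Finset.sum_const, Finset.card_univ, nsmul_eq_mul,
      ← Nat.card_eq_fintype_card]
    split_ifs <;> ring

end Cfsg.Lib.Blocks.Frobenius
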