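import Mathlib

/-!
# Integral matrices with Gram matrix `δ + e`

An integral matrix without zero rows whose columns have Gram matrix `δ + e` has at most `m + e`
rows, and for `e ≤ 3` exactly that many, apart from a few small cases.
-/

set_option autoImplicit false

namespace Cfsg.Lib.Blocks.Frobenius

lemma chain_form_pos {m : ℕ} (y : ℕ → ℤ) (hy : ∀ j, m ≤ j → y j = 0) (hne : ∃ j, y j ≠ 0) :
    1 ≤ (∑ j ∈ Finset.range m, y j ^ 2) - ∑ j ∈ Finset.range m, y j * y (j + 1) := by
  have hshift : ∑ j ∈ Finset.range m, y (j + 1) ^ 2 = (∑ j ∈ Finset.range m, y j ^ 2) - y 0 ^ 2 := by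
    have h1 := Finset.sum_range_succ' (fun j => y j ^ 2) m
    rw [Finset.sum_range_succ, hy m le_rfl] at h1
    linarith
  have hsq : ∑ j ∈ Finset.range m, (y j - y (j + 1)) ^ 2 =
      2 * ((∑ j ∈ Finset.range m, y j ^ 2) - ∑ j ∈ Finset.range m, y j * y (j + 1)) - y 0 ^ 2 := by
    rw [show ∑ j ∈ Finset.range m, (y j - y (j + 1)) ^ 2 = ∑ j ∈ Finset.range m,
      (y j ^ 2 + y (j + 1) ^ 2 - 2 * (y j * y (j + 1))) from
      Finset.sum_congr rfl fun j _ => by ring, Finset.sum_sub_distrib, Finset.sum_add_distrib,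
      hshift, ← Finset.mul_sum]
    ring
  by_contra hlt
  push Not at hlt
  have hnn : 0 ≤ ∑ j ∈ Finset.range m, (y j - y (j + 1)) ^ 2 :=
    Finset.sum_nonneg fun _ _ => sq_nonneg _
  have h0sq : y 0 ^ 2 = 0 := le_antisymm (by linarith) (sq_nonneg _)
  have hz : ∑ j ∈ Finset.range m, (y j - y (j + 1)) ^ 2 = 0 := le_antisymm (by linarith) hnn
  rw [Finset.sum_eq_zero_iff_of_nonneg fun _ _ => sq_nonneg _] at hz
  have hall : ∀ j, j ≤ m → y j = 0 := fun j => by
    induction j with
    | zero => exact fun _ => eq_zero_of_pow_eq_zero h0sq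
    | succ j ih =>
      intro hj
      have h := eq_zero_of_pow_eq_zero (hz j (Finset.mem_range.2 (by omega)))
      have := ih (by omega)
      linarith
  obtain ⟨j, hj⟩ := hne
  rcases le_total j m with h | h
  exacts [hj (hall j h), hj (hy j h)]

variable {ι : Type*} {m e : ℕ}

/-- **The bound on the number of rows.** -/
theorem card_le_of_gram (s : Finset ι) (hm : 1 ≤ m) (n : ι → Fin m → ℤ)
    (hrow : ∀ η ∈ s, ∃ i, n η i ≠ 0)
    (hgram : ∀ i j, ∑ η ∈ s, n η i * n η j = (e : ℤ) + if i = j then 1 else 0) :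
    s.card ≤ m + e := by
  let y : ι → ℕ → ℤ := fun η j => if h : j < m then n η ⟨j, h⟩ else 0
  have hQ : ∀ η ∈ s, 1 ≤ (∑ j ∈ Finset.range m, y η j ^ 2) -
      ∑ j ∈ Finset.range m, y η j * y η (j + 1) := fun η hη => by
    obtain ⟨i, hi⟩ := hrow η hη
    exact chain_form_pos (y η) (fun j hj => dif_neg (by omega)) ⟨i, by simp [y, i.2, hi]⟩
  have hd : ∀ j ∈ Finset.range m, ∑ η ∈ s, y η j ^ 2 = (e : ℤ) + 1 := fun j hj => by
    simp only [y, dif_pos (Finset.mem_range.1 hj), pow_two]
    rw [hgram, if_pos rfl]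
  have ho : ∀ j ∈ Finset.range m, ∑ η ∈ s, y η j * y η (j + 1) =
      if j + 1 < m then (e : ℤ) else 0 := fun j hj => by
    by_cases h : j + 1 < m
    · simp only [y, dif_pos (Finset.mem_range.1 hj), dif_pos h, if_pos h]
      rw [hgram, if_neg (by simp [Fin.ext_iff]), add_zero]
    · simp [y, h]
  have h1 := Finset.card_nsmul_le_sum s _ (1 : ℤ) hQ
  rw [Finset.sum_sub_distrib, Finset.sum_comm, Finset.sum_comm (s := s), Finset.sum_congr rfl hd,
    Finset.sum_congr rfl ho] at h1
  obtain ⟨k, rfl⟩ : ∃ k, m = k + 1 := ⟨m - 1, by omega⟩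
  rw [Finset.sum_range_succ (fun j => if j + 1 < k + 1 then (e : ℤ) else 0),
    if_neg (lt_irrefl _), add_zero, Finset.sum_congr rfl (g := fun _ => (e : ℤ))
      fun j hj => if_pos (by have := Finset.mem_range.1 hj; omega)] at h1
  simp only [Finset.sum_const, Finset.card_range, nsmul_eq_mul, mul_one] at h1
  push_cast at h1
  have : (s.card : ℤ) ≤ ((k + 1 + e : ℕ) : ℤ) := by push_cast; linarith
  exact_mod_cast this

/-- A sum of signs has the parity of the number of terms and is bounded by it. -/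
lemma sum_sign {t : Finset ι} (f : ι → ℤ) (hf : ∀ x ∈ t, f x = 1 ∨ f x = -1) :
    ∑ x ∈ t, f x ≤ t.card ∧ Even ((t.card : ℤ) - ∑ x ∈ t, f x) := by
  classical
  induction t using Finset.induction_on with
  | empty => simp
  | insert a t ha ih =>
    obtain ⟨h1, k, hk⟩ := ih fun x hx => hf x (Finset.mem_insert_of_mem hx)
    rw [Finset.sum_insert ha, Finset.card_insert_of_notMem ha]
    push_cast
    rcases hf a (Finset.mem_insert_self a t) with h | h
    · exact ⟨by rw [h]; linarith, k, by rw [h]; linarith⟩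
    · exact ⟨by rw [h]; linarith, k + 1, by rw [h]; linarith⟩

/-- Sets of size `e + 1` meeting pairwise in `e` points have a common core or lie in a set of
size `e + 2`; if they cover a set, it has `m + e` or `e + 2` elements. -/
theorem card_cover_of_near_equal [DecidableEq ι] (s : Finset ι) (S : Fin m → Finset ι)
    (hm : 2 ≤ m) (hsub : ∀ i, S i ⊆ s) (hcov : ∀ x ∈ s, ∃ i, x ∈ S i)
    (hcard : ∀ i, (S i).card = e + 1) (hint : ∀ i j, i ≠ j → (S i ∩ S j).card = e) :
    s.card = m + e ∨ s.card = e + 2 := by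
  let a : Fin m := ⟨0, by omega⟩
  let b : Fin m := ⟨1, by omega⟩
  have hab : a ≠ b := by simp [a, b, Fin.ext_iff]
  set C := S a ∩ S b with hC
  set U := S a ∪ S b with hU
  have hCc : C.card = e := hint a b hab
  have hUc : U.card = e + 2 := by
    have := Finset.card_union_add_card_inter (S a) (S b)
    rw [← hC, ← hU, hCc, hcard, hcard] at this
    omega
  have hdich : ∀ i, C ⊆ S i ∨ (S i ⊆ U ∧ ∃ c ∈ C, c ∉ S i) := by
    intro i
    by_cases h : C ⊆ S i
    · exact Or.inl h
    obtain ⟨c, hc, hci⟩ := Finset.not_subset.1 h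
    have key : ∀ d, d = a ∨ d = b → (S d).erase c ⊆ S i := by
      intro d hd x hx
      have hcd : c ∈ S d := by
        rcases hd with rfl | rfl
        exacts [(Finset.mem_inter.1 hc).1, (Finset.mem_inter.1 hc).2]
      have hid : i ≠ d := fun h => hci (h ▸ hcd)
      have heq : S i ∩ S d = (S d).erase c := by
        refine Finset.eq_of_subset_of_card_le (fun z hz => Finset.mem_erase.2
          ⟨fun h => hci (h ▸ (Finset.mem_inter.1 hz).1), (Finset.mem_inter.1 hz).2⟩) ?_
        rw [Finset.card_erase_of_mem hcd, hint i d hid, hcard]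
        omega
      rw [← heq] at hx
      exact (Finset.mem_inter.1 hx).1
    have hsubU : U.erase c ⊆ S i := fun x hx => by
      obtain ⟨hxc, hxU⟩ := Finset.mem_erase.1 hx
      rcases Finset.mem_union.1 hxU with h | h
      exacts [key a (Or.inl rfl) (Finset.mem_erase.2 ⟨hxc, h⟩),
        key b (Or.inr rfl) (Finset.mem_erase.2 ⟨hxc, h⟩)]
    have heq : U.erase c = S i := by
      refine Finset.eq_of_subset_of_card_le hsubU ?_
      rw [Finset.card_erase_of_mem (Finset.mem_union_left _ (Finset.mem_inter.1 hc).1), hUc, hcard]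
      omega
    exact Or.inr ⟨heq ▸ Finset.erase_subset _ _, c, hc, hci⟩
  by_cases hall : ∀ i, S i ⊆ U
  · right
    have : s = U := Finset.Subset.antisymm (fun x hx => by
      obtain ⟨i, hi⟩ := hcov x hx
      exact hall i hi) (Finset.union_subset (hsub a) (hsub b))
    rw [this, hUc]
  · left
    obtain ⟨i₀, hi₀⟩ := not_forall.1 hall
    have hcore : ∀ j, C ⊆ S j := by
      intro j
      refine (hdich j).resolve_right fun ⟨hjU, c, hc, hcj⟩ => ?_
      have hiC : C ⊆ S i₀ := (hdich i₀).resolve_right fun h => hi₀ h.1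
      have hne : i₀ ≠ j := fun h => hi₀ (h ▸ hjU)
      have hiU : S i₀ ∩ U = C := by
        refine (Finset.eq_of_subset_of_card_le (fun x hx => Finset.mem_inter.2 ⟨hiC hx,
          Finset.mem_union_left _ (Finset.mem_inter.1 hx).1⟩) ?_).symm
        have hlt : (S i₀ ∩ U).card < (S i₀).card := Finset.card_lt_card <|
          (Finset.ssubset_iff_of_subset Finset.inter_subset_left).2 <| by
            obtain ⟨x, hx, hxU⟩ := Finset.not_subset.1 hi₀
            exact ⟨x, hx, fun h => hxU (Finset.mem_inter.1 h).2⟩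
        rw [hcard] at hlt
        show (S i₀ ∩ U).card ≤ C.card
        omega
      have hle : (S i₀ ∩ S j).card ≤ (C.erase c).card := Finset.card_le_card fun x hx => by
        obtain ⟨h1, h2⟩ := Finset.mem_inter.1 hx
        exact Finset.mem_erase.2 ⟨fun h => hcj (h ▸ h2), hiU ▸ Finset.mem_inter.2 ⟨h1, hjU h2⟩⟩
      rw [hint i₀ j hne, Finset.card_erase_of_mem hc, hCc] at hle
      have : 0 < e := hCc ▸ Finset.card_pos.2 ⟨c, hc⟩
      omega
    have hinter : ∀ i j, i ≠ j → S i ∩ S j = C := fun i j hij =>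
      (Finset.eq_of_subset_of_card_le (Finset.subset_inter (hcore i) (hcore j))
        (by rw [hint i j hij, hCc])).symm
    have hs : s \ C = Finset.univ.biUnion fun i => S i \ C := by
      ext x
      simp only [Finset.mem_sdiff, Finset.mem_biUnion, Finset.mem_univ, true_and]
      exact ⟨fun ⟨hx, hxC⟩ => (hcov x hx).imp fun i hi => ⟨hi, hxC⟩,
        fun ⟨i, hi, hxC⟩ => ⟨hsub i hi, hxC⟩⟩
    have hdis : (s \ C).card = m := by
      rw [hs, Finset.card_biUnion fun i _ j _ hij => Finset.disjoint_left.2 fun x hx hy => by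
        obtain ⟨h1, hxC⟩ := Finset.mem_sdiff.1 hx
        exact hxC (hinter i j hij ▸ Finset.mem_inter.2 ⟨h1, (Finset.mem_sdiff.1 hy).1⟩)]
      rw [Finset.sum_congr rfl (g := fun _ => 1) fun i _ => by
        rw [Finset.card_sdiff_of_subset (hcore i), hcard, hCc]; omega]
      simp
    have hCs : C ⊆ s := fun x hx => hsub a (Finset.mem_inter.1 hx).1
    rw [Finset.card_sdiff_of_subset hCs, hCc] at hdis
    have := Finset.card_le_card hCs
    omega

/-- **The number of rows for `e ≤ 3`.** -/
theorem card_eq_of_gram_small (s : Finset ι) (hm : 1 ≤ m) (n : ι → Fin m → ℤ)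
    (hrow : ∀ η ∈ s, ∃ i, n η i ≠ 0)
    (hgram : ∀ i j, ∑ η ∈ s, n η i * n η j = (e : ℤ) + if i = j then 1 else 0)
    (hk : m < s.card) (he : e ≤ 3) :
    s.card = m + e ∨ (3 ≤ m ∧ m ≤ e + 1 ∧ s.card = e + 2) := by
  classical
  have hdiag : ∀ i, ∑ η ∈ s, n η i ^ 2 = (e : ℤ) + 1 := fun i => by
    simp only [pow_two]; rw [hgram, if_pos rfl]
  have hunit : ∀ i, ∀ η ∈ s, n η i ≠ 0 → n η i = 1 ∨ n η i = -1 := by
    intro i η hη hne
    by_contra h
    push Not at h
    have h2 : 2 ≤ n η i ∨ n η i ≤ -2 := by omega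
    have h4 : 4 ≤ n η i ^ 2 := by rcases h2 with h2 | h2 <;> nlinarith
    have hrest := Finset.add_sum_erase s (fun x => n x i ^ 2) hη
    rw [hdiag] at hrest
    have hnn : 0 ≤ ∑ x ∈ s.erase η, n x i ^ 2 := Finset.sum_nonneg fun _ _ => sq_nonneg _
    have he3 : (e : ℤ) ≤ 3 := by exact_mod_cast he
    have hz : ∑ x ∈ s.erase η, n x i ^ 2 = 0 := by linarith
    rw [Finset.sum_eq_zero_iff_of_nonneg fun _ _ => sq_nonneg _] at hz
    have hzero : ∀ x ∈ s, x ≠ η → n x i = 0 := fun x hx hxe =>
      eq_zero_of_pow_eq_zero (hz x (Finset.mem_erase.2 ⟨hxe, hx⟩))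
    have hv : n η i = 2 ∨ n η i = -2 := by rcases h2 with h2 | h2 <;> [left; right] <;> nlinarith
    have heq3 : (e : ℤ) = 3 := by linarith
    by_cases hone : ∀ j, j = i
    · have : s.card ≤ ({η} : Finset ι).card := Finset.card_le_card fun x hx => by
        obtain ⟨j, hj⟩ := hrow x hx
        rw [hone j] at hj
        exact Finset.mem_singleton.2 (by_contra fun hxe => hj (hzero x hx hxe))
      rw [Finset.card_singleton] at this
      omega
    · obtain ⟨j, hj⟩ := not_forall.1 hone
      have h1 := hgram i j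
      rw [if_neg (Ne.symm hj), add_zero, Finset.sum_eq_single η
        (fun x hx hxe => by rw [hzero x hx hxe, zero_mul]) (fun h => absurd hη h), heq3] at h1
      rcases hv with hv | hv <;> rw [hv] at h1 <;> omega
  set S : Fin m → Finset ι := fun i => s.filter fun η => n η i ≠ 0 with hS
  have hScard : ∀ i, (S i).card = e + 1 := fun i => by
    have h : ((S i).card : ℤ) = ∑ η ∈ s, n η i ^ 2 := by
      rw [Finset.card_eq_sum_ones, Nat.cast_sum, Finset.sum_filter]
      refine Finset.sum_congr rfl fun η hη => ?_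
      split_ifs with h
      · rcases hunit i η hη h with h' | h' <;> rw [h'] <;> norm_num
      · rw [not_not] at h
        simp [h]
    rw [hdiag] at h
    exact_mod_cast h
  have hint : ∀ i j, i ≠ j → (S i ∩ S j).card = e := fun i j hij => by
    have h : ∑ η ∈ S i ∩ S j, n η i * n η j = (e : ℤ) := by
      have := hgram i j
      rw [if_neg hij, add_zero] at this
      rw [← this]
      refine Finset.sum_subset (fun x hx => (Finset.mem_filter.1 (Finset.mem_inter.1 hx).1).1)
        fun x hx hxn => ?_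
      simp only [hS, Finset.mem_inter, Finset.mem_filter, hx, true_and, not_and_or, not_not] at hxn
      rcases hxn with h | h <;> rw [h] <;> simp
    obtain ⟨h1, k, hk2⟩ := sum_sign (t := S i ∩ S j) (fun η => n η i * n η j) fun η hη => by
      obtain ⟨ha, hb⟩ := Finset.mem_inter.1 hη
      obtain ⟨hηs, hai⟩ := Finset.mem_filter.1 ha
      rcases hunit i η hηs hai with h | h <;>
        rcases hunit j η hηs (Finset.mem_filter.1 hb).2 with h' | h' <;> simp [h, h']
    rw [h] at h1 hk2
    have hle := Finset.card_le_card (Finset.inter_subset_left (s₁ := S i) (s₂ := S j))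
    rw [hScard] at hle
    omega
  rcases Nat.lt_or_ge m 2 with hm2 | hm2
  · left
    have : s = S ⟨0, hm⟩ := Finset.Subset.antisymm (fun x hx => by
      obtain ⟨i, hi⟩ := hrow x hx
      have : i = ⟨0, hm⟩ := Fin.ext (by omega)
      exact Finset.mem_filter.2 ⟨hx, this ▸ hi⟩) (Finset.filter_subset _ _)
    rw [this, hScard]
    omega
  · rcases card_cover_of_near_equal s S hm2 (fun i => Finset.filter_subset _ _)
      (fun x hx => (hrow x hx).imp fun i hi => Finset.mem_filter.2 ⟨hx, hi⟩) hScard hint with h | h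
    · exact Or.inl h
    · rcases Nat.lt_or_ge m 3 with h3 | h3
      · exact Or.inl (by omega)
      · exact Or.inr ⟨h3, by omega, h⟩

end Cfsg.Lib.Blocks.Frobenius
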