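import Mathlib
import Cfsg.Agent.Blocks.Frobenius.IntegralRows
import Cfsg.Agent.Blocks.Frobenius.RowBound

/-!
# Blocks with abelian defect group and free inertial action: the counts
-/

set_option autoImplicit false
set_option linter.unusedSectionVars false
set_option linter.style.haveILetI false

namespace Cfsg.Lib.Blocks.Frobenius

open Cfsg Cfsg.Lib.Chars Cfsg.Lib.Blocks Cfsg.Lib.Blocks.Star Cfsg.Lib.Blocks.AbelianStar

universe u

local notation "C⟨" P "⟩" => Subgroup.centralizer (SetLike.coe P)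

variable {G : Type u} [Group G] [Fintype G] {M : Ideal AlgInt} {p : ℕ} [Fact p.Prime]
  {B : Set (IrrCharacter G)} {P T : Subgroup G} {c : Set (IrrCharacter C⟨P⟩)}
  (s : FreePair p M B P T c)
include s

/-- The block count from the sections. -/
theorem FreePair.section_count :
    (C⟨P⟩.relIndex T : ℤ) * ((Nat.card B : ℤ) - (blockRank p B : ℤ)) = (Nat.card P : ℤ) - 1 := by
  classical
  have hfree : ∀ y ∈ P, y ≠ 1 → ∀ t ∈ T, t * y * t⁻¹ = y → t ∈ C⟨P⟩ :=
    fun y hy hy1 t ht h => s.free t ht y hy hy1 h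
  have h1 : ∀ (y : G) (f : Set (IrrCharacter C⟨Subgroup.zpowers y⟩)), y ∈ P → y ≠ 1 →
      IsBelow M P c y f → blockRank p f = 1 := fun y f hy hy1 hf =>
    blockRank_local_eq_one s.modular s.defect s.pair s.comm s.stab (Subgroup.zpowers_le.2 hy)
      (hf.normalSubpair s.modular s.pair.1 s.comm hy) fun t ht htc => hfree y hy hy1 t ht (by
        rw [centralizer_zpowers, Subgroup.mem_centralizer_singleton_iff] at htc
        rw [htc, mul_inv_cancel_right])
  have h := subsection_count s.modular s.defect s.pair s.comm s.stab hfree (fun _ => 1) h1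
  rw [h, Finset.sum_const, nsmul_eq_mul, show (Finset.univ.filter fun y : G => y ∈ P ∧ y ≠ 1) =
      (Finset.univ.filter (· ∈ P)).erase 1 by ext y; simp [and_comm],
    Finset.card_erase_of_mem (by simp [P.one_mem]), ← Fintype.card_subtype,
    ← Nat.card_eq_fintype_card, Nat.cast_sub Nat.card_pos]
  simp

/-- **The counts**: with `m = (|P| - 1) / e` one has `k - l = m`, `k ≤ m + e`, and equality for
`e ≤ 3` away from two small groups. -/
theorem FreePair.counts (hP1 : P ≠ ⊥) :
    ∃ m, 1 ≤ m ∧ C⟨P⟩.relIndex T * m + 1 = Nat.card P ∧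
      Nat.card B = m + blockRank p B ∧ 0 < blockRank p B ∧ blockRank p B ≤ C⟨P⟩.relIndex T ∧
      (C⟨P⟩.relIndex T ≤ 3 → blockRank p B = C⟨P⟩.relIndex T ∨
        (Nat.card P = 7 ∧ C⟨P⟩.relIndex T = 2 ∧ blockRank p B = 1) ∨
        (Nat.card P = 13 ∧ C⟨P⟩.relIndex T = 3 ∧ blockRank p B = 1)) := by
  classical
  obtain ⟨χ, hχ⟩ := IsPBlock.nonempty s.modular s.pair.2.1
  obtain ⟨m, n, hm, hrow, hgram⟩ := s.exists_columns hP1 hχ
  have hsec := s.section_count
  have hPc : 1 < Nat.card P := Finite.one_lt_card_iff_nontrivial.2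
    ((Subgroup.nontrivial_iff_ne_bot P).2 hP1)
  have hpp := s.toAbPair.card_pow
  have hl := blockRank_pos s.modular s.pair.2.1
  set e := C⟨P⟩.relIndex T
  set l := blockRank p B
  have he : 0 < e := Nat.pos_of_ne_zero fun h => by rw [h, zero_mul] at hm; omega
  have hm1 : 1 ≤ m := Nat.one_le_iff_ne_zero.2 fun h => by rw [h, mul_zero] at hm; omega
  have hk : Nat.card B = m + l := by
    rw [← hm] at hsec
    push_cast at hsec
    have : (Nat.card B : ℤ) - l = m := mul_left_cancel₀ (Int.natCast_ne_zero.2 he.ne')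
      (by linarith)
    omega
  set s' := Finset.univ.filter (· ∈ B)
  have hs : s'.card = Nat.card B := by
    rw [← Fintype.card_subtype, ← Nat.card_eq_fintype_card]
  have hrow' : ∀ η ∈ s', ∃ i, n η i ≠ 0 := fun η hη => hrow η (Finset.mem_filter.1 hη).2
  have hle := card_le_of_gram s' hm1 n hrow' hgram
  refine ⟨m, hm1, hm, hk, hl, by omega, fun he3 => ?_⟩
  rcases card_eq_of_gram_small s' hm1 n hrow' hgram (by omega) he3 with h | ⟨h3, h4, h5⟩
  · exact Or.inl (by omega)
  · have he2 : e = 2 ∨ e = 3 := by omega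
    rcases he2 with h2 | h2 <;> rw [h2] at hm h4 h5
    · exact Or.inr (Or.inl ⟨by omega, h2, by omega⟩)
    · by_cases h33 : m = 3
      · exfalso
        have h10 : p ^ blockDefect p B = 10 := by rw [← hpp, ← hm, h33]
        have hp : p.Prime := Fact.out
        have hd : blockDefect p B ≠ 0 := fun h => by rw [h, pow_zero] at h10; omega
        have h2' := (Nat.prime_dvd_prime_iff_eq Nat.prime_two hp).1
          (Nat.prime_two.dvd_of_dvd_pow (h10 ▸ (by norm_num : (2 : ℕ) ∣ 10)))
        have h5' := (Nat.prime_dvd_prime_iff_eq Nat.prime_five hp).1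
          (Nat.prime_five.dvd_of_dvd_pow (h10 ▸ (by norm_num : (5 : ℕ) ∣ 10)))
        omega
      · exact Or.inr (Or.inr ⟨by omega, h2, by omega⟩)

end Cfsg.Lib.Blocks.Frobenius
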