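import Mathlib
import Cfsg.Agent.Blocks.Frobenius.Main
import Cfsg.Agent.Blocks.RankOneSmall.BlockBound
import Cfsg.Agent.Blocks.CyclicDefect.Local

/-!
# A central element with a long chain of powers

For a defect group of prime order the invariant polynomials in a generator lift through the Brauer
map to a nilpotent central element of the block whose powers do not vanish below the number of
exceptional characters.
-/

set_option autoImplicit false
set_option linter.unusedSectionVars false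
set_option linter.style.haveILetI false

namespace Cfsg.Lib.Blocks.Frobenius

open Cfsg Cfsg.Lib.Chars Cfsg.Lib.Blocks Cfsg.Lib.Blocks.Star Cfsg.Lib.Blocks.AbelianStar
open scoped Classical

universe u

local notation "C⟨" P "⟩" => Subgroup.centralizer (SetLike.coe P)

variable {G : Type u} [Group G] [Fintype G]

section Alg

variable {A : Type*} [CommRing A]

lemma cj_single' (t y : G) (r : A) :
    cj t (MonoidAlgebra.single y r) = MonoidAlgebra.single (t * y * t⁻¹) r := fn_ext fun g => by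
  rw [fn_cj, fn_single, fn_single]
  refine if_congr ⟨fun h => by rw [h]; group, fun h => by rw [← h]; group⟩ rfl rfl

/-- Conjugation as an algebra map. -/
noncomputable def cjAlg (t : G) : MonoidAlgebra A G →ₐ[A] MonoidAlgebra A G :=
  AlgHom.ofLinearMap
    { toFun := cj t, map_add' := cj_add' t, map_smul' := cj_smul' t }
    (by
      show cj t 1 = 1
      rw [MonoidAlgebra.one_def, cj_single', mul_one, mul_inv_cancel])
    (cj_mul t)

lemma invOn_single {H : Subgroup G} {y : G} (hy : ∀ h ∈ H, h * y = y * h) (r : A) :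
    InvOn H (MonoidAlgebra.single y r) := invOn_iff.2 fun h hh => by
  rw [cj_single', hy h hh, mul_inv_cancel_right]

lemma suppOn_single {H : Subgroup G} {y : G} (hy : y ∈ H) (r : A) :
    SuppOn H (MonoidAlgebra.single y r) := fun g hg => by
  rw [fn_single, if_neg]
  rintro rfl
  exact hg hy

/-- The relative trace in two steps. -/
lemma trR_trR {R S Q : Subgroup G} (hQS : Q ≤ S) (hSR : S ≤ R) {a : MonoidAlgebra A G}
    (ha : InvOn Q a) : trR R S (trR S Q a) = trR R Q a := by
  simp only [trR, cj_sum]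
  rw [← Fintype.sum_prod_type']
  let f : (R ⧸ S.subgroupOf R) × (S ⧸ Q.subgroupOf S) → R ⧸ Q.subgroupOf R := fun x =>
    ((x.1.out * ⟨((x.2.out : S) : G), hSR (x.2.out : S).2⟩ : R) : R ⧸ Q.subgroupOf R)
  have hinj : Function.Injective f := by
    rintro ⟨a₁, b₁⟩ ⟨a₂, b₂⟩ h
    simp only [f, QuotientGroup.eq, Subgroup.mem_subgroupOf] at h
    have ha' : a₁ = a₂ := by
      rw [← QuotientGroup.out_eq' a₁, ← QuotientGroup.out_eq' a₂, QuotientGroup.eq,
        Subgroup.mem_subgroupOf]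
      have h' := S.mul_mem (S.mul_mem (b₁.out : S).2 (hQS h)) (S.inv_mem (b₂.out : S).2)
      simp only [Subgroup.coe_mul, Subgroup.coe_inv, mul_inv_rev] at h' ⊢
      simpa [mul_assoc] using h'
    subst ha'
    have hb : b₁ = b₂ := by
      rw [← QuotientGroup.out_eq' b₁, ← QuotientGroup.out_eq' b₂, QuotientGroup.eq,
        Subgroup.mem_subgroupOf]
      simpa [mul_assoc] using h
    rw [hb]
  have hsurj : Function.Surjective f := by
    intro c
    obtain ⟨r, rfl⟩ := Quotient.exists_rep c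
    set x : R ⧸ S.subgroupOf R := (r : R ⧸ S.subgroupOf R) with hx
    have hmem : ((x.out : R)⁻¹ * r : R) ∈ S.subgroupOf R :=
      QuotientGroup.eq.1 (QuotientGroup.out_eq' x)
    set y : S ⧸ Q.subgroupOf S := ((⟨_, hmem⟩ : S) : S ⧸ Q.subgroupOf S) with hy
    obtain ⟨⟨q, hq⟩, he⟩ := QuotientGroup.mk_out_eq_mul (Q.subgroupOf S) (⟨_, hmem⟩ : S)
    refine ⟨(x, y), ?_⟩
    show ((x.out * ⟨((y.out : S) : G), _⟩ : R) : R ⧸ Q.subgroupOf R) = (r : R ⧸ Q.subgroupOf R)
    rw [QuotientGroup.eq, Subgroup.mem_subgroupOf]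
    have hyv : ((y.out : S) : G) = ((x.out : R) : G)⁻¹ * r * (q : G) := by
      rw [hy, he]; simp
    simp only [Subgroup.coe_mul, Subgroup.coe_inv, hyv]
    simpa [mul_assoc] using Q.inv_mem (Subgroup.mem_subgroupOf.1 hq)
  refine Fintype.sum_bijective f ⟨hinj, hsurj⟩ _ _ fun x => ?_
  rw [cj_cj, cj_mk_out ha, Subgroup.coe_mul]

/-- The Brauer image of a trace from the defect group is the trace inside the normaliser. -/
lemma br_trR_top {p : ℕ} [Fact p.Prime] [CharP A p] {P : Subgroup G} (hP : IsPGroup p P)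
    {a : MonoidAlgebra A G} (hai : InvOn P a) (has : SuppOn C⟨P⟩ a) :
    br P (trR ⊤ P a) = ∑ q ∈ Finset.univ.filter (fun q : (⊤ : Subgroup G) ⧸ P.subgroupOf ⊤ =>
      ((q.out : (⊤ : Subgroup G)) : G) ∈ Subgroup.normalizer (P : Set G)),
        cj ((q.out : (⊤ : Subgroup G)) : G) a := by
  set R : Subgroup G := ⊤ with hRdef
  have hPR : P ≤ R := le_top
  letI : MulAction P (R ⧸ P.subgroupOf R) := MulAction.compHom _ (Subgroup.inclusion hPR)
  have hsmul : ∀ (v : P) (q : R ⧸ P.subgroupOf R),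
      v • q = ((Subgroup.inclusion hPR v * q.out : R) : R ⧸ P.subgroupOf R) := fun v q => by
    conv_lhs => rw [← QuotientGroup.out_eq' q]
    rfl
  have hfix : ∀ q : R ⧸ P.subgroupOf R, (∀ v : P, v • q = q) ↔
      ((q.out : R) : G) ∈ Subgroup.normalizer (P : Set G) := fun q => by
    have h1 : ∀ v : P, v • q = q ↔ ((q.out : R) : G)⁻¹ * (v : G)⁻¹ * ((q.out : R) : G) ∈ P := fun v => by
      rw [hsmul]
      nth_rewrite 2 [← QuotientGroup.out_eq' q]
      rw [QuotientGroup.eq, Subgroup.mem_subgroupOf]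
      simp [mul_assoc]
    constructor
    · intro h
      rw [← inv_mem_iff]
      have hsub : P.map (MulAut.conj ((q.out : R) : G)⁻¹).toMonoidHom ≤ P := by
        rintro _ ⟨y, hy, rfl⟩
        simpa using (h1 ⟨y⁻¹, P.inv_mem hy⟩).1 (h _)
      have heq := Subgroup.eq_of_le_of_card_ge hsub (card_map_conj P _).ge
      refine Subgroup.mem_normalizer_iff.2 fun y => ⟨fun hy => heq.le ⟨y, hy, by simp⟩, fun hy => ?_⟩
      obtain ⟨z, hz, hzy⟩ := heq.ge hy
      rwa [← (MulAut.conj ((q.out : R) : G)⁻¹).injective hzy]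
    · intro h v
      rw [h1]
      simpa using ((Subgroup.mem_normalizer_iff.1 (inv_mem h)) _).1 (P.inv_mem v.2)
  rw [trR, br_sum, sum_eq_sum_fixed hP (fun r => fn_ext fun g => by
      rw [← Nat.cast_smul_eq_nsmul A, CharP.cast_eq_zero, zero_smul])
    (fun q : R ⧸ P.subgroupOf R => br P (cj ((q.out : R) : G) a)) fun v q => ?_]
  · refine Finset.sum_congr (Finset.ext fun q => by
      simp only [Finset.mem_filter, Finset.mem_univ, true_and]; exact hfix q) fun q hq => ?_
    have hN := (Finset.mem_filter.1 hq).2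
    refine trunc_eq_self fun g hg => ?_
    rw [fn_cj]
    refine has _ fun hC => hg (Subgroup.mem_centralizer_iff.2 fun y hy => ?_)
    set t := ((q.out : R) : G)
    have hy' : t⁻¹ * y * t ∈ P := by
      simpa using ((Subgroup.mem_normalizer_iff.1 (inv_mem hN)) y).1 hy
    have h2 := Subgroup.mem_centralizer_iff.1 hC _ hy'
    calc y * g = t * ((t⁻¹ * y * t) * (t⁻¹ * g * t)) * t⁻¹ := by group
      _ = g * y := by rw [h2]; group
  · show br P (cj (((v • q).out : R) : G) a) = _
    rw [hsmul, cj_mk_out hai, Subgroup.coe_mul, ← cj_cj, cj_br_of_mem _ (by exact v.2)]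

end Alg

variable {M : Ideal AlgInt} {p : ℕ} [Fact p.Prime]
  {B : Set (IrrCharacter G)} {P T : Subgroup G} {c : Set (IrrCharacter C⟨P⟩)}

/-- A central element is a scalar up to nilpotents in each block. -/
lemma isNilpotent_sub_scalar {H : Type u} [Group H] [Fintype H] (hM : IsPModular p M)
    {b : Set (IrrCharacter H)} (hb : IsPBlock M b) {z : MonoidAlgebra ℂ H} (hz : IsCentralFn z)
    (hzi : Integral M z) {χ : IrrCharacter H} (hχ : χ ∈ b) :
    IsNilpotent (red M z * red M (blockElem b) -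
      res M (omega (χ : H → ℂ) z) • red M (blockElem b)) := by
  set w := omega (χ : H → ℂ) z
  have hw : w ∈ place M := omega_mem_place hM χ hz hzi
  have hei := integral_blockElem hM hb
  have hec := isCentralFn_blockElem b
  rw [← red_mul hzi hei, ← red_smul hei hw, ← red_sub (hzi.mul hei) (hei.smul hw)]
  refine isNilpotent_red_of_omega_small hM ((hz.mul hec).sub (hec.smul _))
    ((hzi.mul hei).sub (hei.smul hw)) fun ψ => ?_
  rw [omega_sub, omega_smul, omega_mul ψ hz, omega_blockElem]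
  split_ifs with h
  · rw [mul_one, mul_one]
    have hψ := omega_mem_place hM ψ hz hzi
    refine (res_eq_zero_iff (sub_mem hψ hw)).1 ?_
    rw [res_sub hψ hw, res_omega_eq_of_sameBlock hM (IsPBlock.sameBlock hM hb hχ h) hz hzi, sub_self]
  · rw [mul_zero, mul_zero, sub_zero]
    exact small_zero

/-- The class sum of a defect class of the pair as a trace from the defect group. -/
lemma exists_single_trace (s : FreePair p M B P T c) (hp : Nat.card P = p) :
    ∃ (x : G) (r : Res M), x ∈ C⟨P⟩ ∧ r ≠ 0 ∧ IsNilpotent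
      (trR C⟨P⟩ P (MonoidAlgebra.single x (1 : Res M)) * bi M C⟨P⟩ c - r • bi M C⟨P⟩ c) := by
  letI := Fintype.ofFinite C⟨P⟩
  haveI := charP_res s.modular
  have hcB := s.pair.1.2
  have hPC : P ≤ C⟨P⟩ := s.toAbPair.le_centralizer le_rfl
  have hd := (s.toAbPair.down (le_refl P)).defect
  rw [s.toAbPair.fw_top] at hd
  obtain ⟨g, hg, S, hS⟩ := hd
  obtain ⟨hnsmall, hcent⟩ := (isDefectClass_iff s.modular hcB g).1 hg
  obtain ⟨χ, hχ⟩ := IsPBlock.nonempty s.modular hcB
  have hcardS : Nat.card (S : Subgroup (Subgroup.centralizer ({g} : Set C⟨P⟩))) = p := by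
    rw [← Subgroup.card_map_of_injective (Subgroup.centralizer ({g} : Set C⟨P⟩)).subtype_injective, ← hS,
      Nat.card_congr (Subgroup.subgroupOfEquivOfLe hPC).toEquiv, hp]
  set n₀ := (P.subgroupOf C⟨P⟩).relIndex (Subgroup.centralizer ({g} : Set C⟨P⟩)) with hn₀
  have hgg : ∀ y ∈ P, y * (g : G) = (g : G) * y := fun y hy => Subgroup.mem_centralizer_iff.1 g.2 y hy
  have hPg : P.subgroupOf C⟨P⟩ ≤ Subgroup.centralizer ({g} : Set C⟨P⟩) := fun y hy =>
    Subgroup.mem_centralizer_singleton_iff.2 (Subtype.ext (hgg _ hy))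
  have hn0 : ¬ p ∣ n₀ := by
    have hSidx := S.not_dvd_index
    rwa [hn₀, hS, Subgroup.relIndex, Subgroup.subgroupOf, Subgroup.comap_map_eq_self_of_injective
      (Subgroup.subtype_injective _)]
  -- the fibres of the orbit map
  have htr : trR C⟨P⟩ P (MonoidAlgebra.single (g : G) (1 : Res M)) =
      (n₀ : Res M) • rx M C⟨P⟩ (cls ℂ g) := by
    refine fn_ext fun x => ?_
    simp only [trR, fn_sum, cj_single', fn_single, fn_smul, Finset.sum_boole]
    by_cases hx : x ∈ C⟨P⟩
    swap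
    · rw [suppOn_rx _ x hx, mul_zero, Finset.card_eq_zero.2, Nat.cast_zero]
      exact Finset.filter_eq_empty_iff.2 fun q _ h => hx (h ▸ mul_mem (mul_mem q.out.2 g.2) (inv_mem q.out.2))
    rw [fn_rx_mem _ hx, fn_cls]
    split_ifs with hcj
    · rw [res_one, mul_one]
      congr 1
      obtain ⟨h₀, hh₀⟩ := isConj_iff.1 hcj
      rw [hn₀, Subgroup.relIndex, Subgroup.index_eq_card]
      symm
      have hcount : ∀ {q' : C⟨P⟩ ⧸ P.subgroupOf C⟨P⟩ → Prop} (F : Finset (C⟨P⟩ ⧸ P.subgroupOf C⟨P⟩)),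
          (∀ q, q ∈ F ↔ q' q) → F.card = Nat.card {q // q' q} := fun F hF => by
        rw [← Nat.card_eq_finsetCard]
        exact Nat.card_congr (Equiv.subtypeEquivRight hF)
      rw [hcount (q' := fun q => ((q.out : C⟨P⟩) : G) * g * ((q.out : C⟨P⟩) : G)⁻¹ = x) _ fun q => by simp]
      have hfix : ∀ z : C⟨P⟩, ∀ q : C⟨P⟩ ⧸ P.subgroupOf C⟨P⟩, q = (z : C⟨P⟩ ⧸ P.subgroupOf C⟨P⟩) →
          ((q.out : C⟨P⟩) : G) * g * ((q.out : C⟨P⟩) : G)⁻¹ = ((z * g * z⁻¹ : C⟨P⟩) : G) := by
        rintro z q rfl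
        obtain ⟨⟨w, hw⟩, he⟩ := QuotientGroup.mk_out_eq_mul (P.subgroupOf C⟨P⟩) z
        have hwg := hgg _ (Subgroup.mem_subgroupOf.1 hw)
        rw [he]
        simp only [Subgroup.coe_mul, Subgroup.coe_inv, mul_inv_rev]
        calc (z : G) * w * g * ((w : G)⁻¹ * (z : G)⁻¹) = z * ((w : G) * g) * (w : G)⁻¹ * (z : G)⁻¹ := by group
          _ = z * g * (z : G)⁻¹ := by rw [hwg]; group
      refine Nat.card_congr (Equiv.ofBijective (fun q : _ ⧸ (P.subgroupOf C⟨P⟩).subgroupOf
          (Subgroup.centralizer ({g} : Set C⟨P⟩)) =>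
        (⟨((h₀ * (q.out : Subgroup.centralizer ({g} : Set C⟨P⟩)) : C⟨P⟩) :
            C⟨P⟩ ⧸ P.subgroupOf C⟨P⟩), ?_⟩ : {q : C⟨P⟩ ⧸ P.subgroupOf C⟨P⟩ //
              ((q.out : C⟨P⟩) : G) * g * ((q.out : C⟨P⟩) : G)⁻¹ = x})) ⟨?_, ?_⟩)
      · rw [hfix _ _ rfl]
        have hcz := Subgroup.mem_centralizer_singleton_iff.1 q.out.2
        have : h₀ * (q.out : Subgroup.centralizer ({g} : Set C⟨P⟩)) * g *
            (h₀ * (q.out : Subgroup.centralizer ({g} : Set C⟨P⟩)))⁻¹ = (⟨x, hx⟩ : C⟨P⟩) := by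
          have e1 : ((q.out : Subgroup.centralizer ({g} : Set C⟨P⟩)) : C⟨P⟩) * g *
              ((q.out : Subgroup.centralizer ({g} : Set C⟨P⟩)) : C⟨P⟩)⁻¹ = g := by
            rw [mul_inv_eq_iff_eq_mul]
            first | exact hcz | exact hcz.symm
          rw [← hh₀]
          conv_rhs => rw [← e1]
          group
        exact congrArg Subtype.val this
      · intro q r h
        have h' := congrArg Subtype.val h
        simp only [QuotientGroup.eq, Subgroup.mem_subgroupOf] at h'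
        rw [← QuotientGroup.out_eq' q, ← QuotientGroup.out_eq' r, QuotientGroup.eq,
          Subgroup.mem_subgroupOf, Subgroup.mem_subgroupOf]
        simpa [mul_assoc] using h'
      · rintro ⟨q, hq⟩
        have hmem : h₀⁻¹ * (q.out : C⟨P⟩) ∈ Subgroup.centralizer ({g} : Set C⟨P⟩) := by
          refine Subgroup.mem_centralizer_singleton_iff.2 ?_
          have hq' : (q.out : C⟨P⟩) * g * (q.out : C⟨P⟩)⁻¹ = h₀ * g * h₀⁻¹ := by
            rw [hh₀]; exact Subtype.ext hq
          calc h₀⁻¹ * q.out * g = h₀⁻¹ * ((q.out : C⟨P⟩) * g * (q.out : C⟨P⟩)⁻¹) * q.out := by group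
            _ = g * (h₀⁻¹ * q.out) := by rw [hq']; group
        refine ⟨((⟨_, hmem⟩ : Subgroup.centralizer ({g} : Set C⟨P⟩)) : _ ⧸ _), Subtype.ext ?_⟩
        obtain ⟨⟨w, hw⟩, he⟩ := QuotientGroup.mk_out_eq_mul
          ((P.subgroupOf C⟨P⟩).subgroupOf (Subgroup.centralizer ({g} : Set C⟨P⟩)))
          (⟨_, hmem⟩ : Subgroup.centralizer ({g} : Set C⟨P⟩))
        show ((h₀ * _ : C⟨P⟩) : C⟨P⟩ ⧸ P.subgroupOf C⟨P⟩) = q
        rw [he]
        conv_rhs => rw [← QuotientGroup.out_eq' q]
        rw [QuotientGroup.eq]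
        have hw' := (P.subgroupOf C⟨P⟩).inv_mem (Subgroup.mem_subgroupOf.1 hw)
        simpa [mul_assoc] using hw'
    · rw [res_zero, mul_zero, Finset.card_eq_zero.2, Nat.cast_zero]
      refine Finset.filter_eq_empty_iff.2 fun q _ h => hcj (isConj_iff.2 ⟨q.out, Subtype.ext ?_⟩)
      simpa using h
  obtain ⟨L, hL⟩ := isNilpotent_sub_scalar s.modular hcB (isCentralFn_cls g) (integral_cls g) hχ
  set r := res M (omega (χ : C⟨P⟩ → ℂ) (cls ℂ g))
  have hrne : r ≠ 0 := fun h => by
    have hm := omega_mem_place s.modular χ (isCentralFn_cls g) (integral_cls (M := M) g)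
    have hsm := (res_eq_zero_iff hm).1 h
    rw [omega_cls_irr] at hsm
    exact hcent χ hχ hsm
  refine ⟨g, (n₀ : Res M) * r, g.2, mul_ne_zero (fun h => hn0 ((CharP.cast_eq_zero_iff (Res M) p n₀).1 h)) hrne, ?_⟩
  rw [htr, smul_mul_assoc, mul_smul, ← smul_sub]
  refine IsNilpotent.smul ?_ _
  have hemb : ∀ (y : MonoidAlgebra (Res M) C⟨P⟩) (j : ℕ), emb C⟨P⟩ (y ^ (j + 1)) = emb C⟨P⟩ y ^ (j + 1) := by
    intro y j
    induction j with
    | zero => rw [pow_one, pow_one]
    | succ j ih => rw [pow_succ, emb_mul, ih, ← pow_succ]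
  refine ⟨L + 1, ?_⟩
  have hkey : rx M C⟨P⟩ (cls ℂ g) * bi M C⟨P⟩ c - r • bi M C⟨P⟩ c =
      emb C⟨P⟩ (red M (cls ℂ g) * red M (blockElem c) - r • red M (blockElem c)) := by
    refine fn_ext fun x => ?_
    rw [fn_sub, fn_smul, bi_eq_rx, ← rx_mul (integral_cls g) (integral_blockElem s.modular hcB)]
    by_cases hx : x ∈ C⟨P⟩
    · rw [fn_emb_mem _ _ hx, fn_rx_mem _ hx, fn_rx_mem _ hx, fn_sub, fn_smul,
        ← red_mul (integral_cls g) (integral_blockElem s.modular hcB), fn_red, fn_red]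
    · rw [fn_emb_not_mem _ _ hx, suppOn_rx _ x hx, suppOn_rx _ x hx, mul_zero, sub_zero]
  rw [hkey, ← hemb, pow_succ, hL, zero_mul, emb_zero]

/-- **The central element.** -/
theorem exists_central_chain (s : FreePair p M B P T c) (hp : Nat.card P = p) {m : ℕ}
    (hm : C⟨P⟩.relIndex T * m + 1 = p) :
    ∃ z : MonoidAlgebra (Res M) G, red M (blockElem B) * z = z ∧ (∀ a, z * a = a * z) ∧
      IsNilpotent z ∧ z ^ m ≠ 0 := by
  have hM := s.modular
  haveI := charP_res hM
  haveI : CharP (MonoidAlgebra (Res M) G) p :=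
    charP_of_injective_algebraMap (FaithfulSMul.algebraMap_injective (Res M) _) p
  letI := Fintype.ofFinite C⟨P⟩
  have hpP : IsPGroup p P := s.pair.1.1
  have hcB := s.pair.1.2
  have hPC : P ≤ C⟨P⟩ := s.toAbPair.le_centralizer le_rfl
  obtain ⟨-, hCT⟩ := s.stab.self_le hM hcB
  set β := bi M C⟨P⟩ c with hβ
  have hββ : β * β = β := bi_mul_self hM hcB
  have hβs : SuppOn C⟨P⟩ β := suppOn_bi c
  have hβi : InvOn C⟨P⟩ β := invOn_bi c
  set e := C⟨P⟩.relIndex T with he
  -- a generator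
  haveI : Nontrivial P := Finite.one_lt_card_iff_nontrivial.1 (hp ▸ (Fact.out : p.Prime).one_lt)
  obtain ⟨u₀, hu₀⟩ := exists_ne (1 : P)
  set u : G := (u₀ : G) with hu
  have hord : orderOf u = p := by
    rw [hu, Subgroup.orderOf_coe]
    exact orderOf_eq_prime (hp ▸ pow_card_eq_one') hu₀
  have hgen : ∀ y ∈ P, ∃ a : ZMod p, u ^ a.val = y := fun y hy => by
    have h1 : (⟨y, hy⟩ : P) ∈ Subgroup.zpowers u₀ := mem_zpowers_of_prime_card hp hu₀
    obtain ⟨n, hn⟩ := mem_powers_iff_mem_zpowers.2 h1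
    refine ⟨(n : ZMod p), ?_⟩
    rw [ZMod.val_natCast, ← hord, pow_mod_orderOf]
    exact congrArg Subtype.val hn
  let ι : Multiplicative (ZMod p) →* G :=
    { toFun := fun a => u ^ (Multiplicative.toAdd a).val
      map_one' := by simp
      map_mul' := fun a b => by
        rw [← pow_add, toAdd_mul, ZMod.val_add]
        conv_rhs => rw [← pow_mod_orderOf, hord] }
  have hιP : ∀ a, ι a ∈ P := fun a => P.pow_mem u₀.2 _
  let Φ : MonoidAlgebra (Res M) (Multiplicative (ZMod p)) →ₐ[Res M] MonoidAlgebra (Res M) G :=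
    MonoidAlgebra.mapDomainAlgHom (Res M) (Res M) ι
  have hΦs : ∀ a r, Φ (MonoidAlgebra.single a r) = MonoidAlgebra.single (ι a) r := fun a r => by
    simp [Φ, MonoidAlgebra.mapDomain_single]
  have hΦsum : ∀ w, Φ w = ∑ a, MonoidAlgebra.single (ι a) (fn w a) := fun w => by
    conv_lhs => rw [eq_sum_single w, map_sum]
    simp only [hΦs]
  have hΦsupp : ∀ w, SuppOn C⟨P⟩ (Φ w) := fun w => by
    rw [hΦsum]; exact SuppOn.sum _ fun a _ => suppOn_single (hPC (hιP a)) _
  have hΦinv : ∀ w, InvOn C⟨P⟩ (Φ w) := fun w => by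
    rw [hΦsum]; exact InvOn.sum _ fun a _ => invOn_single (fun h hh =>
      (Subgroup.mem_centralizer_iff.1 hh _ (hιP a)).symm) _
  -- the exponents of the inertial quotient
  have hκ : ∀ t : T, ∃ a : ZMod p, u ^ a.val = (t : G) * u * (t : G)⁻¹ := fun t =>
    hgen _ ((Subgroup.mem_normalizer_iff.1 ((s.stab _).1 t.2).1 u).1 u₀.2)
  choose κ hκu using hκ
  have hinju : ∀ a b : ZMod p, u ^ a.val = u ^ b.val → a = b := fun a b h => by
    rw [pow_eq_pow_iff_modEq, hord] at h
    exact ZMod.val_injective p (Nat.ModEq.eq_of_lt_of_lt h a.val_lt b.val_lt)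
  have hconj : ∀ (t : T) (a : ZMod p), (t : G) * u ^ a.val * (t : G)⁻¹ = u ^ (κ t * a).val := by
    intro t a
    rw [← conj_pow, ← hκu t, ← pow_mul, ZMod.val_mul, ← pow_mod_orderOf u ((κ t).val * a.val), hord]
  have hκmul : ∀ a b : T, κ (a * b) = κ a * κ b := fun a b => hinju _ _ (by
    rw [hκu, ← hconj a (κ b), hκu b, Subgroup.coe_mul]; group)
  have hu1 : u ≠ 1 := fun h => hu₀ (Subtype.ext h)
  have hκ0 : ∀ t, κ t ≠ 0 := fun t h => hu1 (by
    have := hκu t
    rw [h, ZMod.val_zero, pow_zero] at this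
    exact conj_eq_one_iff.1 this.symm)
  have hκker : ∀ t : T, κ t = 1 ↔ (t : G) ∈ C⟨P⟩ := fun t => by
    constructor
    · intro h
      refine s.free t t.2 u u₀.2 hu1 ?_
      rw [← hκu t, h, ZMod.val_one, pow_one]
    · intro h
      refine hinju _ _ ?_
      rw [hκu, ZMod.val_one, pow_one, ← Subgroup.mem_centralizer_iff.1 h u u₀.2, mul_inv_cancel_right]
  set Aset := Finset.univ.image κ with hA
  have hAcard : Aset.card = e := by
    rw [← Finset.card_univ (α := T ⧸ C⟨P⟩.subgroupOf T) |>.trans (show _ = e by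
      rw [← Nat.card_eq_fintype_card]; rfl)]
    symm
    refine Finset.card_bij (fun q _ => κ q.out) (fun q _ => Finset.mem_image_of_mem _ (Finset.mem_univ _))
      (fun q _ r _ h => ?_) (fun a ha => ?_)
    · rw [← QuotientGroup.out_eq' q, ← QuotientGroup.out_eq' r, QuotientGroup.eq,
        Subgroup.mem_subgroupOf, ← hκker]
      refine mul_left_cancel₀ (hκ0 q.out) ?_
      rw [← hκmul, mul_inv_cancel_left, mul_one, h]
    · obtain ⟨t, -, rfl⟩ := Finset.mem_image.1 ha
      obtain ⟨⟨w, hw⟩, he'⟩ := QuotientGroup.mk_out_eq_mul (C⟨P⟩.subgroupOf T) t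
      refine ⟨(t : T ⧸ C⟨P⟩.subgroupOf T), Finset.mem_univ _, ?_⟩
      rw [he', hκmul, (hκker w).2 hw, mul_one]
  -- the invariant polynomial
  let X : ZMod p → MonoidAlgebra (Res M) (Multiplicative (ZMod p)) := fun a =>
    MonoidAlgebra.single (Multiplicative.ofAdd a) (1 : Res M) - 1
  let S := ∏ a ∈ Aset, X a
  have hinvv : ∀ t : T, cj (t : G) (Φ S) = Φ S := fun t => by
    have hX : ∀ a, cjAlg (t : G) (Φ (X a)) = Φ (X (κ t * a)) := fun a => by
      simp only [X, map_sub, map_one, hΦs]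
      show cj (t : G) (MonoidAlgebra.single (u ^ a.val) 1) - 1 = MonoidAlgebra.single (u ^ (κ t * a).val) 1 - 1
      rw [cj_single', hconj]
    let σ : ZMod p ≃ ZMod p := Equiv.mulLeft₀ (κ t) (hκ0 t)
    show cjAlg (t : G) (Φ S) = Φ S
    let Ψ : MonoidAlgebra (Res M) (Multiplicative (ZMod p)) →ₐ[Res M]
        MonoidAlgebra (Res M) (Multiplicative (ZMod p)) :=
      MonoidAlgebra.mapDomainAlgHom (Res M) (Res M)
        (AddMonoidHom.toMultiplicative (AddMonoidHom.mulLeft (κ t)))
    have hΨs : ∀ b r, Ψ (MonoidAlgebra.single b r) =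
        MonoidAlgebra.single (Multiplicative.ofAdd (κ t * Multiplicative.toAdd b)) r := fun b r => by
      simp [Ψ, MonoidAlgebra.mapDomain_single]
    have hΨX : ∀ a, Ψ (X a) = X (κ t * a) := fun a => by
      simp only [X, map_sub, map_one, hΨs, toAdd_ofAdd]
    have hΨ : ∀ w, cjAlg (t : G) (Φ w) = Φ (Ψ w) := fun w => by
      rw [eq_sum_single w, map_sum, map_sum, map_sum, map_sum]
      refine Finset.sum_congr rfl fun b _ => ?_
      rw [hΦs, hΨs, hΦs]
      show cj (t : G) (MonoidAlgebra.single (u ^ (Multiplicative.toAdd b).val) _) =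
        MonoidAlgebra.single (u ^ (κ t * Multiplicative.toAdd b).val) _
      rw [cj_single', hconj]
    rw [hΨ, map_prod Ψ]
    congr 1
    refine Finset.prod_nbij (fun a => κ t * a) (fun a ha => ?_) (fun a _ b _ h => mul_left_cancel₀ (hκ0 t) h)
      (fun a ha => ?_) (fun a _ => hΨX a)
    · obtain ⟨t', -, rfl⟩ := Finset.mem_image.1 ha
      exact Finset.mem_image.2 ⟨t * t', Finset.mem_univ _, hκmul t t'⟩
    · obtain ⟨t', -, rfl⟩ := Finset.mem_image.1 ha
      refine ⟨κ (t⁻¹ * t'), Finset.mem_image_of_mem _ (Finset.mem_univ _), ?_⟩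
      show κ t * κ (t⁻¹ * t') = κ t'
      rw [← hκmul, mul_inv_cancel_left]
  -- its leading term
  haveI : CharP (MonoidAlgebra (Res M) (Multiplicative (ZMod p))) p :=
    charP_of_injective_algebraMap (FaithfulSMul.algebraMap_injective (Res M) _) p
  obtain ⟨W, hW⟩ : ∃ W, S ^ m * W = X 1 ^ (p - 1) := by
    set U := MonoidAlgebra.single (Multiplicative.ofAdd (1 : ZMod p)) (1 : Res M) with hU
    have hUpow : ∀ n : ℕ, U ^ n = MonoidAlgebra.single (Multiplicative.ofAdd (n : ZMod p)) 1 := fun n => by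
      rw [hU, MonoidAlgebra.single_pow, one_pow, ← ofAdd_nsmul, nsmul_one]
    let geo : ZMod p → MonoidAlgebra (Res M) (Multiplicative (ZMod p)) := fun a =>
      ∑ i ∈ Finset.range a.val, U ^ i
    have hfac : ∀ a, X a = geo a * X 1 := fun a => by
      show _ = geo a * (U - 1)
      rw [geom_sum_mul, hUpow, ZMod.natCast_zmod_val]
    have hXp : X 1 ^ p = 0 := by
      show (U - 1) ^ p = 0
      rw [sub_pow_char, one_pow, hUpow, ZMod.natCast_self, ofAdd_zero,
        ← MonoidAlgebra.one_def, sub_self]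
    have hgeo : ∀ a ∈ Aset, IsUnit (geo a) := fun a ha => by
      have hnil : IsNilpotent (geo a - algebraMap (Res M) _ (a.val : Res M)) := by
        have : geo a - algebraMap (Res M) _ (a.val : Res M) = ∑ i ∈ Finset.range a.val, (U ^ i - 1) := by
          rw [Finset.sum_sub_distrib, Finset.sum_const, Finset.card_range, map_natCast, nsmul_one]
        rw [this]
        refine isNilpotent_sum fun i _ => ?_
        rw [← geom_sum_mul]
        exact (Commute.all _ _).isNilpotent_mul_left ⟨p, hXp⟩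
      have hunit : IsUnit (algebraMap (Res M) (MonoidAlgebra (Res M) (Multiplicative (ZMod p)))
          (a.val : Res M)) := by
        refine (IsUnit.mk0 _ fun h => ?_).map _
        obtain ⟨t, -, rfl⟩ := Finset.mem_image.1 ha
        rw [CharP.cast_eq_zero_iff (Res M) p] at h
        exact hκ0 t ((ZMod.val_eq_zero _).1 (Nat.eq_zero_of_dvd_of_lt h (κ t).val_lt))
      simpa using hnil.isUnit_add_left_of_commute hunit (Commute.all _ _)
    obtain ⟨v, hv⟩ : IsUnit ((∏ a ∈ Aset, geo a) ^ m) :=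
      (IsUnit.prod_iff.2 hgeo).pow m
    refine ⟨↑v⁻¹, ?_⟩
    show (∏ a ∈ Aset, X a) ^ m * _ = _
    rw [Finset.prod_congr rfl fun a _ => hfac a, Finset.prod_mul_distrib, Finset.prod_const, hAcard,
      mul_pow, ← hv, ← pow_mul, show e * m = p - 1 by omega, mul_right_comm, v.mul_inv, one_mul]
  -- the lift
  obtain ⟨x, r₀, hx, hr₀, hnil₀⟩ := exists_single_trace s hp
  set w₀ := MonoidAlgebra.single x (1 : Res M) with hw₀
  have hw₀i : InvOn P w₀ := invOn_single (fun y hy => Subgroup.mem_centralizer_iff.1 hx y hy) _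
  set a := Φ S * w₀ * β with ha
  have hai : InvOn P a := (((hΦinv S).mono hPC).mul hw₀i).mul (hβi.mono hPC)
  have has : SuppOn C⟨P⟩ a := ((hΦsupp S).mul (suppOn_single hx _)).mul hβs
  set eb := red M (blockElem B) with heb
  have hebc : IsCentralFn eb := (isCentralFn_blockElem B).red
  set z := eb * trR ⊤ P a with hz
  have hzc : IsCentralFn z := hebc.mul (invOn_top_iff.1 (invOn_trR hai))
  have hebr : br P eb * β = β := ((isBrauerPairOf_iff_br hM B P c).1 s.pair).2.2
  -- the Brauer image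
  set γ := trR T P w₀ with hγ
  have hcjβ : ∀ t : T, cj (t : G) β = β := fun t =>
    (stabilizes_iff_of_normalizer hM hcB ((s.stab _).1 t.2).1).1 ((s.stab _).1 t.2).2
  have hzero : ∀ n ∈ Subgroup.normalizer (P : Set G), n ∉ T → cj n β * β = 0 := by
    intro n hn hnT
    have hinv : ∀ n ∈ Subgroup.normalizer (P : Set G), InvOn C⟨P⟩ (cj n β) := fun n hn =>
      hβi.cj fun k hk => by
        have := centralizer_le_normalizer_centralizer (inv_mem hn) le_rfl
        simpa using ((Subgroup.mem_normalizer_iff.1 this) k).1 hk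
    have hsupp : ∀ n ∈ Subgroup.normalizer (P : Set G), SuppOn C⟨P⟩ (cj n β) := fun n hn g hg => by
      rw [fn_cj]
      refine hβs _ fun h => hg ?_
      have := centralizer_le_normalizer_centralizer hn le_rfl
      simpa [mul_assoc] using ((Subgroup.mem_normalizer_iff.1 this) _).1 h
    have hid : ∀ n, cj n β * cj n β = cj n β := fun n => by rw [← cj_mul, hββ]
    rcases mul_bi_eq_or hM (hsupp n hn) (hinv n hn) (hid n) hcB with h | h
    swap
    · exact h
    rcases mul_bi_eq_or hM (hsupp _ (inv_mem hn)) (hinv _ (inv_mem hn)) (hid _) hcB with h' | h'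
    · exfalso
      refine hnT ((s.stab n).2 ⟨hn, (stabilizes_iff_of_normalizer hM hcB hn).2 ?_⟩)
      have h'' : cj n (cj n⁻¹ β * β) = cj n β := congrArg (cj n) h'
      rw [cj_mul, cj_cj, mul_inv_cancel, cj_one] at h''
      rw [← h'', ← (hinv n hn).comm hβs]
      exact h
    · have h'' : cj n (cj n⁻¹ β * β) = 0 := by rw [h', cj_zero]
      rw [cj_mul, cj_cj, mul_inv_cancel, cj_one] at h''
      rwa [(hinv n hn).comm hβs]
  have hbr : br P z * β = Φ S * γ * β := by
    have htop : InvOn P (trR ⊤ P a) := (invOn_trR hai).mono le_top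
    have hcomm : br P (trR ⊤ P a) * β = β * br P (trR ⊤ P a) :=
      (invOn_br ((invOn_trR hai).mono le_top) fun k hk y hy => by
        rw [← Subgroup.mem_centralizer_iff.1 hk y hy, mul_inv_cancel_right]; exact hy).comm hβs
    rw [hz, br_mul hpP ((invOn_top_iff.2 hebc).mono le_top) htop, mul_assoc, hcomm, ← mul_assoc,
      hebr, ← hcomm, br_trR_top hpP hai has, Finset.sum_mul, hγ, trR, Finset.mul_sum, Finset.sum_mul]
    have hterm : ∀ t : T, cj (t : G) a * β = Φ S * cj (t : G) w₀ * β := fun t => by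
      rw [ha, cj_mul, cj_mul, hinvv, hcjβ, mul_assoc _ β β, hββ]
    rw [← Finset.sum_filter_of_ne (p := fun q : (⊤ : Subgroup G) ⧸ P.subgroupOf ⊤ =>
      ((q.out : (⊤ : Subgroup G)) : G) ∈ T) (fun q hq hne => ?_)]
    swap
    · by_contra hnT
      refine hne ?_
      rw [ha, cj_mul, mul_assoc (cj _ (Φ S * w₀)), hzero _ (Finset.mem_filter.1 hq).2 hnT, mul_zero]
    symm
    refine Finset.sum_bij (fun q _ => (((⟨((q.out : T) : G), trivial⟩ : (⊤ : Subgroup G))) :
        (⊤ : Subgroup G) ⧸ P.subgroupOf ⊤)) (fun q _ => ?_) (fun q _ r _ h => ?_) (fun q hq => ?_)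
      (fun q _ => ?_)
    · obtain ⟨⟨w, hw⟩, he'⟩ := QuotientGroup.mk_out_eq_mul (P.subgroupOf ⊤)
        (⟨((q.out : T) : G), trivial⟩ : (⊤ : Subgroup G))
      have hT : ((q.out : T) : G) * (w : G) ∈ T := T.mul_mem (q.out : T).2 (hCT (hPC (Subgroup.mem_subgroupOf.1 hw)))
      simp only [Finset.mem_filter, Finset.mem_univ, true_and, he', Subgroup.coe_mul]
      exact ⟨((s.stab _).1 hT).1, hT⟩
    · rw [QuotientGroup.eq, Subgroup.mem_subgroupOf] at h
      rw [← QuotientGroup.out_eq' q, ← QuotientGroup.out_eq' r, QuotientGroup.eq, Subgroup.mem_subgroupOf]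
      exact h
    · have hT := (Finset.mem_filter.1 hq).2
      refine ⟨((⟨_, hT⟩ : T) : T ⧸ P.subgroupOf T), Finset.mem_univ _, ?_⟩
      obtain ⟨⟨w, hw⟩, he'⟩ := QuotientGroup.mk_out_eq_mul (P.subgroupOf T) (⟨_, hT⟩ : T)
      conv_rhs => rw [← QuotientGroup.out_eq' q]
      rw [QuotientGroup.eq, Subgroup.mem_subgroupOf, he']
      simpa [mul_assoc] using P.inv_mem (Subgroup.mem_subgroupOf.1 hw)
    · rw [cj_mk_out (R := ⊤) hai]
      exact (hterm q.out).symm
  -- the unit factor
  have hCi : InvOn C⟨P⟩ γ := ((invOn_trR hw₀i).mono hCT)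
  have hγs : SuppOn C⟨P⟩ γ := SuppOn.sum _ fun q _ g hg => by
    rw [fn_cj]
    refine suppOn_single hx _ _ fun h => hg ?_
    have := centralizer_le_normalizer_centralizer ((s.stab _).1 (q.out : T).2).1 le_rfl
    simpa [mul_assoc] using ((Subgroup.mem_normalizer_iff.1 this) _).1 h
  have hcγβ : Commute γ β := hCi.comm hβs
  have hγβ : IsNilpotent (γ * β - ((e : Res M) * r₀) • β) := by
    have h1 : γ = trR T C⟨P⟩ (trR C⟨P⟩ P w₀) := (trR_trR hPC hCT hw₀i).symm
    set d := trR C⟨P⟩ P w₀ * β - r₀ • β with hd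
    have hdi : InvOn C⟨P⟩ d := by
      refine invOn_iff.2 fun k hk => ?_
      rw [hd, sub_eq_add_neg, ← neg_one_smul (Res M) (r₀ • β), cj_add', cj_smul', cj_smul', cj_mul,
        invOn_iff.1 (invOn_trR hw₀i) k hk, invOn_iff.1 hβi k hk]
    have hds : SuppOn C⟨P⟩ d := fun g hg => by
      rw [hd, fn_sub, fn_smul, hβs g hg, mul_zero, sub_zero]
      exact ((SuppOn.sum _ fun q _ g hg => by
        rw [fn_cj]
        exact suppOn_single hx _ _ fun h => hg (by
          simpa [mul_assoc] using C⟨P⟩.mul_mem (C⟨P⟩.mul_mem (q.out : C⟨P⟩).2 h)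
            (C⟨P⟩.inv_mem (q.out : C⟨P⟩).2))).mul hβs) g hg
    have hsum : γ * β - ((e : Res M) * r₀) • β = ∑ q : T ⧸ C⟨P⟩.subgroupOf T, cj ((q.out : T) : G) d := by
      have he' : e • r₀ • β = ∑ q : T ⧸ C⟨P⟩.subgroupOf T, r₀ • β := by
        rw [Finset.sum_const, Finset.card_univ, ← Nat.card_eq_fintype_card]
        rfl
      rw [h1, trR, Finset.sum_mul, mul_smul, Nat.cast_smul_eq_nsmul, he', ← Finset.sum_sub_distrib]
      refine Finset.sum_congr rfl fun q _ => ?_
      show _ = cjAlg _ d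
      rw [hd, map_sub, map_smul]
      show _ = cj _ (_ * β) - r₀ • cj _ β
      rw [cj_mul, hcjβ]
    rw [hsum]
    have hsd : ∀ q : T ⧸ C⟨P⟩.subgroupOf T, SuppOn C⟨P⟩ (cj ((q.out : T) : G) d) ∧
        InvOn C⟨P⟩ (cj ((q.out : T) : G) d) := fun q => by
      have hN := ((s.stab _).1 (q.out : T).2).1
      refine ⟨fun g hg => ?_, hdi.cj fun k hk => ?_⟩
      · rw [fn_cj]
        refine hds _ fun h => hg ?_
        have := centralizer_le_normalizer_centralizer hN le_rfl
        simpa [mul_assoc] using ((Subgroup.mem_normalizer_iff.1 this) _).1 h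
      · have := centralizer_le_normalizer_centralizer (inv_mem hN) le_rfl
        simpa using ((Subgroup.mem_normalizer_iff.1 this) k).1 hk
    exact Commute.isNilpotent_sum (fun q _ => hnil₀.map (cjAlg (A := Res M) ((q.out : T) : G)))
      (fun q r _ _ => (hsd q).2.comm (hsd r).1)
  refine ⟨z, by rw [hz, ← mul_assoc, heb, IBr.red_blk_idem hM s.pair.2.1], fun b => hzc.comm b, ?_, ?_⟩
  · -- nilpotency
    obtain ⟨χ, hχ⟩ := IsPBlock.nonempty hM s.pair.2.1
    obtain ⟨Y, hYc, hYi, hYe, hYv⟩ := RankOneSmall.exists_lift hM s.pair.2.1 hzc (by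
      rw [hz, ← mul_assoc, IBr.red_blk_idem hM s.pair.2.1])
    have hn := isNilpotent_sub_scalar hM s.pair.2.1 hYc hYi hχ
    set r := res M (omega (χ : G → ℂ) Y)
    rw [hYv, hzc.comm, show red M (blockElem B) * z = z by
      rw [hz, ← mul_assoc, heb, IBr.red_blk_idem hM s.pair.2.1]] at hn
    by_cases hr : r = 0
    · rwa [hr, zero_smul, sub_zero] at hn
    exfalso
    obtain ⟨L, hL⟩ := hn
    set d := z - r • red M (blockElem B) with hd
    have hdc : InvOn P d := by
      refine invOn_iff.2 fun k hk => ?_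
      show cjAlg k d = d
      rw [hd, map_sub, map_smul]
      show cj k z - r • cj k _ = _
      rw [invOn_iff.1 ((invOn_top_iff.2 hzc).mono le_top) k hk,
        invOn_iff.1 ((invOn_top_iff.2 hebc).mono le_top) k hk]
    let bh := brHom (A := Res M) hpP
    have hpw : bh ⟨d, hdc⟩ ^ L = 0 := by
      rw [← map_pow, show (⟨d, hdc⟩ : invAlg (Res M) P) ^ L = 0 from Subtype.ext (by
        rw [SubmonoidClass.coe_pow]; exact hL), map_zero]
    have hbd : br P d * β = br P z * β - r • β := by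
      have he : d = z + (-r) • red M (blockElem B) := by rw [hd, neg_smul, sub_eq_add_neg]
      rw [he, br_add', br_smul', add_mul, smul_mul_assoc, hebr, neg_smul, ← sub_eq_add_neg]
    have hcd : Commute (br P d) β := (invOn_br ((invOn_top_iff.2 ((hzc.sub (hebc.smul r)))).mono le_top)
      fun k hk y hy => by
        rw [← Subgroup.mem_centralizer_iff.1 hk y hy, mul_inv_cancel_right]; exact hy).comm hβs
    have hn1 : IsNilpotent (br P z * β - r • β) := by
      rw [← hbd]
      exact hcd.isNilpotent_mul_right ⟨L, hpw⟩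
    have hn2 : IsNilpotent (br P z * β) := by
      rw [hbr, mul_assoc]
      refine Commute.isNilpotent_mul_right ((hΦinv S).comm (hγs.mul hβs)) ?_
      have hne : Aset.Nonempty := ⟨κ 1, Finset.mem_image_of_mem _ (Finset.mem_univ _)⟩
      obtain ⟨a₀, ha₀⟩ := hne
      refine (IsNilpotent.map ?_ Φ)
      show IsNilpotent (∏ a ∈ Aset, X a)
      rw [← Finset.mul_prod_erase _ _ ha₀]
      refine (Commute.all _ _).isNilpotent_mul_right ⟨p, ?_⟩
      show (MonoidAlgebra.single _ (1 : Res M) - 1) ^ p = 0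
      rw [sub_pow_char, one_pow, MonoidAlgebra.single_pow, one_pow,
        ← ofAdd_nsmul, nsmul_eq_mul, ZMod.natCast_self, zero_mul, ofAdd_zero, ← MonoidAlgebra.one_def, sub_self]
    have hcb : Commute (br P z * β) (br P z * β - r • β) := by
      refine (Commute.refl _).sub_right (Commute.smul_right ?_ r)
      have : Commute (br P z) β := (invOn_br ((invOn_top_iff.2 hzc).mono le_top) fun k hk y hy => by
        rw [← Subgroup.mem_centralizer_iff.1 hk y hy, mul_inv_cancel_right]; exact hy).comm hβs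
      exact this.mul_left (Commute.refl β)
    have := hcb.isNilpotent_sub hn2 hn1
    rw [sub_sub_cancel] at this
    obtain ⟨j, hj⟩ := this
    rw [smul_pow] at hj
    have hβj : β ^ (j + 1) = β := IsIdempotentElem.pow_succ_eq j hββ
    have h0 : r ^ (j + 1) • β = 0 := by
      rw [← hβj, pow_succ r, pow_succ β, ← smul_mul_smul_comm, hj, zero_mul]
    rcases smul_eq_zero.1 h0 with h | h
    · exact hr (eq_zero_of_pow_eq_zero h)
    · exact bi_ne_zero hM hcB h
  · -- the power
    intro hzm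
    have hzP : InvOn P z := (invOn_top_iff.2 hzc).mono le_top
    let bh := brHom (A := Res M) hpP
    have hbm : (br P z) ^ m = 0 := by
      show bh ⟨z, hzP⟩ ^ m = 0
      rw [← map_pow, show (⟨z, hzP⟩ : invAlg (Res M) P) ^ m = 0 from Subtype.ext (by
        rw [SubmonoidClass.coe_pow]; exact hzm), map_zero]
    have hczβ : Commute (br P z) β := (invOn_br ((invOn_top_iff.2 hzc).mono le_top) fun k hk y hy => by
      rw [← Subgroup.mem_centralizer_iff.1 hk y hy, mul_inv_cancel_right]; exact hy).comm hβs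
    have hm1 : 1 ≤ m := Nat.one_le_iff_ne_zero.2 fun h => by
      have := (Fact.out : p.Prime).two_le
      rw [h, mul_zero] at hm
      omega
    have h1 : (Φ S * (γ * β)) ^ m = 0 := by
      rw [← mul_assoc, ← hbr, hczβ.mul_pow, hbm, zero_mul]
    have hcS : Commute (Φ S) (γ * β) := (hΦinv S).comm (hγs.mul hβs)
    rw [hcS.mul_pow, ← map_pow] at h1
    have h2 : Φ (X 1 ^ (p - 1)) * (γ * β) ^ m = 0 := by
      rw [← hW, mul_comm (S ^ m) W, map_mul, mul_assoc, h1, mul_zero]
    obtain ⟨L, hL⟩ := hγβ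
    set j := L + m
    have hpj : j ≤ p ^ j := (Nat.lt_pow_self (Fact.out : p.Prime).one_lt).le
    have hpow0 : (γ * β - ((e : Res M) * r₀) • β) ^ (p ^ j) = 0 := pow_eq_zero_of_le (by omega) hL
    have hcc : Commute (γ * β) (((e : Res M) * r₀) • β) :=
      Commute.smul_right (hcγβ.mul_left (Commute.refl β)) _
    rw [sub_pow_char_pow_of_commute _ _ hcc, sub_eq_zero, smul_pow] at hpow0
    have h3 : Φ (X 1 ^ (p - 1)) * (γ * β) ^ (p ^ j) = 0 := by
      rw [show p ^ j = m + (p ^ j - m) from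
        (Nat.add_sub_cancel' ((Nat.le_add_left m L).trans hpj)).symm, pow_add, ← mul_assoc, h2, zero_mul]
    have hpj0 : p ^ j ≠ 0 := pow_ne_zero _ (Fact.out : p.Prime).ne_zero
    rw [hpow0, mul_smul_comm, IsIdempotentElem.pow_eq hββ hpj0] at h3
    have hX : Φ (X 1 ^ (p - 1)) * β = 0 := by
      refine (smul_eq_zero.1 h3).resolve_left (pow_ne_zero _ (mul_ne_zero ?_ hr₀))
      rw [Ne, CharP.cast_eq_zero_iff (Res M) p]
      exact fun h => by
        have := Nat.le_of_dvd (Nat.pos_of_ne_zero fun h0 => by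
          have := (Fact.out : p.Prime).two_le
          rw [h0, zero_mul] at hm; omega) h
        nlinarith
    have hlast : ((MonoidAlgebra.single u (1 : Res M) - 1) ^ (p - 1)) * β = 0 := by
      have hΦX : Φ (X 1) = MonoidAlgebra.single u (1 : Res M) - 1 := by
        simp only [X, map_sub, map_one, hΦs]
        show MonoidAlgebra.single (u ^ (1 : ZMod p).val) (1 : Res M) - 1 = _
        rw [ZMod.val_one, pow_one]
      rwa [map_pow, hΦX] at hX
    have hind := CyclicDefect.indep_shift_bi hM hpP hcB u₀.2 (q := p) hord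
    exact hind.ne_zero (⟨p - 1, by have := (Fact.out : p.Prime).pos; omega⟩ : Fin p) hlast

end Cfsg.Lib.Blocks.Frobenius
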